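import Cfsg.Agent.Lib.CoThreeM12.Swap
import Cfsg.Agent.Lib.Kondo.Transfer

/-!
# A bound for four-groups centralising a conjugate of `t`, and the parity criterion

A 2-group centralising a conjugate of `t` and two further commuting involutions has order at most `64`.
If a subgroup has a character taking the value `-1` on an odd multiple of the expected number of
conjugates of `t`, then `t` lies outside the 2-residual.
-/

set_option autoImplicit false
set_option linter.style.haveILetI false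
set_option linter.style.longLine false
set_option linter.unusedSectionVars false
set_option maxRecDepth 100000

namespace Cfsg.Lib.CoThreeM12

open Cfsg Cfsg.Lib.MTwelveRecog

universe u

theorem card_four_cent : ∀ i : Fin 192, cMul i i = 0 → i ≠ 0 → i ≠ cT → cCard i ≤ 32 := by decide +kernel

namespace Setup

variable {G : Type u} [Group G] (S : Setup G)

theorem card_le_of_pair [Finite G] {H : Subgroup G} (hp : IsPGroup 2 H) {x x' : stdTwelve} (hx : x * x = 1)
    (hx' : x' * x' = 1) (h1 : x ≠ 1) (h1' : x' ≠ 1) (hne : x ≠ x') (hxx : x * x' = x' * x)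
    (hH : ∀ h ∈ H, h * S.t = S.t * h ∧ h * S.φ x = S.φ x * h ∧ h * S.φ x' = S.φ x' * h) : Nat.card H ≤ 64 := by
  have hmap : ∀ m : stdTwelve, Nat.card (H.map (MulAut.conj (S.φ m)).toMonoidHom) = Nat.card H ∧
      IsPGroup 2 (H.map (MulAut.conj (S.φ m)).toMonoidHom) ∧
      ∀ h ∈ H.map (MulAut.conj (S.φ m)).toMonoidHom, h * S.t = S.t * h ∧
        h * (S.φ m * S.φ x * (S.φ m)⁻¹) = S.φ m * S.φ x * (S.φ m)⁻¹ * h ∧
        h * (S.φ m * S.φ x' * (S.φ m)⁻¹) = S.φ m * S.φ x' * (S.φ m)⁻¹ * h := fun m => by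
    refine ⟨Subgroup.card_map_of_injective (MulAut.conj (S.φ m)).injective, hp.map _, ?_⟩
    rintro _ ⟨h, hh, rfl⟩
    obtain ⟨e1, e2, e3⟩ := hH h hh
    have key : ∀ w : G, h * w = w * h → S.φ m * h * (S.φ m)⁻¹ * (S.φ m * w * (S.φ m)⁻¹) =
        S.φ m * w * (S.φ m)⁻¹ * (S.φ m * h * (S.φ m)⁻¹) := fun w hw => by
      rw [show S.φ m * h * (S.φ m)⁻¹ * (S.φ m * w * (S.φ m)⁻¹) = S.φ m * (h * w) * (S.φ m)⁻¹ by group, hw]
      group
    refine ⟨?_, key _ e2, key _ e3⟩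
    have := key _ e1
    rwa [S.conj_phi_t] at this
  have ha : ∀ m : stdTwelve, S.φ m * S.φ x * (S.φ m)⁻¹ = S.a ∨ S.φ m * S.φ x' * (S.φ m)⁻¹ = S.a →
      Nat.card H ≤ 64 := fun m hm => by
    obtain ⟨hc, hq, hcm⟩ := hmap m
    rw [← hc]
    refine (S.card_le_of_comm_a hq fun g hg => ?_).trans (by norm_num)
    obtain ⟨e1, e2, e3⟩ := hcm g hg
    rcases hm with e | e
    · exact ⟨e1, e ▸ e2⟩
    · exact ⟨e1, e ▸ e3⟩
  rcases S.phi_invol_cases hx h1 with ⟨m, hm⟩ | ⟨m, hm⟩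
  swap
  · exact ha m (Or.inl hm)
  obtain ⟨hc, -, hcm⟩ := hmap m
  have hcz : S.φ (m * x' * m⁻¹) * S.z = S.z * S.φ (m * x' * m⁻¹) := by
    rw [← hm, map_mul, map_mul, map_inv]
    calc S.φ m * S.φ x' * (S.φ m)⁻¹ * (S.φ m * S.φ x * (S.φ m)⁻¹) = S.φ m * S.φ (x' * x) * (S.φ m)⁻¹ := by
          rw [map_mul]; group
      _ = _ := by rw [← hxx, map_mul]; group
  obtain ⟨i, hi⟩ := S.phi_z_comm hcz
  rw [map_mul, map_mul, map_inv] at hi
  have hii : cMul i i = 0 := S.f_injective (by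
    rw [S.fmul, hi, S.fone, show S.φ m * S.φ x' * (S.φ m)⁻¹ * (S.φ m * S.φ x' * (S.φ m)⁻¹) =
      S.φ m * (S.φ x' * S.φ x') * (S.φ m)⁻¹ by group, ← map_mul, hx', map_one]
    group)
  have hi0 : i ≠ 0 := fun e => h1' (S.inj (by
    have h := hi
    rw [e, S.fone, eq_comm, conj_eq_one_iff] at h
    rw [h, map_one]))
  have hiT : i ≠ cT := fun e => hne (S.inj (mul_left_cancel (mul_right_cancel (hm.trans ((show S.z = S.f cT from rfl).trans (e ▸ hi))))))
  have hsub : (↑(H.map (MulAut.conj (S.φ m)).toMonoidHom) : Set G) ⊆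
      {g : G | (g * S.t = S.t * g ∧ g * S.z = S.z * g) ∧ g * S.f i = S.f i * g} := fun g hg => by
    obtain ⟨e1, e2, e3⟩ := hcm g hg
    rw [hm] at e2
    rw [← hi] at e3
    exact ⟨⟨e1, e2⟩, e3⟩
  have h2 := Set.ncard_le_ncard hsub
  rw [S.ncard_comm_set, ← Nat.card_coe_set_eq] at h2
  have h3 := card_four_cent i hii hi0 hiT
  rw [← hc]
  exact h2.trans (by omega)

/-- **The four-group bound.** -/
theorem card_le_of_four [Finite G] {H : Subgroup G} (hp : IsPGroup 2 H) {y u v : G} (hy : IsConj S.t y)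
    (hu : u * u = 1) (hv : v * v = 1) (huv : u * v = v * u) (hu1 : u ≠ 1) (hv1 : v ≠ 1) (hne : u ≠ v)
    (huy : u ≠ y) (hvy : v ≠ y) (huvy : u * v ≠ y) (hcu : u * y = y * u) (hcv : v * y = y * v)
    (hH : ∀ h ∈ H, h * y = y * h ∧ h * u = u * h ∧ h * v = v * h) : Nat.card H ≤ 64 := by
  obtain ⟨m, hm⟩ := isConj_iff.1 hy
  obtain ⟨c, hc⟩ : ∃ c : G →* G, ∀ g, c g = m⁻¹ * g * m :=
    ⟨(MulAut.conj m⁻¹).toMonoidHom, fun g => by simp [MulAut.conj_apply]⟩
  have hci : Function.Injective c := fun a b h => by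
    rw [hc, hc] at h; exact mul_left_cancel (mul_right_cancel h)
  have hcy : c y = S.t := by rw [hc, ← hm]; group
  have hpart : ∀ w : G, w * w = 1 → w ≠ 1 → w ≠ y → w * y = y * w →
      ∃ x : stdTwelve, x * x = 1 ∧ x ≠ 1 ∧ (c w = S.φ x ∨ c w = S.t * S.φ x) := fun w hw hw1 hwy hwc => by
    obtain ⟨x, hx | hx⟩ := S.mem (c w) (by rw [← hcy, ← map_mul, hwc, map_mul])
    · refine ⟨x, S.inj ?_, fun e => hw1 (hci ?_), Or.inl hx⟩
      · rw [map_mul, ← hx, ← map_mul, hw, map_one, map_one]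
      · rw [hx, e, map_one, map_one]
    · refine ⟨x, S.inj ?_, fun e => hwy (hci ?_), Or.inr hx⟩
      · rw [← S.t_phi_sq, ← hx, ← map_mul, hw, map_one, map_one]
      · rw [hx, e, map_one, mul_one, hcy]
  obtain ⟨x, hx, hx1, ex⟩ := hpart u hu hu1 huy hcu
  obtain ⟨x', hx', hx1', ex'⟩ := hpart v hv hv1 hvy hcv
  have strip : ∀ g w : G, g * S.t = S.t * g → g * (S.t * w) = S.t * w * g → g * w = w * g := fun g w h1 h2 => by
    rw [← mul_assoc, h1, mul_assoc, mul_assoc] at h2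
    exact mul_left_cancel h2
  have hxne : x ≠ x' := fun e => by
    subst e
    rcases ex with e1 | e1 <;> rcases ex' with e2 | e2
    · exact hne (hci (e1.trans e2.symm))
    · refine huvy (hci ?_)
      rw [map_mul, e1, e2, hcy, ← mul_assoc, S.comm, mul_assoc, ← map_mul, hx, map_one, mul_one]
    · refine huvy (hci ?_)
      rw [map_mul, e1, e2, hcy, mul_assoc, ← map_mul, hx, map_one, mul_one]
    · exact hne (hci (e1.trans e2.symm))
  have hof : ∀ g, g * S.t = S.t * g → ∀ (w : G) (z : stdTwelve), (c w = S.φ z ∨ c w = S.t * S.φ z) →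
      g * c w = c w * g → g * S.φ z = S.φ z * g := fun g hg w z e hgw => by
    rcases e with e | e <;> rw [e] at hgw
    · exact hgw
    · exact strip _ _ hg hgw
  have hxx : x * x' = x' * x := S.inj (by
    rw [map_mul, map_mul]
    have hst : c u * S.t = S.t * c u := by rw [← hcy, ← map_mul, hcu, map_mul]
    have h1 := hof (c u) hst v x' ex' (by rw [← map_mul, huv, map_mul])
    exact (hof (S.φ x') (S.comm _) u x ex h1.symm).symm)
  rw [← Subgroup.card_map_of_injective (f := c) hci (K := H)]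
  refine S.card_le_of_pair (hp.map _) hx hx' hx1 hx1' hxne hxx ?_
  rintro _ ⟨h, hh, rfl⟩
  obtain ⟨e1, e2, e3⟩ := hH h hh
  have ht : c h * S.t = S.t * c h := by rw [← hcy, ← map_mul, e1, map_mul]
  exact ⟨ht, hof _ ht u x ex (by rw [← map_mul, e2, map_mul]), hof _ ht v x' ex' (by rw [← map_mul, e3, map_mul])⟩

/-- **The parity criterion.** -/
theorem false_of_parity [Finite G] (hres : S.t ∈ Cfsg.pResidual 2 G) {Y : Subgroup G} (χ : Y →* ℤˣ) {r : ℕ}
    (hr : Odd r) (h : Nat.card {y : Y // χ y = -1 ∧ IsConj S.t (y : G)} * 190080 = Nat.card Y * r) : False := by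
  classical
  haveI := Fintype.ofFinite (G ⧸ Y)
  let P : G → Prop := fun g => ∃ hm : g⁻¹ * S.t * g ∈ Y, χ ⟨_, hm⟩ = -1
  have hPmul : ∀ g, P g → ∀ y : Y, P (g * y) := fun g ⟨hm, hv⟩ y => by
    obtain ⟨w, hw⟩ : ∃ w : Y, w = y⁻¹ * ⟨_, hm⟩ * y := ⟨_, rfl⟩
    have e : (g * y)⁻¹ * S.t * (g * y) = (w : G) := by
      rw [hw]; simp only [Subgroup.coe_mul, Subgroup.coe_inv]; group
    refine ⟨e ▸ w.2, ?_⟩
    have e2 : (⟨(g * y)⁻¹ * S.t * (g * y), e ▸ w.2⟩ : Y) = w := Subtype.ext e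
    rw [e2, hw, map_mul, map_mul, map_inv, mul_comm (χ y)⁻¹, mul_assoc, inv_mul_cancel, mul_one, hv]
  let ψ : G ⧸ Y → ℤˣ := fun c => if P c.out then -1 else 1
  have htr := Cfsg.Agent.Kondo.transfer_involution χ S.t S.t_sq ψ fun c _ hm => by
    show (if P c.out then (-1 : ℤˣ) else 1) = _
    rcases Int.units_eq_one_or (χ ⟨_, hm⟩) with hv | hv
    · rw [hv, if_neg]
      rintro ⟨_, hv'⟩
      exact absurd (hv.symm.trans hv') (by decide)
    · rw [hv, if_pos ⟨hm, hv⟩]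
  have hone : MonoidHom.transfer χ S.t = 1 := by
    refine MonoidHom.mem_ker.1 (show S.t ∈ (MonoidHom.transfer χ).ker from ?_)
    refine (Subgroup.closure_le _).2 (fun g hg => MonoidHom.mem_ker.2 ?_) hres
    have h1 := orderOf_map_dvd (MonoidHom.transfer χ) g
    have h2 : orderOf (MonoidHom.transfer χ g) ∣ 2 :=
      orderOf_dvd_of_pow_eq_one (by rcases Int.units_eq_one_or (MonoidHom.transfer χ g) with e | e <;> rw [e] <;> decide)
    exact orderOf_eq_one_iff.1 (Nat.dvd_one.1 (hg ▸ Nat.dvd_gcd h1 h2))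
  have hfix : ∀ c : G ⧸ Y, P c.out → S.t • c = c := fun c ⟨hm, _⟩ => by
    conv_rhs => rw [← QuotientGroup.out_eq' c]
    conv_lhs => rw [← QuotientGroup.out_eq' c]
    refine (QuotientGroup.eq (s := Y)).2 ?_
    show (S.t * c.out)⁻¹ * c.out ∈ Y
    rw [mul_inv_rev, S.t_inv]
    exact hm
  rw [hone] at htr
  have hprod : (∏ c ∈ Finset.univ.filter (fun c : G ⧸ Y => S.t • c = c), ψ c) =
      (-1) ^ Nat.card {c : G ⧸ Y // P c.out} := by
    rw [Finset.prod_ite, Finset.prod_const, Finset.prod_const_one, mul_one, Nat.card_eq_fintype_card,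
      Fintype.card_subtype, Finset.filter_filter]
    congr 2
    exact Finset.filter_congr fun c _ => ⟨fun h => h.2, fun h => ⟨hfix c h, h⟩⟩
  rw [hprod] at htr
  -- `g ↦ g⁻¹ t g` counts the elements with value `-1` in two ways
  let A := {g : G // P g}
  have hA1 : Nat.card A = Nat.card {c : G ⧸ Y // P c.out} * Nat.card Y := by
    rw [← Nat.card_prod]
    symm
    refine Nat.card_eq_of_bijective (fun q => ⟨q.1.1.out * q.2.1, hPmul _ q.1.2 q.2⟩) ⟨fun q q' h => ?_, fun g => ?_⟩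
    · have h' : q.1.1.out * q.2.1 = q'.1.1.out * q'.2.1 := congrArg Subtype.val h
      have e : q.1.1 = q'.1.1 := by
        rw [← QuotientGroup.out_eq' q.1.1, ← QuotientGroup.out_eq' q'.1.1, QuotientGroup.eq]
        have : q.1.1.out⁻¹ * q'.1.1.out = q.2.1 * q'.2.1⁻¹ := by
          rw [eq_mul_inv_iff_mul_eq, mul_assoc, ← h']; group
        rw [this]
        exact Y.mul_mem q.2.2 (Y.inv_mem q'.2.2)
      refine Prod.ext (Subtype.ext e) (Subtype.ext ?_)
      rw [e] at h'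
      exact mul_left_cancel h'
    · have hy : g.1⁻¹ * (g.1 : G ⧸ Y).out ∈ Y := QuotientGroup.eq.1 (QuotientGroup.out_eq' _).symm
      refine ⟨(⟨g.1, ?_⟩, ⟨_, Y.inv_mem hy⟩), Subtype.ext (by
        show (g.1 : G ⧸ Y).out * (g.1⁻¹ * (g.1 : G ⧸ Y).out)⁻¹ = g.1
        group)⟩
      have := hPmul _ g.2 ⟨_, hy⟩
      simpa [mul_inv_cancel_left] using this
  have hA2 : Nat.card A = Nat.card {y : Y // χ y = -1 ∧ IsConj S.t (y : G)} * 190080 := by
    rw [← S.card_centralizer_t_eq, ← Nat.card_prod]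
    have hpick : ∀ s : {y : Y // χ y = -1 ∧ IsConj S.t (y : G)}, ∃ m : G, m⁻¹ * S.t * m = s.1.1 := fun s => by
      obtain ⟨m, hm⟩ := isConj_iff.1 s.2.2
      exact ⟨m⁻¹, by rw [inv_inv]; exact hm⟩
    choose M hM using hpick
    symm
    refine Nat.card_eq_of_bijective (fun q => ⟨q.2.1 * M q.1, ?_⟩) ⟨fun q q' h => ?_, fun g => ?_⟩
    · have e : (q.2.1 * M q.1)⁻¹ * S.t * (q.2.1 * M q.1) = q.1.1.1 := by
        rw [show (q.2.1 * M q.1)⁻¹ * S.t * (q.2.1 * M q.1) = (M q.1)⁻¹ * (q.2.1⁻¹ * (S.t * q.2.1)) * M q.1 by group,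
          ← Subgroup.mem_centralizer_singleton_iff.1 q.2.2, inv_mul_cancel_left, hM]
      refine ⟨e ▸ q.1.1.2, ?_⟩
      rw [show (⟨_, e ▸ q.1.1.2⟩ : Y) = q.1.1 from Subtype.ext e]
      exact q.1.2.1
    · have h' : q.2.1 * M q.1 = q'.2.1 * M q'.1 := congrArg Subtype.val h
      have key : ∀ q : {y : Y // χ y = -1 ∧ IsConj S.t (y : G)} × Subgroup.centralizer ({S.t} : Set G),
          (q.2.1 * M q.1)⁻¹ * S.t * (q.2.1 * M q.1) = q.1.1.1 := fun q => by
        rw [show (q.2.1 * M q.1)⁻¹ * S.t * (q.2.1 * M q.1) = (M q.1)⁻¹ * (q.2.1⁻¹ * (S.t * q.2.1)) * M q.1 by group,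
          ← Subgroup.mem_centralizer_singleton_iff.1 q.2.2, inv_mul_cancel_left, hM]
      have e : q.1 = q'.1 := Subtype.ext (Subtype.ext (by rw [← key q, ← key q', h']))
      refine Prod.ext e (Subtype.ext ?_)
      rw [e] at h'
      exact mul_right_cancel h'
    · obtain ⟨g, hm, hv⟩ := g
      let s : {y : Y // χ y = -1 ∧ IsConj S.t (y : G)} :=
        ⟨⟨_, hm⟩, hv, isConj_iff.2 ⟨g⁻¹, by rw [inv_inv]⟩⟩
      have hc : g * (M s)⁻¹ ∈ Subgroup.centralizer ({S.t} : Set G) := by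
        rw [Subgroup.mem_centralizer_singleton_iff]
        have h1 : (M s)⁻¹ * S.t * M s = g⁻¹ * S.t * g := hM s
        calc g * (M s)⁻¹ * S.t = g * ((M s)⁻¹ * S.t * M s) * (M s)⁻¹ := by group
          _ = _ := by rw [h1]; group
      exact ⟨(s, ⟨_, hc⟩), Subtype.ext (inv_mul_cancel_right g (M s))⟩
  rw [hA2, h, mul_comm] at hA1
  have hYpos : 0 < Nat.card Y := Nat.card_pos
  rw [← Nat.eq_of_mul_eq_mul_right hYpos hA1, hr.neg_one_pow] at htr
  exact absurd htr (by decide)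

end Setup

end Cfsg.Lib.CoThreeM12
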