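import Cfsg.Agent.Lib.CoThreeM12.ZeroY
import Cfsg.Agent.Lib.CoThreeM12.Parity

/-!
# The model `k = 0` contradicts `t ∈ O²(G)`
-/

set_option autoImplicit false
set_option linter.style.longLine false
set_option maxRecDepth 100000

namespace Cfsg.Lib.CoThreeM12

open Cfsg Cfsg.Lib.MTwelveRecog Setup

universe u

namespace Tr

variable {G : Type u} [Group G] {S : Setup G} (T : Tr S 0)

/-- **`k = 0` is impossible.** -/
theorem false_of_zero [Finite G] (hres : S.t ∈ Cfsg.pResidual 2 G) (R : T.Rels parZero) : False := by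
  refine S.false_of_parity hres (T.chiY R) (r := 1485) ⟨742, rfl⟩ ?_
  rw [T.card_Y R, T.card_minus R fun x hx => T.side_not_isConj R
    (fun {H} hp {y u v} => S.card_le_of_four hp) hx]

end Tr

end Cfsg.Lib.CoThreeM12
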