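import Cfsg.Agent.Lib.CoThreeM12.Facts
import Cfsg.Agent.Lib.MTwelveRecog.Setup

/-!
# The involutions of the standard group of degree twelve
-/

set_option autoImplicit false
set_option linter.style.haveILetI false
set_option maxRecDepth 100000

namespace Cfsg.Lib.CoThreeM12

open Cfsg Cfsg.Lib.MTwelveRecog

/-- An index as an element of the standard group. -/
def elM (i : Fin 192) : stdTwelve := ⟨el i, el_mem i⟩

theorem elM_mul (i j : Fin 192) : elM (cMul i j) = elM i * elM j := Subtype.ext (el_mul i j)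

theorem elM_inv (i : Fin 192) : elM (cInv i) = (elM i)⁻¹ := Subtype.ext (el_inv i)

theorem elM_zero : elM 0 = 1 := Subtype.ext el_zero

theorem elM_injective : Function.Injective elM := fun _ _ h => el_injective (congrArg Subtype.val h)

theorem elM_conj (h i : Fin 192) : elM (cConj h i) = elM h * elM i * (elM h)⁻¹ := by
  rw [cConj, elM_mul, elM_mul, elM_inv]

theorem isConj_elM_rep (i : Fin 192) : IsConj (elM i) (elM (cRep i)) :=
  (isConj_iff.2 ⟨elM (cWit i), by rw [← elM_conj, cConj_wit]⟩).symm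

theorem isConj_elM_center (k : Fin 2) : IsConj (elM (conjRep k)) (elM cT) := by
  set w : stdTwelve := ⟨((conjWord k).map stdGen).prod, Subgroup.list_prod_mem _ fun q hq => by
    obtain ⟨j, -, rfl⟩ := List.mem_map.1 hq
    exact stdGen_mem j⟩ with hw
  refine isConj_iff.2 ⟨w, mul_inv_eq_iff_eq_mul.2 (Subtype.ext (Equiv.ext fun p => ?_))⟩
  exact conjWord_spec k p

/-- The classes 9 and 12 fuse into the centre. -/
theorem isConj_elM_nine {i : Fin 192} (h : cCls i = 9 ∨ cCls i = 12) : IsConj (elM i) (elM cT) := by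
  have e := cls_rep_eq i
  rcases h with h | h
  · have := isConj_elM_rep i
    rw [e.2.1 h] at this
    exact this.trans (isConj_elM_center 0)
  · have := isConj_elM_rep i
    rw [e.2.2 h] at this
    exact this.trans (isConj_elM_center 1)

theorem isConj_elM_four {i : Fin 192} (h : cCls i = 4) : IsConj (elM i) (elM 55) := by
  have := isConj_elM_rep i
  rwa [(cls_rep_eq i).1 h] at this

theorem exists_sylStd : ∃ Q : Sylow 2 stdTwelve, (Q : Subgroup stdTwelve) = sylStd := by
  haveI : Fact (Nat.Prime 2) := ⟨Nat.prime_two⟩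
  refine ⟨Sylow.ofCard sylStd ?_, Sylow.coe_ofCard _ _⟩
  rw [card_sylStd, card_stdTwelve, show (95040 : ℕ) = 2 ^ 6 * 1485 by norm_num,
    Nat.factorization_mul (by norm_num) (by norm_num), Finsupp.add_apply,
    Nat.Prime.factorization_pow Nat.prime_two, Finsupp.single_eq_same,
    Nat.factorization_eq_zero_of_not_dvd (by norm_num : ¬ 2 ∣ 1485)]
  norm_num

/-- A 2-subgroup moves into the Sylow subgroup. -/
theorem exists_conj_syl {H : Subgroup stdTwelve} (hH : IsPGroup 2 H) :
    ∃ g : stdTwelve, ∀ x ∈ H, ∃ i, inSyl i = true ∧ g * x * g⁻¹ = elM i := by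
  haveI : Fact (Nat.Prime 2) := ⟨Nat.prime_two⟩
  obtain ⟨Q, hQ⟩ := exists_sylStd
  obtain ⟨P, hP⟩ := hH.exists_le_sylow
  obtain ⟨g, hg⟩ := MulAction.exists_smul_eq stdTwelve P Q
  refine ⟨g, fun x hx => ?_⟩
  have : g * x * g⁻¹ ∈ (Q : Subgroup stdTwelve) := by
    rw [← hg, Sylow.coe_subgroup_smul, Subgroup.mem_smul_pointwise_iff_exists]
    exact ⟨x, hP hx, rfl⟩
  rw [hQ] at this
  obtain ⟨i, hi, e⟩ := this
  exact ⟨i, hi, Subtype.ext e.symm⟩

/-- An involution is conjugate to the central one or to the one without fixed points. -/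
theorem invol_cases {x : stdTwelve} (hx : x * x = 1) (hx1 : x ≠ 1) :
    IsConj x (elM cT) ∨ IsConj x (elM 55) := by
  haveI : Fact (Nat.Prime 2) := ⟨Nat.prime_two⟩
  have hp : IsPGroup 2 (Subgroup.zpowers x) := IsPGroup.of_card (n := 1) (by
    rw [Nat.card_zpowers, orderOf_eq_prime (by rw [sq, hx]) hx1, pow_one])
  obtain ⟨g, hg⟩ := exists_conj_syl hp
  obtain ⟨i, -, e⟩ := hg x (Subgroup.mem_zpowers x)
  have hc : IsConj x (elM i) := isConj_iff.2 ⟨g, e⟩
  have hsq : cMul i i = 0 := elM_injective (by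
    rw [elM_mul, elM_zero, ← e, show g * x * g⁻¹ * (g * x * g⁻¹) = g * (x * x) * g⁻¹ by group, hx]
    group)
  have h0 : i ≠ 0 := fun h => by
    rw [h, elM_zero, conj_eq_one_iff] at e
    exact hx1 e
  rcases sq_cases i hsq with h | h | h | h | h
  · exact absurd h h0
  · exact Or.inl (h ▸ hc)
  · exact Or.inr (hc.trans (isConj_elM_four h))
  · exact Or.inl (hc.trans (isConj_elM_nine (Or.inl h)))
  · exact Or.inl (hc.trans (isConj_elM_nine (Or.inr h)))

theorem elM_comm_iff (i j : Fin 192) : elM i * elM j = elM j * elM i ↔ cCm i j = true := by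
  rw [← elM_mul, ← elM_mul, cCm, beq_iff_eq]
  exact ⟨fun h => elM_injective h, fun h => by rw [h]⟩

/-- The centre of the Sylow subgroup is not without fixed points. -/
theorem not_isConj_four_center : ¬ IsConj (elM 55) (elM cT) := by
  intro h
  haveI : Fact (Nat.Prime 2) := ⟨Nat.prime_two⟩
  obtain ⟨g, hg⟩ := isConj_iff.1 h.symm
  have hH : IsPGroup 2 ((sylStd).map (MulAut.conj g).toMonoidHom) :=
    (IsPGroup.of_card (n := 6) (by rw [card_sylStd]; norm_num)).map _
  obtain ⟨k, hk⟩ := exists_conj_syl hH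
  obtain ⟨i, hi, he⟩ := hk (elM 55) ⟨elM cT, ⟨cT, inSyl_facts.2.1, rfl⟩, hg⟩
  have hcls : cCls i = 4 ∨ cMul i i = 0 ∧ i ≠ 0 ∧ cCls i ≠ 4 := by
    by_cases h4 : cCls i = 4
    · exact Or.inl h4
    · refine Or.inr ⟨elM_injective ?_, fun h0 => ?_, h4⟩
      · rw [elM_mul, elM_zero, ← he, show k * elM 55 * k⁻¹ * (k * elM 55 * k⁻¹) = k * (elM 55 * elM 55) * k⁻¹ by
          group, ← elM_mul, show cMul 55 55 = (0 : Fin 192) by decide +kernel, elM_zero]
        group
      · rw [h0, elM_zero, conj_eq_one_iff, ← elM_zero] at he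
        exact absurd (elM_injective he) (by decide)
  have hall : ∀ j, inSyl j = true → cCm i j = true := by
    intro j hj
    obtain ⟨Q, hQ⟩ := exists_sylStd
    let F : sylStd → sylStd := fun x => ⟨k * (g * x.1 * g⁻¹) * k⁻¹, by
      obtain ⟨l, hl, e⟩ := hk (g * x.1 * g⁻¹) ⟨x.1, x.2, rfl⟩
      rw [e]; exact ⟨l, hl, rfl⟩⟩
    haveI : Finite sylStd := Nat.finite_of_card_ne_zero (by rw [card_sylStd]; norm_num)
    obtain ⟨x, hx⟩ := Finite.injective_iff_surjective.1 (fun a b e => Subtype.ext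
      (mul_left_cancel (mul_right_cancel (mul_left_cancel (mul_right_cancel (congrArg Subtype.val e)))))
      : Function.Injective F) ⟨elM j, j, hj, rfl⟩
    have hxe : k * (g * x.1 * g⁻¹) * k⁻¹ = elM j := congrArg Subtype.val hx
    obtain ⟨l, hl, hle⟩ := x.2
    refine (elM_comm_iff i j).1 ?_
    have hc : elM cT * x.1 = x.1 * elM cT := by
      rw [show x.1 = elM l from Subtype.ext hle.symm, ← elM_mul, ← elM_mul, (cT_central l).1]
    rw [← he, ← hxe, ← hg]
    calc k * (g * elM cT * g⁻¹) * k⁻¹ * (k * (g * x.1 * g⁻¹) * k⁻¹)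
        = k * g * (elM cT * x.1) * g⁻¹ * k⁻¹ := by group
      _ = k * g * (x.1 * elM cT) * g⁻¹ * k⁻¹ := by rw [hc]
      _ = k * (g * x.1 * g⁻¹) * k⁻¹ * (k * (g * elM cT * g⁻¹) * k⁻¹) := by group
  rcases hcls with h4 | ⟨-, h0, h4⟩
  · have := syl_cent_card i hi h4
    have heq : ((List.finRange 192).filter fun j => inSyl j && cCm i j) = (List.finRange 192).filter inSyl :=
      List.filter_congr fun j _ => by
        cases hb : inSyl j
        · simp
        · simp [hall j hb]
    rw [heq, inSyl_facts.2.2.2.2.1] at this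
    omega
  · have hT : i = cT := (inSyl_facts.2.2.2.2.2 i hi fun j hj => by
      simpa [cCm] using hall j hj).resolve_left h0
    subst hT
    -- the two classes have different numbers of fixed points
    have e := congrArg (fun x : stdTwelve => (x : Equiv.Perm (Fin 12))) he
    have h2 : ∀ p, el 55 p ≠ p := by decide +kernel
    have h3 : el cT 11 = 11 := tStd_last
    refine h2 ((k : Equiv.Perm (Fin 12))⁻¹ 11) ?_
    have e' := congrArg (fun σ : Equiv.Perm (Fin 12) => σ 11) e
    simp only [elM, Subgroup.coe_mul, Subgroup.coe_inv, Equiv.Perm.mul_apply, h3] at e'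
    rw [Equiv.Perm.eq_inv_iff_eq]
    exact e'

/-- A 2-subgroup centralising `55` has order at most 16. -/
theorem card_le_sixteen {H : Subgroup stdTwelve} (hH : IsPGroup 2 H)
    (hc : ∀ x ∈ H, x * elM 55 = elM 55 * x) : Nat.card H ≤ 16 := by
  classical
  haveI : Fact (Nat.Prime 2) := ⟨Nat.prime_two⟩
  have hz : IsPGroup 2 (Subgroup.zpowers (elM 55)) := IsPGroup.of_card (n := 1) (by
    rw [Nat.card_zpowers, pow_one]
    refine orderOf_eq_prime ?_ fun h => absurd (elM_injective (h.trans elM_zero.symm)) (by decide)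
    rw [sq, ← elM_mul, show cMul 55 55 = (0 : Fin 192) by decide +kernel, elM_zero])
  have hnorm : H ≤ Subgroup.normalizer (Subgroup.zpowers (elM 55) : Set stdTwelve) := by
    intro x hx
    rw [Subgroup.mem_normalizer_iff]
    intro y
    have hcx : Commute x (elM 55) := hc x hx
    have key : ∀ m : ℤ, x * (elM 55) ^ m * x⁻¹ = (elM 55) ^ m := fun m => by
      rw [(hcx.zpow_right m).eq, mul_inv_cancel_right]
    constructor
    · rintro ⟨m, rfl⟩; exact ⟨m, (key m).symm⟩
    · rintro ⟨m, hm⟩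
      refine ⟨m, ?_⟩
      have e : x * (elM 55) ^ m * x⁻¹ = x * y * x⁻¹ := (key m).trans hm
      exact mul_left_cancel (mul_right_cancel e)
  obtain ⟨g, hg⟩ := exists_conj_syl (hH.to_sup_of_normal_right' hz hnorm)
  obtain ⟨i, hi, hie⟩ := hg (elM 55) (Subgroup.mem_sup_right (Subgroup.mem_zpowers _))
  have h4 : cCls i = 4 := by
    have hcj : IsConj (elM 55) (elM i) := isConj_iff.2 ⟨g, hie⟩
    by_contra h4
    have hsq : cMul i i = 0 := elM_injective (by
      rw [elM_mul, elM_zero, ← hie, show g * elM 55 * g⁻¹ * (g * elM 55 * g⁻¹) = g * (elM 55 * elM 55) * g⁻¹ by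
        group, ← elM_mul, show cMul 55 55 = (0 : Fin 192) by decide +kernel, elM_zero]
      group)
    rcases sq_cases i hsq with h | h | h | h | h
    · rw [h, elM_zero, conj_eq_one_iff, ← elM_zero] at hie
      exact absurd (elM_injective hie) (by decide)
    · exact not_isConj_four_center (h ▸ hcj)
    · exact h4 h
    · exact not_isConj_four_center (hcj.trans (isConj_elM_nine (Or.inl h)))
    · exact not_isConj_four_center (hcj.trans (isConj_elM_nine (Or.inr h)))
  have hb : ∀ x : H, ∃ j : Fin 192, (inSyl j && cCm i j) = true ∧ g * x.1 * g⁻¹ = elM j := by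
    intro x
    obtain ⟨j, hj, hje⟩ := hg x.1 (Subgroup.mem_sup_left x.2)
    refine ⟨j, ?_, hje⟩
    rw [Bool.and_eq_true]
    refine ⟨hj, (elM_comm_iff i j).1 ?_⟩
    rw [← hie, ← hje]
    calc g * elM 55 * g⁻¹ * (g * x.1 * g⁻¹) = g * (elM 55 * x.1) * g⁻¹ := by group
      _ = g * (x.1 * elM 55) * g⁻¹ := by rw [hc x.1 x.2]
      _ = g * x.1 * g⁻¹ * (g * elM 55 * g⁻¹) := by group
  choose F hF hFe using hb
  let F' : H → {j : Fin 192 // (inSyl j && cCm i j) = true} := fun x => ⟨F x, hF x⟩
  have hinj : Function.Injective F' := fun x y e => Subtype.ext (by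
    have := congrArg (fun s : {j : Fin 192 // (inSyl j && cCm i j) = true} => elM s.1) e
    simp only [F', ← hFe] at this
    exact mul_left_cancel (mul_right_cancel this))
  refine (Nat.card_le_card_of_injective F' hinj).trans (le_of_eq_of_le ?_ (syl_cent_card i hi h4))
  rw [Nat.card_eq_fintype_card, Fintype.card_subtype,
    ← List.toFinset_card_of_nodup ((List.nodup_finRange 192).filter _)]
  congr 1
  ext j
  simp

end Cfsg.Lib.CoThreeM12
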