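import Cfsg.Agent.Lib.CoThreeM12.Setup
import Cfsg.Agent.Lib.CoThreeM12.MData

/-!
# The centralisers of `t`, `z` and `a` in the setup
-/

set_option autoImplicit false
set_option linter.style.haveILetI false
set_option linter.unusedSectionVars false
set_option maxRecDepth 100000

namespace Cfsg.Lib.CoThreeM12

open Cfsg Cfsg.Lib.MTwelveRecog

universe u

namespace Setup

variable {G : Type u} [Group G] (S : Setup G)

theorem f_eq (i : Fin 192) : S.f i = S.φ (elM i) := rfl

theorem f_eq_one_iff {i : Fin 192} : S.f i = 1 ↔ i = 0 :=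
  ⟨fun h => S.f_injective (h.trans S.fone.symm), fun h => h ▸ S.fone⟩

theorem t_inv : S.t⁻¹ = S.t := inv_eq_of_mul_eq_one_right S.t_sq

theorem t_phi_sq (x : stdTwelve) : S.t * S.φ x * (S.t * S.φ x) = S.φ (x * x) := by
  rw [map_mul, show S.t * S.φ x * (S.t * S.φ x) = S.t * (S.φ x * S.t) * S.φ x by group, S.comm,
    ← mul_assoc, S.t_sq, one_mul]

theorem t_mul_phi_ne (x y : stdTwelve) : S.t * S.φ x ≠ S.φ y := fun h =>
  S.ne_phi (y * x⁻¹) (by rw [map_mul, map_inv, ← h, mul_inv_cancel_right])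

theorem tf_ne_f (i j : Fin 192) : S.t * S.f i ≠ S.f j := S.t_mul_phi_ne _ _

/-- The involutions of the copy of M12. -/
theorem phi_invol_cases {x : stdTwelve} (hx : x * x = 1) (hx1 : x ≠ 1) :
    (∃ m, S.φ m * S.φ x * (S.φ m)⁻¹ = S.z) ∨ ∃ m, S.φ m * S.φ x * (S.φ m)⁻¹ = S.a := by
  rcases invol_cases hx hx1 with h | h <;> obtain ⟨m, hm⟩ := isConj_iff.1 h
  · exact Or.inl ⟨m, by rw [← map_inv, ← map_mul, ← map_mul, hm]; rfl⟩
  · exact Or.inr ⟨m, by rw [← map_inv, ← map_mul, ← map_mul, hm]; rfl⟩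

theorem conj_phi_t (m : stdTwelve) : S.φ m * S.t * (S.φ m)⁻¹ = S.t := by
  rw [S.comm, mul_inv_cancel_right]

theorem phi_z_comm {x : stdTwelve} (h : S.φ x * S.z = S.z * S.φ x) : ∃ i, S.f i = S.φ x := by
  rw [z, f_eq, ← map_mul, ← map_mul] at h
  obtain ⟨i, hi⟩ := exists_el_of_comm x.2 (congrArg Subtype.val (S.inj h))
  exact ⟨i, congrArg S.φ (Subtype.ext hi)⟩

/-- The elements centralising `t` and `z`. -/
theorem mem_iff_tz (g : G) : g * S.t = S.t * g ∧ g * S.z = S.z * g ↔ ∃ i, g = S.f i ∨ g = S.t * S.f i := by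
  constructor
  · rintro ⟨h1, h2⟩
    obtain ⟨x, rfl | rfl⟩ := S.mem g h1
    · obtain ⟨i, hi⟩ := S.phi_z_comm h2
      exact ⟨i, Or.inl hi.symm⟩
    · have h3 : S.φ x * S.z = S.z * S.φ x := by
        refine mul_left_cancel (a := S.t) ?_
        rw [← mul_assoc, h2, ← mul_assoc S.t S.z, z, ← S.comm_f, mul_assoc]
      obtain ⟨i, hi⟩ := S.phi_z_comm h3
      exact ⟨i, Or.inr (by rw [hi])⟩
  · rintro ⟨i, rfl | rfl⟩
    · exact ⟨S.comm_f i, by rw [z, ← S.fmul, ← S.fmul, (cT_central i).1]⟩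
    · refine ⟨by rw [mul_assoc, S.comm_f], ?_⟩
      rw [z, mul_assoc, ← S.fmul, (cT_central i).1, S.fmul, ← mul_assoc, ← S.comm_f, mul_assoc]

/-- `⟨t⟩` times the elements of a set of indices. -/
def dblSet (P : Fin 192 → Bool) : Set G := {g | ∃ i, P i = true ∧ (g = S.f i ∨ g = S.t * S.f i)}

theorem ncard_dblSet (P : Fin 192 → Bool) :
    (S.dblSet P).ncard = 2 * ((List.finRange 192).filter P).length := by
  classical
  let F : Bool × {i : Fin 192 // P i = true} → S.dblSet P := fun p =>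
    ⟨if p.1 then S.t * S.f p.2.1 else S.f p.2.1, p.2.1, p.2.2, by cases p.1 <;> simp⟩
  have hF : Function.Bijective F := by
    refine ⟨?_, ?_⟩
    · rintro ⟨b, i⟩ ⟨c, j⟩ h
      have h' := congrArg Subtype.val h
      cases b <;> cases c <;> simp only [F, Bool.false_eq_true, if_true, if_false] at h'
      · exact Prod.ext rfl (Subtype.ext (S.f_injective h'))
      · exact absurd h'.symm (S.tf_ne_f _ _)
      · exact absurd h' (S.tf_ne_f _ _)
      · exact Prod.ext rfl (Subtype.ext (S.f_injective (mul_left_cancel h')))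
    · rintro ⟨g, i, hi, rfl | rfl⟩
      · exact ⟨(false, ⟨i, hi⟩), rfl⟩
      · exact ⟨(true, ⟨i, hi⟩), rfl⟩
  rw [← Nat.card_coe_set_eq, ← Nat.card_eq_of_bijective F hF, Nat.card_prod,
    Nat.card_eq_fintype_card (α := Bool), Fintype.card_bool, Nat.card_eq_fintype_card, Fintype.card_subtype,
    ← List.toFinset_card_of_nodup ((List.nodup_finRange 192).filter P)]
  congr 2
  ext i
  simp

theorem dblSet_mul {P : Fin 192 → Bool} (hP : ∀ i j, P i = true → P j = true → P (cMul i j) = true)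
    {x y : G} (hx : x ∈ S.dblSet P) (hy : y ∈ S.dblSet P) : x * y ∈ S.dblSet P := by
  obtain ⟨i, hi, hx⟩ := hx
  obtain ⟨j, hj, hy⟩ := hy
  refine ⟨cMul i j, hP i j hi hj, ?_⟩
  rw [S.fmul]
  rcases hx with rfl | rfl <;> rcases hy with rfl | rfl
  · exact Or.inl rfl
  · right; rw [← mul_assoc, S.comm_f, mul_assoc]
  · right; rw [mul_assoc]
  · left
    rw [show S.t * S.f i * (S.t * S.f j) = S.t * (S.f i * S.t) * S.f j by group, S.comm_f, ← mul_assoc, S.t_sq,
      one_mul]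

/-- The subgroup on such a set. -/
def dbl (P : Fin 192 → Bool) (h0 : P 0 = true) (hP : ∀ i j, P i = true → P j = true → P (cMul i j) = true)
    (hi : ∀ i, P i = true → P (cInv i) = true) : Subgroup G where
  carrier := S.dblSet P
  one_mem' := ⟨0, h0, Or.inl S.fone.symm⟩
  mul_mem' := S.dblSet_mul hP
  inv_mem' := by
    rintro x ⟨i, hx, rfl | rfl⟩
    · exact ⟨cInv i, hi i hx, Or.inl (S.finv i).symm⟩
    · refine ⟨cInv i, hi i hx, Or.inr ?_⟩
      rw [mul_inv_rev, S.t_inv, ← S.finv, S.comm_f]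

/-- The Sylow subgroup `⟨t⟩ × T` of the centraliser. -/
def syl : Subgroup G := S.dbl inSyl inSyl_facts.1 inSyl_facts.2.2.1 inSyl_facts.2.2.2.1

theorem inCent_closed : inCent 0 = true ∧
    (∀ i j : Fin 192, inCent i = true → inCent j = true → inCent (cMul i j) = true) ∧
    (∀ i : Fin 192, inCent i = true → inCent (cInv i) = true) ∧
    (∀ i : Fin 192, inCent i = true → cMul i cT = cMul cT i) := by
  decide +kernel

/-- The Sylow subgroup `⟨t⟩ × C_Q(a)` of the common centraliser of `t` and `a`. -/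
def cen : Subgroup G := S.dbl inCent inCent_closed.1 inCent_closed.2.1 inCent_closed.2.2.1

theorem card_syl : Nat.card S.syl = 128 := by
  show Nat.card (S.dblSet inSyl) = _
  rw [Nat.card_coe_set_eq, S.ncard_dblSet, inSyl_facts.2.2.2.2.1]

theorem card_cen : Nat.card S.cen = 32 := by
  show Nat.card (S.dblSet inCent) = _
  rw [Nat.card_coe_set_eq, S.ncard_dblSet, cent_facts.1]

theorem t_mem_syl : S.t ∈ S.syl := ⟨0, inSyl_facts.1, Or.inr (by rw [S.fone, mul_one])⟩

theorem f_mem_syl {i : Fin 192} (h : inSyl i = true) : S.f i ∈ S.syl := ⟨i, h, Or.inl rfl⟩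

theorem z_mem_syl : S.z ∈ S.syl := S.f_mem_syl inSyl_facts.2.1

theorem syl_comm {g : G} (hg : g ∈ S.syl) : g * S.t = S.t * g ∧ g * S.z = S.z * g := by
  obtain ⟨i, -, h⟩ := hg
  exact (S.mem_iff_tz g).2 ⟨i, h⟩

theorem isPGroup_syl : IsPGroup 2 S.syl := IsPGroup.of_card (n := 7) (by rw [S.card_syl]; norm_num)

theorem isPGroup_cen : IsPGroup 2 S.cen := IsPGroup.of_card (n := 5) (by rw [S.card_cen]; norm_num)

/-- The sign of an element of the centraliser: trivial on the copy of M12. -/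
noncomputable def sgn (g : Subgroup.centralizer ({S.t} : Set G)) : ℤˣ :=
  haveI := Classical.dec (∃ x, (g : G) = S.φ x)
  if ∃ x, (g : G) = S.φ x then 1 else -1

theorem sgn_phi {g : Subgroup.centralizer ({S.t} : Set G)} {x : stdTwelve} (h : (g : G) = S.φ x) : S.sgn g = 1 := by
  rw [sgn, if_pos ⟨x, h⟩]

theorem sgn_tphi {g : Subgroup.centralizer ({S.t} : Set G)} {x : stdTwelve} (h : (g : G) = S.t * S.φ x) :
    S.sgn g = -1 := by
  rw [sgn, if_neg]
  rintro ⟨y, hy⟩
  exact S.t_mul_phi_ne x y (h.symm.trans hy)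

/-- The sign as a character. -/
noncomputable def sgnHom : Subgroup.centralizer ({S.t} : Set G) →* ℤˣ :=
  MonoidHom.mk' S.sgn fun g h => by
    obtain ⟨x, hx | hx⟩ := S.mem g (Subgroup.mem_centralizer_singleton_iff.1 g.2) <;>
      obtain ⟨y, hy | hy⟩ := S.mem h (Subgroup.mem_centralizer_singleton_iff.1 h.2)
    · rw [S.sgn_phi hx, S.sgn_phi hy, S.sgn_phi (x := x * y) (by rw [Subgroup.coe_mul, hx, hy, map_mul]), one_mul]
    · rw [S.sgn_phi hx, S.sgn_tphi hy, S.sgn_tphi (x := x * y) (by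
        rw [Subgroup.coe_mul, hx, hy, map_mul, ← mul_assoc, S.comm, mul_assoc]), one_mul]
    · rw [S.sgn_tphi hx, S.sgn_phi hy, S.sgn_tphi (x := x * y) (by
        rw [Subgroup.coe_mul, hx, hy, map_mul, mul_assoc]), mul_one]
    · rw [S.sgn_tphi hx, S.sgn_tphi hy, S.sgn_phi (x := x * y) (by
        rw [Subgroup.coe_mul, hx, hy, map_mul, show S.t * S.φ x * (S.t * S.φ y) = S.t * (S.φ x * S.t) * S.φ y by
          group, S.comm, ← mul_assoc, S.t_sq, one_mul]), neg_mul_neg, one_mul]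

/-- A subgroup centralising `t` is at most twice its part in the copy of M12. -/
theorem exists_part (H : Subgroup G) (hH : ∀ g ∈ H, g * S.t = S.t * g) [Finite G] :
    ∃ K : Subgroup stdTwelve, (∀ x ∈ K, S.φ x ∈ H) ∧ Nat.card H ≤ 2 * Nat.card K := by
  let inc : H →* Subgroup.centralizer ({S.t} : Set G) := Subgroup.inclusion fun g hg =>
    Subgroup.mem_centralizer_singleton_iff.2 (hH g hg)
  let χ : H →* ℤˣ := S.sgnHom.comp inc
  refine ⟨H.comap S.φ, fun x hx => hx, ?_⟩
  have h1 := χ.ker.card_mul_index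
  have h2 : χ.ker.index ≤ 2 := by
    rw [Subgroup.index_ker]
    refine (Nat.card_le_card_of_injective Subtype.val Subtype.val_injective).trans (le_of_eq ?_)
    rw [Nat.card_eq_fintype_card, Fintype.card_units_int]
  have hk : ∀ g : χ.ker, ∃ x : H.comap S.φ, S.φ x.1 = g.1.1 := by
    rintro ⟨⟨g, hg⟩, hgk⟩
    obtain ⟨x, hx | hx⟩ := S.mem g (hH g hg)
    · exact ⟨⟨x, Subgroup.mem_comap.2 (hx ▸ hg)⟩, hx.symm⟩
    · exfalso
      have e : χ ⟨g, hg⟩ = -1 := S.sgn_tphi (x := x) hx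
      rw [MonoidHom.mem_ker.1 hgk] at e
      exact absurd e (by decide)
  choose F hF using hk
  haveI : Finite stdTwelve := Nat.finite_of_card_ne_zero (by rw [card_stdTwelve]; norm_num)
  have hinj : Function.Injective F := fun a b e => Subtype.ext (Subtype.ext (by rw [← hF, ← hF, e]))
  have h3 := Nat.card_le_card_of_injective F hinj
  calc Nat.card H = Nat.card χ.ker * χ.ker.index := h1.symm
    _ ≤ Nat.card (H.comap S.φ) * 2 := Nat.mul_le_mul h3 h2
    _ = _ := mul_comm _ _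

theorem card_le_of_comm_a [Finite G] {H : Subgroup G} (hp : IsPGroup 2 H)
    (hH : ∀ g ∈ H, g * S.t = S.t * g ∧ g * S.a = S.a * g) : Nat.card H ≤ 32 := by
  obtain ⟨K, hK, hle⟩ := S.exists_part H fun g hg => (hH g hg).1
  let F : K →* H := (S.φ.comp K.subtype).codRestrict H fun x => hK x.1 x.2
  have hKp : IsPGroup 2 K := hp.of_injective F fun x y e => Subtype.ext (S.inj (congrArg Subtype.val e))
  have := card_le_sixteen hKp fun x hx => S.inj (by
    rw [map_mul, map_mul]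
    exact (hH _ (hK x hx)).2)
  omega

theorem card_le_of_comm_t [Finite G] {H : Subgroup G} (hp : IsPGroup 2 H)
    (hH : ∀ g ∈ H, g * S.t = S.t * g) : Nat.card H ≤ 128 := by
  haveI : Fact (Nat.Prime 2) := ⟨Nat.prime_two⟩
  haveI : Finite stdTwelve := Nat.finite_of_card_ne_zero (by rw [card_stdTwelve]; norm_num)
  obtain ⟨K, hK, hle⟩ := S.exists_part H hH
  let F : K →* H := (S.φ.comp K.subtype).codRestrict H fun x => hK x.1 x.2
  have hKp : IsPGroup 2 K := hp.of_injective F fun x y e => Subtype.ext (S.inj (congrArg Subtype.val e))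
  obtain ⟨m, hm⟩ := IsPGroup.iff_card.1 hKp
  have hdvd := Subgroup.card_subgroup_dvd_card K
  rw [card_stdTwelve, hm] at hdvd
  have : m ≤ 6 := by
    by_contra h
    have := (pow_dvd_pow 2 (show 7 ≤ m by omega)).trans hdvd
    norm_num at this
  have := Nat.pow_le_pow_right (show 1 ≤ 2 by norm_num) this
  omega

/-- The elements centralising `t`, `z` and an element of `Q`. -/
theorem comm_set (i : Fin 192) :
    {g : G | (g * S.t = S.t * g ∧ g * S.z = S.z * g) ∧ g * S.f i = S.f i * g} = S.dblSet (cCm i) := by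
  ext g
  simp only [Set.mem_ofPred_eq, S.mem_iff_tz]
  constructor
  · rintro ⟨⟨j, hj⟩, hc⟩
    refine ⟨j, ?_, hj⟩
    rw [cCm, beq_iff_eq]
    refine S.f_injective ?_
    rw [S.fmul, S.fmul]
    rcases hj with rfl | rfl
    · exact hc.symm
    · refine mul_left_cancel (a := S.t) ?_
      rw [← mul_assoc, ← S.comm_f, mul_assoc, ← hc, ← mul_assoc]
  · rintro ⟨j, hcm, hj⟩
    refine ⟨⟨j, hj⟩, ?_⟩
    rw [cCm, beq_iff_eq] at hcm
    rcases hj with rfl | rfl
    · rw [← S.fmul, ← hcm, S.fmul]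
    · rw [mul_assoc, ← S.fmul, ← hcm, S.fmul, ← mul_assoc, ← S.comm_f, mul_assoc]

theorem ncard_comm_set (i : Fin 192) :
    {g : G | (g * S.t = S.t * g ∧ g * S.z = S.z * g) ∧ g * S.f i = S.f i * g}.ncard = 2 * cCard i := by
  rw [S.comm_set, S.ncard_dblSet]
  rfl

end Setup

end Cfsg.Lib.CoThreeM12
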