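import Cfsg.Agent.Lib.CoThreeM12.CenADefs
import Cfsg.Agent.Lib.CoThreeM12.MData

/-!
# The centraliser of `el 55` in the standard group of degree twelve
-/

set_option autoImplicit false
set_option linter.style.haveILetI false
set_option maxRecDepth 100000

namespace Cfsg.Lib.CoThreeM12.CenA

open Cfsg.Lib.MTwelveRecog

local notation "P12" => Equiv.Perm (Fin 12)

theorem img_code (p : P12) (i : Fin 12) : img (code p) i = p i :=
  Fin.ext (by show pk (packFun p) i % 12 = _; rw [pk_packFun, Nat.mod_eq_of_lt (p i).2])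

theorem pmul_code (p q : P12) : pmul (code p) (code q) = code (p * q) := by
  unfold pmul
  rw [show (fun i => img (code p) (img (code q) i)) = ⇑(p * q) from funext fun i => by
    rw [img_code, img_code, Equiv.Perm.mul_apply]]
  unfold code
  rfl

theorem code_injective : Function.Injective code := fun p q h =>
  Equiv.ext fun i => by rw [← img_code p, h, img_code]

theorem one_eq : one = code 1 := rfl

theorem pinv_code (p : P12) : pinv (code p) = code p⁻¹ := by
  have h : ∀ i, (((List.finRange 12).find? fun j => img (code p) j == i)).getD 0 = p⁻¹ i := fun i => by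
    cases h : (List.finRange 12).find? fun j => img (code p) j == i with
    | none =>
      have := List.find?_eq_none.1 h (p⁻¹ i) (List.mem_finRange _)
      simp [img_code] at this
    | some j =>
      have := List.find?_some h
      rw [beq_iff_eq, img_code] at this
      rw [← this]; simp
  unfold pinv
  rw [show (fun i => (((List.finRange 12).find? fun j => img (code p) j == i)).getD 0) = ⇑p⁻¹ from funext h]
  unfold code
  rfl

theorem one_code : one = code (1 : stdTwelve).1 := rfl

theorem evTwo_nil (P Q : ℕ) : evTwo P Q [] = one := rfl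

theorem perm_code : ∀ i : Fin 192, packFun (elFun i) = Table.perm i := by decide +kernel

theorem cod_eq (i : Fin 192) : cod i = code (el i) := (perm_code i).symm

/-- The element of a word. -/
def wordV (w : List ℕ) : stdTwelve := wordM (w.map (Fin.ofNat 4))

theorem ev_code : ∀ w : List ℕ, ev w = code (wordV w).1
  | [] => rfl
  | k :: w => by
    show pmul (gen k) (ev w) = _
    rw [ev_code w]
    exact pmul_code _ _

attribute [local irreducible] code pmul pinv packFun img

theorem fiveC_eq : fiveC = code fiveM.1 := by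
  unfold fiveC fiveM
  rw [ev_code]
  rfl

theorem rotC_eq : rotC = code rotM.1 := by
  unfold rotC rotM
  rw [ev_code]
  rfl

theorem threeC_eq : threeC = code threeM.1 := by
  unfold threeC threeM
  rw [ev_code]
  rfl

theorem evTwo_code (p q : stdTwelve) : ∀ w : List ℕ,
    evTwo (code p.1) (code q.1) w = code (((w.map fun k => bif Nat.beq k 0 then p else q).prod : stdTwelve)).1
  | [] => by rw [evTwo_nil, one_code, List.map_nil, List.prod_nil]
  | k :: w => by
    show pmul (bif Nat.beq k 0 then code p.1 else code q.1) (evTwo (code p.1) (code q.1) w) = _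
    rw [evTwo_code p q w, List.map_cons, List.prod_cons, Subgroup.coe_mul, ← pmul_code]
    cases Nat.beq k 0 <;> rfl

theorem mul_code (x y : stdTwelve) : pmul (code x.1) (code y.1) = code (x * y : stdTwelve).1 := pmul_code _ _

theorem code_inj {x y : stdTwelve} : code x.1 = code y.1 ↔ x = y :=
  ⟨fun h => Subtype.ext (code_injective h), fun h => h ▸ rfl⟩

theorem cod_code (i : Fin 192) : cod i = code (elM i).1 := cod_eq i

theorem pcm_code (x y : stdTwelve) : pcm (code x.1) (code y.1) = true ↔ x * y = y * x := by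
  rw [pcm, Nat.beq_eq, mul_code, mul_code, code_inj]

theorem memC_iff {P : ℕ} {l : List ℕ} : memC P l = true ↔ P ∈ l := by simp [memC]

theorem sortedB_pairwise : ∀ {l : List ℕ}, sortedB l = true → l.Pairwise (· < ·)
  | [], _ => List.Pairwise.nil
  | [_], _ => List.pairwise_singleton _ _
  | a :: b :: l, h => by
    simp only [sortedB, Bool.and_eq_true, Nat.blt, Nat.ble_eq] at h
    have ih := sortedB_pairwise h.2
    refine List.pairwise_cons.2 ⟨fun x hx => ?_, ih⟩
    rcases List.mem_cons.1 hx with rfl | hx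
    · exact h.1
    · exact lt_trans h.1 ((List.pairwise_cons.1 ih).1 x hx)

/-- The list holds centralising elements only. -/
theorem list_mem {c : ℕ} (hc : c ∈ cenC.map Prod.fst) :
    ∃ x : stdTwelve, x * elM 55 = elM 55 * x ∧ code x.1 = c := by
  obtain ⟨p, hp, rfl⟩ := List.mem_map.1 hc
  have h := list_ok
  simp only [listOK, Bool.and_eq_true, List.all_eq_true, Nat.beq_eq] at h
  obtain ⟨h1, h2⟩ := h.1.1.1 p hp
  refine ⟨wordV p.2, ?_, (ev_code _).symm.trans h1⟩
  rw [← pcm_code, ← ev_code, h1, ← cod_code]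
  exact h2

/-- The list is the whole centraliser. -/
theorem mem_list {x : stdTwelve} (hx : x * elM 55 = elM 55 * x) : code x.1 ∈ cenC.map Prod.fst := by
  classical
  have h := list_ok
  simp only [listOK, Bool.and_eq_true, Nat.beq_eq] at h
  obtain ⟨⟨⟨-, hs⟩, ho⟩, hlen⟩ := h
  have nC : (cenC.map Prod.fst).Nodup := (sortedB_pairwise hs).imp Nat.ne_of_lt
  have nO : (orbW.map fun w => pconj (ev w) (cod 55)).Nodup := (sortedB_pairwise ho).imp Nat.ne_of_lt
  haveI : Finite stdTwelve := Nat.finite_of_card_ne_zero (by rw [card_stdTwelve]; norm_num)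
  set C := Subgroup.centralizer ({elM 55} : Set stdTwelve)
  have hconj : ∀ w : List ℕ, pconj (ev w) (cod 55) = code (wordV w * elM 55 * (wordV w)⁻¹ : stdTwelve).1 := fun w => by
    rw [pconj, ev_code, cod_code, mul_code, pinv_code, pmul_code]
    rfl
  let f : Fin orbW.length × C → stdTwelve := fun q => wordV (orbW.get q.1) * q.2
  have finj : Function.Injective f := by
    rintro ⟨i, c⟩ ⟨j, d⟩ e
    have ec : ∀ (k : Fin orbW.length) (u : C),
        wordV (orbW.get k) * u * elM 55 * (wordV (orbW.get k) * u)⁻¹ =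
          wordV (orbW.get k) * elM 55 * (wordV (orbW.get k))⁻¹ := fun k u => by
      rw [mul_assoc (wordV (orbW.get k)), Subgroup.mem_centralizer_singleton_iff.1 u.2]
      group
    have e2 : i = j := by
      have := congrArg (fun y : stdTwelve => code (y * elM 55 * y⁻¹ : stdTwelve).1) e
      simp only [f] at this
      rw [ec, ec, ← hconj, ← hconj] at this
      exact Fin.ext ((nO.getElem_inj_iff (hi := by simp) (hj := by simp)).1 (by simpa using this))
    subst e2
    exact Prod.ext rfl (Subtype.ext (mul_left_cancel e))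
  have hle := Nat.card_le_card_of_injective f finj
  rw [Nat.card_prod, Nat.card_fin, card_stdTwelve] at hle
  choose g hgA hgc using fun i : Fin (cenC.map Prod.fst).length => list_mem (List.get_mem _ i)
  let F : Fin (cenC.map Prod.fst).length → C := fun i =>
    ⟨g i, Subgroup.mem_centralizer_singleton_iff.2 (hgA i)⟩
  have Finj : Function.Injective F := fun i j e => by
    have := congrArg (fun u : C => code (u : stdTwelve).1) e
    simp only [F, hgc] at this
    exact Fin.ext (nC.getElem_inj_iff.1 this)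
  have hpos : 0 < orbW.length := by
    rcases Nat.eq_zero_or_pos orbW.length with h0 | h0
    · rw [h0, Nat.mul_zero] at hlen; norm_num at hlen
    · exact h0
  have hcard : Nat.card C ≤ (cenC.map Prod.fst).length := by
    rw [List.length_map]
    refine Nat.le_of_mul_le_mul_left ?_ hpos
    rw [mul_comm orbW.length cenC.length, hlen]
    exact hle
  have hbij : Function.Bijective F := (Nat.bijective_iff_injective_and_card F).2 ⟨Finj,
    le_antisymm (Nat.card_le_card_of_injective F Finj) (by rw [Nat.card_fin]; exact hcard)⟩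
  obtain ⟨i, hi⟩ := hbij.2 ⟨x, Subgroup.mem_centralizer_singleton_iff.2 hx⟩
  have := congrArg (fun u : C => code (u : stdTwelve).1) hi
  simp only [F, hgc] at this
  rw [← this]
  exact List.get_mem _ i

/-- The fixed facts. -/
theorem facts :
    (∃ q, q * elM 55 = elM 55 * q ∧ q * q = elM cT) ∧ (∃ q, q * elM 55 = elM 55 * q ∧ q * q = fiveM) ∧
    (∃ w : List ℕ, elM 44 = (w.map fun k => bif Nat.beq k 0 then elM cT else fiveM).prod) ∧
    (∃ w : List ℕ, threeM = (w.map fun k => bif Nat.beq k 0 then elM cT else fiveM).prod) ∧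
    (∀ x ∈ [elM cT, elM 44, fiveM, threeM, elM 166, elM 76], x * elM 55 = elM 55 * x) := by
  have h := fixed_ok
  simp only [fixedOK, Bool.and_eq_true, Nat.beq_eq, List.all_eq_true, memC_iff] at h
  obtain ⟨⟨⟨⟨⟨⟨⟨⟨⟨⟨⟨⟨⟨⟨⟨⟨r1, r2⟩, w1⟩, w2⟩, hm⟩, -⟩, -⟩, -⟩, -⟩, -⟩, -⟩, -⟩, -⟩, -⟩, -⟩, -⟩, -⟩ := h
  have root : ∀ (k : ℕ) (y : stdTwelve),
      pmul (cenC.getD k (0, [])).1 (cenC.getD k (0, [])).1 = code y.1 → y ≠ 1 →
      ∃ q, q * elM 55 = elM 55 * q ∧ q * q = y := fun k y e hy => by
    rcases Nat.lt_or_ge k cenC.length with hk | hk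
    · rw [List.getD_eq_getElem _ _ hk] at e
      obtain ⟨q, hq, hc⟩ := list_mem (List.mem_map.2 ⟨_, List.getElem_mem hk, rfl⟩)
      rw [← hc, mul_code, code_inj] at e
      exact ⟨q, hq, e⟩
    · rw [List.getD_eq_default _ _ hk] at e
      have : pmul (0, ([] : List ℕ)).1 (0, ([] : List ℕ)).1 = 0 := by decide +kernel
      rw [this] at e
      have h0 : ∀ p : P12, code p ≠ 0 := fun p hp => by
        have a := img_code p (p.symm 1)
        rw [hp, Equiv.apply_symm_apply] at a
        simp [img, pk] at a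
      exact absurd e.symm (h0 _)
  have hcm : ∀ y : stdTwelve, code y.1 ∈ cenC.map Prod.fst → y * elM 55 = elM 55 * y := fun y hy => by
    obtain ⟨x, hx, e⟩ := list_mem hy
    exact code_inj.1 e ▸ hx
  have cT1 : elM cT ≠ 1 := fun e => absurd (elM_injective (e.trans elM_zero.symm)) (by decide)
  have five1 : fiveM ≠ 1 := fun e => by
    have := fixed_ok
    simp only [fixedOK, Bool.and_eq_true, Bool.not_eq_true', fiveC_eq, e, ← one_code, Nat.beq_refl] at this
    simp at this
  rw [cod_code] at r1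
  rw [fiveC_eq] at r2
  rw [cod_code, cod_code, fiveC_eq, evTwo_code, code_inj] at w1
  rw [cod_code, threeC_eq, fiveC_eq, evTwo_code, code_inj] at w2
  refine ⟨root _ _ r1 cT1, root _ _ r2 five1, ⟨_, w1.symm⟩, ⟨_, w2.symm⟩, fun x hx => hcm x (hm _ ?_)⟩
  simp only [List.mem_cons, List.not_mem_nil, or_false] at hx ⊢
  rcases hx with rfl | rfl | rfl | rfl | rfl | rfl <;> simp [cod_code, fiveC_eq, threeC_eq]

/-- The relations of `z` and the element of order 5, and of `rotM`. -/
theorem relations :
    elM cT ≠ 1 ∧ fiveM ≠ 1 ∧ elM cT * elM cT = 1 ∧ fiveM ^ 5 = 1 ∧ (elM cT * fiveM) ^ 3 = 1 ∧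
    elM 55 * elM 166 = elM 76 ∧ elM 166 * elM 55 = elM 76 ∧ rotM ^ 3 = 1 ∧ rotM * threeM = threeM * rotM ∧
    rotM * elM cT = elM cT * rotM ∧ rotM * elM 55 = elM 166 * rotM ∧ rotM * elM 166 = elM 76 * rotM := by
  have h := fixed_ok
  simp only [fixedOK, Bool.and_eq_true, Bool.not_eq_true', Bool.eq_false_iff, Ne, Nat.beq_eq] at h
  obtain ⟨⟨⟨⟨⟨⟨⟨⟨⟨⟨⟨⟨⟨⟨⟨⟨-, -⟩, -⟩, -⟩, -⟩, z1⟩, v1⟩, z2⟩, v5⟩, zv⟩, au⟩, ua⟩, r3⟩, rt⟩, rz⟩, ra⟩, ru⟩ := h
  simp only [cod_code, fiveC_eq, rotC_eq, threeC_eq, one_code, mul_code, pcm_code, code_inj] at z1 v1 z2 v5 zv au ua r3 rt rz ra ru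
  refine ⟨z1, v1, z2, ?_, ?_, au, ua, ?_, rt, rz, ra, ru⟩
  · rw [← v5]; simp only [pow_succ, pow_zero, one_mul, mul_assoc]
  · rw [← zv]; simp only [pow_succ, pow_zero, one_mul, mul_assoc]
  · rw [← r3]; simp only [pow_succ, pow_zero, one_mul, mul_assoc]

/-- Squares generating like the standard pair are conjugate to it. -/
theorem pair_conj {x y : stdTwelve} (hx : x * elM 55 = elM 55 * x) (hy : y * elM 55 = elM 55 * y)
    (h1 : x * x ≠ 1) (h2 : x * x * (x * x) = 1) (h3 : y * y ≠ 1) (h5 : (y * y) ^ 5 = 1)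
    (h6 : (x * x * (y * y)) ^ 3 = 1) :
    ∃ c, c * elM 55 = elM 55 * c ∧ c * elM cT = x * x * c ∧ c * fiveM = y * y * c := by
  have h := squares_ok
  simp only [squaresOK, Bool.and_eq_true, List.all_eq_true, memC_iff] at h
  obtain ⟨hin, hall⟩ := h
  have sqin : ∀ u : stdTwelve, u * elM 55 = elM 55 * u → code (u * u : stdTwelve).1 ∈ squares := fun u hu => by
    obtain ⟨p, hp, e⟩ := List.mem_map.1 (mem_list hu)
    rw [← mul_code, ← e]
    exact hin p hp
  set Z := x * x with hZ
  set V := y * y with hV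
  have hb := hall _ (sqin x hx)
  rw [← hZ] at hb
  simp only [Bool.or_eq_true, Bool.not_eq_true', Bool.eq_false_iff, Ne, Nat.beq_eq, List.all_eq_true, one_code,
    mul_code, code_inj, h1, h2, not_true, false_or] at hb
  have hb2 := hb _ (sqin y hy)
  have h5' : V * V * (V * V * V) = 1 := by rw [← h5]; simp only [pow_succ, pow_zero, one_mul, mul_assoc]
  have h6' : Z * V * (Z * V * (Z * V)) = 1 := by rw [← h6]; simp only [pow_succ, pow_zero, one_mul, mul_assoc]
  simp only [← hV, mul_code, code_inj, h3, h5', h6', not_true, false_or, List.any_eq_true, Bool.and_eq_true,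
    Nat.beq_eq, memC_iff] at hb2
  obtain ⟨w, -, ⟨hw1, hw2⟩, ⟨hc, hcz⟩, hcv⟩ := hb2
  obtain ⟨c, hcA, ec⟩ := list_mem hc
  refine ⟨c, hcA, ?_, ?_⟩
  · rw [← ec, cod_code] at hcz
    exact code_inj.1 (by rw [← mul_code, ← mul_code]; exact hcz)
  · rw [← ec, fiveC_eq] at hcv
    exact code_inj.1 (by rw [← mul_code, ← mul_code]; exact hcv)

theorem cent_zf {x : stdTwelve} (hx : x * elM 55 = elM 55 * x) (hz : x * elM cT = elM cT * x)
    (hf : x * fiveM = fiveM * x) : x = 1 ∨ x = elM 55 := by
  obtain ⟨p, hp, e⟩ := List.mem_map.1 (mem_list hx)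
  have h := cent_ok
  simp only [centOK, List.all_eq_true, Bool.and_eq_true] at h
  have h1 := (h p hp).1.1
  rw [e] at h1
  simpa only [cod_code, fiveC_eq, one_code, (pcm_code _ _).2 hz, (pcm_code _ _).2 hf, Bool.and_self, Bool.not_true,
    Bool.false_or, Bool.or_eq_true, Nat.beq_eq, code_inj] using h1

theorem cent_ztt {x : stdTwelve} (hx : x * elM 55 = elM 55 * x) (hz : x * elM cT = elM cT * x)
    (ht : x * threeM = threeM * x) (hu : x * elM 166 = elM 166 * x) :
    x = 1 ∨ x = elM 55 ∨ x = elM 166 ∨ x = elM 76 := by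
  obtain ⟨p, hp, e⟩ := List.mem_map.1 (mem_list hx)
  have h := cent_ok
  simp only [centOK, List.all_eq_true, Bool.and_eq_true] at h
  have h1 := (h p hp).1.2
  rw [e] at h1
  simpa only [cod_code, threeC_eq, one_code, (pcm_code _ _).2 hz, (pcm_code _ _).2 ht, (pcm_code _ _).2 hu,
    Bool.and_self, Bool.not_true, Bool.false_or, Bool.or_eq_true, Nat.beq_eq, code_inj, or_assoc] using h1

theorem tau_unique {x : stdTwelve} (hx : x * elM 55 = elM 55 * x)
    (hz : x * elM cT = elM 166 * elM cT * (elM 166)⁻¹ * x)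
    (hf : x * fiveM = elM 166 * fiveM * (elM 166)⁻¹ * x) : x = elM 166 ∨ x = elM 76 := by
  obtain ⟨p, hp, e⟩ := List.mem_map.1 (mem_list hx)
  have h := cent_ok
  simp only [centOK, List.all_eq_true, Bool.and_eq_true] at h
  have h1 := (h p hp).2
  have hc : ∀ a b : stdTwelve, pconj (code a.1) (code b.1) = code (a * b * a⁻¹ : stdTwelve).1 := fun a b => by
    rw [pconj, mul_code, pinv_code, pmul_code]; rfl
  rw [e] at h1
  rw [cod_code, cod_code, cod_code, fiveC_eq, hc, hc, mul_code, mul_code, mul_code, mul_code, hz, hf] at h1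
  simpa only [Nat.beq_refl, Bool.and_self, Bool.not_true, Bool.false_or, Bool.or_eq_true, Nat.beq_eq, code_inj] using h1

theorem tau_check : (Nat.beq (pconj (cod 166) fiveC) (evTwo (cod cT) fiveC [0, 1, 1, 1, 0, 1, 1, 1]) &&
    pcm (cod 166) (cod cT)) = true := by
  decide +kernel

/-- The conjugate of the element of order 5 by `el 166`. -/
theorem tau_five : elM 166 * elM cT = elM cT * elM 166 ∧
    elM 166 * fiveM * (elM 166)⁻¹ =
      (([0, 1, 1, 1, 0, 1, 1, 1] : List ℕ).map fun k => bif Nat.beq k 0 then elM cT else fiveM).prod := by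
  have h := tau_check
  simp only [Bool.and_eq_true, Nat.beq_eq, pconj, cod_code, fiveC_eq, pinv_code, evTwo_code, pcm_code] at h
  refine ⟨h.2, code_inj.1 ?_⟩
  rw [← h.1, mul_code, pmul_code]
  rfl

end Cfsg.Lib.CoThreeM12.CenA
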