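import Cfsg.Agent.Lib.CoThreeM12.Basic

/-!
# The element permuting `t`, `a`, `t * a` in the good case

`g` centralises a complement of `⟨t, a⟩` in the common centraliser of `t` and `a`, generated by `z`, `f 44`, an element
of order 5 and `t * f 166`; with `r` of order 3 in the copy of M12, fixing `t` and permuting `a`, `f 166`, `f 76`,
the product `g * r * r` has order 7 and is squared by `r`.
-/

set_option autoImplicit false
set_option maxRecDepth 100000

namespace Cfsg.Lib.CoThreeM12

open Cfsg
open Cfsg.Lib.MTwelveRecog (stdTwelve stdGen stdGen_mem)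

universe u

/-- An element of the standard group from a word in the standard generators. -/
def wordM (w : List (Fin 4)) : stdTwelve :=
  ⟨(w.map stdGen).prod, Subgroup.list_prod_mem _ fun q hq => by
    obtain ⟨k, -, rfl⟩ := List.mem_map.1 hq
    exact stdGen_mem k⟩

/-- An element of order 5 in the derived subgroup of the centraliser of `el 55`. -/
def fiveM : stdTwelve := wordM [1, 0, 0, 3, 0, 0, 3, 2]

/-- An element of order 3 fixing no point, permuting `el 55`, `el 166`, `el 76`. -/
def rotM : stdTwelve := wordM [1, 0, 2, 1, 0, 3, 0, 2, 1, 0]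

/-- An element of order 3 centralising `el 55`, `el 166` and `rotM`. -/
def threeM : stdTwelve := wordM [0, 0, 3, 0, 0, 0, 0, 3, 2, 0]

namespace Setup

variable {G : Type u} [Group G] (S : Setup G)

/-- The element of order 7 made from a candidate `g`. -/
def sevenEl (g : G) : G := g * S.φ rotM * S.φ rotM

end Setup

/-- The conjugation data of `g`. -/
structure Trans0 {G : Type u} [Group G] (S : Cfsg.Lib.CoThreeM12.Setup G) where
  /-- the element -/
  g : G
  cube : g * g * g = 1
  g_t : g * S.t * g⁻¹ = S.a
  g_a : g * S.a * g⁻¹ = S.t * S.a
  g_z : Commute g S.z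
  g_f44 : Commute g (S.f 44)
  g_five : Commute g (S.φ fiveM)
  g_tau : Commute g (S.t * S.f 166)

/-- The conjugation data of `g` with the relation between `g` and `rotM`. -/
structure Trans {G : Type u} [Group G] (S : Setup G) extends Trans0 S where
  rel : S.φ rotM * S.sevenEl g * (S.φ rotM)⁻¹ = S.sevenEl g * S.sevenEl g

end Cfsg.Lib.CoThreeM12
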