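import Cfsg.Agent.Lib.CoThreeM12.CenAData
import Cfsg.Agent.Lib.CoThreeM12.CzDefs

/-!
# Packed permutations of twelve points and the checks on the centraliser of `el 55`
-/

set_option autoImplicit false

namespace Cfsg.Lib.CoThreeM12.CenA

open Cfsg.Lib.MTwelveRecog

/-- A point of a packed permutation. -/
def img (P : ℕ) (i : Fin 12) : Fin 12 := ⟨pk P i % 12, Nat.mod_lt _ (by norm_num)⟩

/-- The code of a permutation. -/
def code (p : Equiv.Perm (Fin 12)) : ℕ := packFun p

/-- The product of codes. -/
def pmul (P Q : ℕ) : ℕ := packFun fun i => img P (img Q i)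

/-- The code of the inverse. -/
def pinv (P : ℕ) : ℕ := packFun fun i => ((List.finRange 12).find? fun j => img P j == i).getD 0

/-- The code of the identity. -/
def one : ℕ := packFun fun i => i

/-- The codes of the standard generators. -/
def gen : ℕ → ℕ := fun k => code (stdGen (Fin.ofNat 4 k))

/-- The value of a word. -/
def ev (w : List ℕ) : ℕ := w.foldr (fun k P => pmul (gen k) P) one

/-- The value of a word in two codes. -/
def evTwo (P Q : ℕ) (w : List ℕ) : ℕ := w.foldr (fun k R => pmul (bif Nat.beq k 0 then P else Q) R) one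

/-- The code of an element of the table. -/
def cod (i : Fin 192) : ℕ := Table.perm i

/-- Conjugate. -/
def pconj (P Q : ℕ) : ℕ := pmul (pmul P Q) (pinv P)

/-- A strictly increasing list. -/
def sortedB : List ℕ → Bool
  | a :: b :: l => Nat.blt a b && sortedB (b :: l)
  | _ => true

/-- Commutation. -/
def pcm (P Q : ℕ) : Bool := Nat.beq (pmul P Q) (pmul Q P)

/-- The code of the element of order 5. -/
def fiveC : ℕ := ev [1, 0, 0, 3, 0, 0, 3, 2]

/-- The code of `rotM`. -/
def rotC : ℕ := ev [1, 0, 2, 1, 0, 3, 0, 2, 1, 0]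

/-- The code of `threeM`. -/
def threeC : ℕ := ev [0, 0, 3, 0, 0, 0, 0, 3, 2, 0]

/-- The centraliser list is one. -/
def listOK : Bool :=
  (cenC.all fun p => Nat.beq (ev p.2) p.1 && pcm p.1 (cod 55)) && sortedB (cenC.map Prod.fst) &&
    sortedB (orbW.map fun w => pconj (ev w) (cod 55)) && Nat.beq (cenC.length * orbW.length) 95040

/-- Membership of a code. -/
def memC (P : ℕ) (l : List ℕ) : Bool := l.any fun x => Nat.beq P x

/-- The facts about squares. -/
def squaresOK : Bool :=
  (cenC.all fun p => memC (pmul p.1 p.1) squares) &&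
    squares.all fun Z => Nat.beq Z one || !Nat.beq (pmul Z Z) one || squares.all fun V =>
      Nat.beq V one || !Nat.beq (pmul (pmul V V) (pmul (pmul V V) V)) one ||
        !Nat.beq (pmul (pmul Z V) (pmul (pmul Z V) (pmul Z V))) one ||
          pairW.any fun w => Nat.beq w.1 Z && Nat.beq w.2.1 V &&
            (let c := (cenC.getD w.2.2 (0, [])).1
             memC c (cenC.map Prod.fst) && Nat.beq (pmul c (cod cT)) (pmul Z c) && Nat.beq (pmul c fiveC) (pmul V c))

/-- The small centralisers. -/
def centOK : Bool :=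
  cenC.all fun p =>
    (!(pcm p.1 (cod cT) && pcm p.1 fiveC) || Nat.beq p.1 one || Nat.beq p.1 (cod 55)) &&
    (!(pcm p.1 (cod cT) && pcm p.1 threeC && pcm p.1 (cod 166)) ||
      Nat.beq p.1 one || Nat.beq p.1 (cod 55) || Nat.beq p.1 (cod 166) || Nat.beq p.1 (cod 76)) &&
    (!(Nat.beq (pmul p.1 (cod cT)) (pmul (pconj (cod 166) (cod cT)) p.1) &&
        Nat.beq (pmul p.1 fiveC) (pmul (pconj (cod 166) fiveC) p.1)) ||
      Nat.beq p.1 (cod 166) || Nat.beq p.1 (cod 76))

/-- The fixed elements. -/
def fixedOK : Bool :=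
  Nat.beq (pmul (cenC.getD roots.1 (0, [])).1 (cenC.getD roots.1 (0, [])).1) (cod cT) &&
    Nat.beq (pmul (cenC.getD roots.2 (0, [])).1 (cenC.getD roots.2 (0, [])).1) fiveC &&
    Nat.beq (evTwo (cod cT) fiveC words.1) (cod 44) && Nat.beq (evTwo (cod cT) fiveC words.2) threeC &&
    [cod cT, cod 44, fiveC, threeC, cod 166, cod 76].all (fun P => memC P (cenC.map Prod.fst)) &&
    !Nat.beq (cod cT) one && !Nat.beq fiveC one && Nat.beq (pmul (cod cT) (cod cT)) one &&
    Nat.beq (pmul (pmul fiveC fiveC) (pmul (pmul fiveC fiveC) fiveC)) one &&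
    Nat.beq (pmul (pmul (cod cT) fiveC) (pmul (pmul (cod cT) fiveC) (pmul (cod cT) fiveC))) one &&
    Nat.beq (pmul (cod 55) (cod 166)) (cod 76) && Nat.beq (pmul (cod 166) (cod 55)) (cod 76) &&
    Nat.beq (pmul rotC (pmul rotC rotC)) one && pcm rotC threeC && pcm rotC (cod cT) &&
    Nat.beq (pmul rotC (cod 55)) (pmul (cod 166) rotC) && Nat.beq (pmul rotC (cod 166)) (pmul (cod 76) rotC)

theorem list_ok : listOK = true := by decide +kernel

theorem squares_ok : squaresOK = true := by decide +kernel

theorem cent_ok : centOK = true := by decide +kernel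

theorem fixed_ok : fixedOK = true := by decide +kernel

end Cfsg.Lib.CoThreeM12.CenA
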