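import Mathlib.GroupTheory.OrderOfElement
import Mathlib.GroupTheory.Perm.Basic
import Mathlib.GroupTheory.Subgroup.Centralizer
import Mathlib.Algebra.Group.Conj
import Mathlib.Data.Nat.Prime.Int
import Mathlib.Data.Nat.Factorization.Basic
import Mathlib.Tactic.Group
import Mathlib.Tactic.Ring

/-!
# A subgroup controlling a class of involutions contains centralizers

`H` is a subgroup and `V` a class of involutions (the vertices) such that the centralizer of a vertex of `H`
lies in `H` and `H` controls the conjugation of such vertices. Two vertices of `H` then force the centralizer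
of a set `E` into `H`, as soon as the involutions commuting with `E` and one of them do.
-/

set_option autoImplicit false

namespace Cfsg.Lib.CoThreeM12

open Subgroup

/-- In a product of two involutions each inverts it. -/
theorem flip_pow {X : Type*} [Group X] {T d : X} (hT : T * T = 1) (hd : T * d * T = d⁻¹) (n : ℕ) :
    T * d ^ n * T = (d ^ n)⁻¹ := by
  have hTi : T⁻¹ = T := inv_eq_of_mul_eq_one_right hT
  rw [← inv_pow, ← hd]
  nth_rewrite 2 4 [← hTi]
  rw [conj_pow]

/-- A subgroup controlling a class of involutions. -/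
structure Frame {X : Type*} [Group X] (H : Subgroup X) (V : Set X) : Prop where
  sq : ∀ v ∈ V, v * v = 1
  conj : ∀ (g : X), ∀ v ∈ V, g * v * g⁻¹ ∈ V
  cent : ∀ v ∈ V, v ∈ H → ∀ x : X, x * v = v * x → x ∈ H
  control : ∀ v ∈ V, v ∈ H → ∀ x : X, x * v * x⁻¹ ∈ H → x ∈ H

namespace Frame

variable {X : Type*} [Group X] {H : Subgroup X} {V : Set X}

/-- In a product of a vertex and an involution of even order the middle involution. -/
theorem middle [Finite X] {A T : X} (hA : A * A = 1) (hT : T * T = 1) (he : Even (orderOf (A * T))) :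
    ∃ j : X, j = (A * T) ^ (orderOf (A * T) / 2) ∧ j * j = 1 ∧ j ≠ 1 ∧ j * T = T * j ∧ j * A = A * j := by
  set d := A * T with hd
  set n := orderOf d / 2
  have hn : n + n = orderOf d := by obtain ⟨c, hc⟩ := he; omega
  have hn0 : 0 < n := by have := orderOf_pos d; omega
  have hsq : d ^ n * d ^ n = 1 := by rw [← pow_add, hn, pow_orderOf_eq_one]
  have hflip : T * d * T = d⁻¹ := by
    rw [hd, mul_inv_rev, inv_eq_of_mul_eq_one_right hA, inv_eq_of_mul_eq_one_right hT, mul_assoc, mul_assoc, hT,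
      mul_one]
  have hTj : d ^ n * T = T * d ^ n := by
    have h := flip_pow hT hflip n
    rw [inv_eq_of_mul_eq_one_right hsq] at h
    calc d ^ n * T = T * d ^ n * T * T := by rw [h]
      _ = T * d ^ n := by rw [mul_assoc, hT, mul_one]
  have hA' : A = d * T := by rw [hd, mul_assoc, hT, mul_one]
  refine ⟨_, rfl, hsq, fun h => ?_, hTj, ?_⟩
  · exact absurd (Nat.le_of_dvd hn0 (orderOf_dvd_of_pow_eq_one h)) (by omega)
  · rw [hA', ← mul_assoc, ← pow_succ, mul_assoc, ← hTj, ← mul_assoc, ← pow_succ']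

/-- Conjugation along the dihedral group of two involutions. -/
theorem slide {A T : X} (hA : A * A = 1) (hT : T * T = 1) (i : ℕ) :
    (A * T) ^ i * A * ((A * T) ^ i)⁻¹ = (A * T) ^ (2 * i + 1) * T := by
  set d := A * T with hd
  have hflip : T * d * T = d⁻¹ := by
    rw [hd, mul_inv_rev, inv_eq_of_mul_eq_one_right hA, inv_eq_of_mul_eq_one_right hT, mul_assoc, mul_assoc, hT,
      mul_one]
  have hA' : A = d * T := by rw [hd, mul_assoc, hT, mul_one]
  have hTd : T * (d ^ i)⁻¹ = d ^ i * T := by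
    rw [← flip_pow hT hflip i, ← mul_assoc, ← mul_assoc, hT, one_mul]
  rw [hA', mul_assoc, mul_assoc d T, hTd, ← mul_assoc, ← mul_assoc, ← pow_succ, ← pow_add,
    show i + 1 + i = 2 * i + 1 by omega]

theorem conj_mem_centralizer {E : Set X} {g x : X} (hg : g ∈ centralizer E) (hx : x ∈ centralizer E) :
    g * x * g⁻¹ ∈ centralizer E := mul_mem (mul_mem hg hx) (inv_mem hg)

/-- Two vertices push the centralizer of `E` into `H`. -/
theorem centralizer_le [Finite X] (F : Frame H V) (E : Set X) {Ta Tb : X} (ha : Ta ∈ V) (hb : Tb ∈ V) (haH : Ta ∈ H)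
    (hbH : Tb ∈ H) (haE : Ta ∈ centralizer E) (hbE : Tb ∈ centralizer E)
    (hi : ∀ j ∈ H, j ∈ centralizer E → j * Tb = Tb * j → j * j = 1 → j ≠ 1 → j ∉ E →
      centralizer (insert j E) ≤ H)
    (hii : ∀ h ∈ H, h ∈ centralizer E → Tb * h * Tb = h⁻¹ →
      (h = 1 ∨ ∃ k : ℕ, orderOf h = 2 ^ (k + 1) ∧ h ^ 2 ^ k ∈ E) →
        ∀ y ∈ H, y ∈ centralizer E → y * Ta * y⁻¹ ≠ h * Tb) :
    centralizer E ≤ H := by
  intro g hg
  by_contra hgH
  have hT : Tb * Tb = 1 := F.sq Tb hb
  set A := g * Ta * g⁻¹ with hAdef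
  have hAV : A ∈ V := F.conj g Ta ha
  have hAH : A ∉ H := fun h => hgH (F.control Ta ha haH g h)
  have hAE : A ∈ centralizer E := conj_mem_centralizer hg haE
  have hA : A * A = 1 := F.sq A hAV
  set d := A * Tb with hddef
  have hdE : d ∈ centralizer E := mul_mem hAE hbE
  have hflip : Tb * d * Tb = d⁻¹ := by
    rw [hddef, mul_inv_rev, inv_eq_of_mul_eq_one_right hA, inv_eq_of_mul_eq_one_right hT, mul_assoc, mul_assoc,
      hT, mul_one]
  -- a conjugate of `A` with rotation a two-element of `H` is excluded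
  have key : ∀ i : ℕ, d ^ (2 * i + 1) ∈ H →
      (d ^ (2 * i + 1) = 1 ∨ ∃ k : ℕ, orderOf (d ^ (2 * i + 1)) = 2 ^ (k + 1) ∧ (d ^ (2 * i + 1)) ^ 2 ^ k ∈ E) →
        False := fun i hH ho => by
    have e : d ^ i * g * Ta * (d ^ i * g)⁻¹ = d ^ (2 * i + 1) * Tb := by
      rw [← slide hA hT i, ← hddef]; simp only [mul_inv_rev, hAdef, mul_assoc]
    have hy : d ^ i * g ∈ H := F.control Ta ha haH _ (by rw [e]; exact mul_mem hH hbH)
    exact hii _ hH (pow_mem hdE _) (flip_pow hT hflip _) ho _ hy (mul_mem (pow_mem hdE _) hg) e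
  rcases Nat.even_or_odd (orderOf d) with he | ⟨i, hi'⟩
  swap
  · refine key i ?_ (Or.inl ?_) <;> rw [← hi', pow_orderOf_eq_one]
    exact one_mem _
  obtain ⟨j, hj, hjj, hj1, hjT, hjA⟩ := middle hA hT he
  have hjH : j ∈ H := F.cent Tb hb hbH j hjT
  have hjE : j ∈ centralizer E := hj ▸ pow_mem hdE _
  by_cases hmem : j ∈ E
  swap
  · refine hAH (hi j hjH hjE hjT hjj hj1 hmem (mem_centralizer_iff.2 fun x hx => ?_))
    rcases Set.mem_insert_iff.1 hx with rfl | hx
    · exact hjA
    · exact mem_centralizer_iff.1 hAE x hx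
  -- the two-part
  obtain ⟨k, r, hr, hn⟩ := Nat.exists_eq_two_pow_mul_odd (orderOf_pos d).ne'
  obtain ⟨k, rfl⟩ : ∃ k', k = k' + 1 := by
    rcases k with _ | k
    · rw [pow_zero, one_mul] at hn
      exact absurd he (Nat.not_even_iff_odd.2 (hn ▸ hr))
    · exact ⟨k, rfl⟩
  obtain ⟨i, rfl⟩ := hr
  set h := d ^ (2 * i + 1) with hh
  have ho : orderOf h = 2 ^ (k + 1) := by
    rw [hh, orderOf_pow, hn, Nat.gcd_eq_right ⟨2 ^ (k + 1), mul_comm _ _⟩,
      Nat.mul_div_cancel _ (by omega)]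
  have htop : h ^ 2 ^ k = j := by
    rw [hj, hh, ← pow_mul, ← hddef, hn, show 2 ^ (k + 1) * (2 * i + 1) = (2 * i + 1) * 2 ^ k * 2 by ring,
      Nat.mul_div_cancel _ two_pos]
  have hmemH : ∀ m, m ≤ k → h ^ 2 ^ (k - m) ∈ H := by
    intro m
    induction m with
    | zero => intro _; rw [Nat.sub_zero, htop]; exact hjH
    | succ m ih =>
      intro hm
      set u := h ^ 2 ^ (k - (m + 1)) with hu
      have hu2 : u * u ∈ H := by
        rw [hu, ← pow_add, ← two_mul, ← pow_succ', show k - (m + 1) + 1 = k - m by omega]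
        exact ih (by omega)
      refine F.control Tb hb hbH u ?_
      have hfl : Tb * u * Tb = u⁻¹ := by rw [hu, hh, ← pow_mul]; exact flip_pow hT hflip _
      have : Tb * u⁻¹ = u * Tb := by rw [← hfl, ← mul_assoc, ← mul_assoc, hT, one_mul]
      rw [mul_assoc, this, ← mul_assoc]
      exact mul_mem hu2 hbH
  refine key i ?_ (Or.inr ⟨k, ho, htop.symm ▸ hmem⟩)
  have := hmemH k le_rfl
  rwa [Nat.sub_self, pow_zero, pow_one] at this

/-- If every involution of `H` has its centralizer in `H` and one is not a vertex up to conjugation,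
then `H` is the whole group. -/
theorem eq_top [Finite X] (F : Frame H V) {v s : X} (hv : v ∈ V) (hvH : v ∈ H) (hss : s * s = 1)
    (hns : ∀ w ∈ V, ¬ IsConj w s)
    (hcs : ∀ x : X, x * s = s * x → x ∈ H)
    (hall : ∀ j ∈ H, j * s = s * j → j * j = 1 → j ≠ 1 → ∀ x : X, x * j = j * x → x ∈ H) : H = ⊤ := by
  refine eq_top_iff.2 fun x _ => F.control v hv hvH x ?_
  by_contra hA
  set A := x * v * x⁻¹
  have hAV : A ∈ V := F.conj x v hv
  have hAA : A * A = 1 := F.sq A hAV
  rcases Nat.even_or_odd (orderOf (A * s)) with he | ⟨i, hi⟩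
  · obtain ⟨j, -, hjj, hj1, hjs, hjA⟩ := middle hAA hss he
    exact hA (hall j (hcs j hjs) hjs hjj hj1 A hjA.symm)
  · refine hns A hAV (isConj_iff.2 ⟨(A * s) ^ i, ?_⟩)
    rw [slide hAA hss i, ← hi, pow_orderOf_eq_one, one_mul]

end Frame

end Cfsg.Lib.CoThreeM12
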