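import Cfsg.Agent.Lib.CoThreeM12.CzCertData

/-!
Kernel checks of the three coset enumerations.
-/

set_option autoImplicit false
set_option maxRecDepth 100000
set_option linter.style.longLine false

namespace Cfsg.Lib.CoThreeM12

open Cfsg.Lib.J3Type

theorem dCert_facts : factsOK dCert 0 1799 = true := by decide +kernel

theorem dCert_rows : rowsOK dCert 0 384 = true := by decide +kernel

theorem dCert_ok : (∀ i < dCert.nFacts, factOK dCert i = true) ∧ (∀ c < dCert.nLive, rowOK dCert c = true) ∧
    dCert.live.get 15 0 = 0 ∧ dCert.nLive = 384 :=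
  ⟨fun i hi => factOK_of_factsOK dCert_facts (Nat.zero_le _) (by rwa [Nat.zero_add]),
    fun c hc => rowOK_of_rowsOK dCert_rows (Nat.zero_le _) (by rwa [Nat.zero_add]), by decide +kernel, rfl⟩

theorem pCert_facts : factsOK pCert 0 520 = true := by decide +kernel

theorem pCert_rows : rowsOK pCert 0 56 = true := by decide +kernel

theorem pCert_ok : (∀ i < pCert.nFacts, factOK pCert i = true) ∧ (∀ c < pCert.nLive, rowOK pCert c = true) ∧
    pCert.live.get 15 0 = 0 ∧ pCert.nLive = 56 :=
  ⟨fun i hi => factOK_of_factsOK pCert_facts (Nat.zero_le _) (by rwa [Nat.zero_add]),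
    fun c hc => rowOK_of_rowsOK pCert_rows (Nat.zero_le _) (by rwa [Nat.zero_add]), by decide +kernel, rfl⟩

theorem xCert_facts : factsOK xCert 0 1746 = true := by decide +kernel

theorem xCert_rows : rowsOK xCert 0 135 = true := by decide +kernel

theorem xCert_ok : (∀ i < xCert.nFacts, factOK xCert i = true) ∧ (∀ c < xCert.nLive, rowOK xCert c = true) ∧
    xCert.live.get 15 0 = 0 ∧ xCert.nLive = 135 :=
  ⟨fun i hi => factOK_of_factsOK xCert_facts (Nat.zero_le _) (by rwa [Nat.zero_add]),
    fun c hc => rowOK_of_rowsOK xCert_rows (Nat.zero_le _) (by rwa [Nat.zero_add]), by decide +kernel, rfl⟩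

end Cfsg.Lib.CoThreeM12
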