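import Cfsg.Agent.Lib.CoThreeM12.TransModel

/-!
# In the model `k = 1` the two classes of involutions fuse

Four conjugations inside the model and three by the element `φ sigM` lead from `a` to `t * z`.
-/

set_option autoImplicit false
set_option linter.style.haveILetI false
set_option linter.style.longLine false
set_option maxRecDepth 100000

namespace Cfsg.Lib.CoThreeM12

open Cfsg Cfsg.Lib.MTwelveRecog Setup

universe u

/-- The image of `n` under `sigM` in coordinates. -/
def cImgN (w : Fin 4) : El :=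
  mMul 1 parOne (2, true, 0) (0, false, cMul (cInv 73) (cF ⟨w.val, by omega⟩))

/-- The image of `n * t * f l` under `sigM`. -/
def cImgNT (w : Fin 4) (l : Fin 192) : El := mMul 1 parOne (cImgN w) (0, true, cSig l)

/-- Conjugators for the last link. -/
def cLink : Fin 4 → Fin 192 := ![15, 33, 4, 13]

theorem good_data :
    mMul 1 parOne (4, false, 15) (0, false, 55) = mMul 1 parOne (1, true, 19) (4, false, 15) ∧
    mMul 1 parOne (0, false, 4) (1, true, 73) = mMul 1 parOne (1, true, 61) (0, false, 4) ∧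
    (∀ w : Fin 4, mMul 1 parOne (4, false, 0) (cImgNT w 19) = mMul 1 parOne (cImgNT w 73) (4, false, 0)) ∧
    (∀ w : Fin 4, mMul 1 parOne (4, false, cLink w) (cImgNT w 61) =
      mMul 1 parOne (0, true, 61) (4, false, cLink w)) ∧
    inL 19 = true ∧ inL 73 = true ∧ inL 61 = true ∧ cCls 61 = 9 ∧ cTe 1 = true ∧ cCorr 1 = 73 := by
  refine ⟨?_, ?_, ?_, ?_, ?_, ?_, ?_, ?_, ?_, ?_⟩ <;> decide +kernel

namespace Tr

variable {G : Type u} [Group G] {S : Setup G} (T : Tr S 1)

theorem isConj_of_mMul (R : T.Rels parOne) {g x y : El} (h : mMul 1 parOne g x = mMul 1 parOne y g) :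
    IsConj (T.ev x) (T.ev y) := by
  refine isConj_iff.2 ⟨T.ev g, ?_⟩
  rw [← T.ev_mMul R, h, T.ev_mMul R, mul_inv_cancel_right]

theorem sig_conj_nt (R : T.Rels parOne) :
    ∃ w : Fin 4, ∀ l, inL l = true → IsConj (T.ev (1, true, l)) (T.ev (cImgNT w l)) := by
  obtain ⟨w, hw⟩ := T.fused
  obtain ⟨-, -, -, -, -, -, -, -, hte, hcor⟩ := good_data
  rw [hte, hcor, cond_true, ← S.finv] at hw
  refine ⟨w, fun l hl => isConj_iff.2 ⟨S.φ sigM, ?_⟩⟩
  have e1 : T.ev (1, true, l) = T.n * S.t * S.f l := by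
    rw [ev, show (1 : Fin 8).val.testBit 0 = true from rfl, show (1 : Fin 8).val.testBit 1 = false from rfl,
      show (1 : Fin 8).val.testBit 2 = false from rfl]
    simp [gsel]
  have e2 : T.ev (2, true, 0) = T.p * S.t := by
    rw [ev, show (2 : Fin 8).val.testBit 0 = false from rfl, show (2 : Fin 8).val.testBit 1 = true from rfl,
      show (2 : Fin 8).val.testBit 2 = false from rfl]
    simp [gsel, S.fone]
  have hl' : S.φ sigM * S.f l * (S.φ sigM)⁻¹ = S.f (cSig l) := by
    rw [S.f_eq, S.f_eq, ← map_mul, ← map_inv, ← map_mul, sigM_conj hl]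
  rw [cImgNT, cImgN, T.ev_mMul R, T.ev_mMul R, e1, e2, T.ev_te, T.ev_te,
    show S.φ sigM * (T.n * S.t * S.f l) * (S.φ sigM)⁻¹ = S.φ sigM * T.n * (S.φ sigM)⁻¹ *
      (S.φ sigM * S.t * (S.φ sigM)⁻¹) * (S.φ sigM * S.f l * (S.φ sigM)⁻¹) by group, hw, S.conj_phi_t, hl']
  simp only [gsel, cond_false, cond_true, one_mul, S.fmul]
  group

/-- **The good case.** -/
theorem good [Finite G] (hres : S.t ∈ Cfsg.pResidual 2 G) (R : T.Rels parOne) : S.Good := by
  obtain ⟨hA, hC, hB, hD, i19, i73, i61, h9, -, -⟩ := good_data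
  obtain ⟨w, hs⟩ := T.sig_conj_nt R
  have h1 : IsConj (T.ev (0, false, 55)) (T.ev (0, true, 61)) :=
    (T.isConj_of_mMul R hA).trans ((hs 19 i19).trans ((T.isConj_of_mMul R (hB w)).trans
      ((hs 73 i73).symm.trans ((T.isConj_of_mMul R hC).trans ((hs 61 i61).trans (T.isConj_of_mMul R (hD w)))))))
  rw [T.ev_zeta, T.ev_te] at h1
  have h2 := h1.trans (S.isConj_tz_of_nine (Or.inl h9))
  exact (S.isConj_t_tz hres).trans h2.symm

end Tr

end Cfsg.Lib.CoThreeM12
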