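import Cfsg.Agent.Lib.CoThreeM12.BadZero
import Cfsg.Agent.Lib.CoThreeM12.GoodCase

/-!
# Step 4: `t` fuses to the involution without fixed points
-/

set_option autoImplicit false
set_option linter.style.longLine false

namespace Cfsg.Lib.CoThreeM12

open Cfsg Cfsg.Lib.MTwelveRecog

universe u

namespace Setup

variable {G : Type u} [Group G] (S : Setup G)

/-- The translation group is the one of the good case. -/
theorem exists_model_one [Finite G] (hres : S.t ∈ Cfsg.pResidual 2 G) : ∃ T : Tr S 1, T.Rels parOne := by
  rcases S.exists_model hres with ⟨T, R⟩ | h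
  · exact (T.false_of_zero hres R).elim
  · exact h

/-- **Step 4.** -/
theorem good [Finite G] (hres : S.t ∈ Cfsg.pResidual 2 G) : S.Good := by
  obtain ⟨T, R⟩ := S.exists_model_one hres
  exact T.good hres R

end Setup

end Cfsg.Lib.CoThreeM12
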