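import Cfsg.Agent.Lib.CoThreeM12.SpCtlDefs

/-!
# The certificates of the control of involutions in `Sp6(2)`
-/

set_option autoImplicit false
set_option maxRecDepth 100000
set_option maxHeartbeats 0

namespace Cfsg.Lib.CoThreeM12.SpCtl

theorem decA1_ok : decOK (reps.getD 1 0) (tree1.headD ([], 0, 0)).2.1 cls1 orbA1 cenA1 = true := by
  decide +kernel

theorem decB1_ok : decOK (reps.getD 1 0) (tree1.headD ([], 0, 0)).2.2 cls1 orbB1 cenB1 = true := by
  decide +kernel

theorem root1_ok : rootOK 1 (reps.getD 1 0) (tree1.headD ([], 0, 0)).2.1 (tree1.headD ([], 0, 0)).2.2 orbA1 cenB1 tree1.tail = true := by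
  decide +kernel

theorem decA2_ok : decOK (reps.getD 2 0) (tree2.headD ([], 0, 0)).2.1 cls2 orbA2 cenA2 = true := by
  decide +kernel

theorem decB2_ok : decOK (reps.getD 2 0) (tree2.headD ([], 0, 0)).2.2 cls2 orbB2 cenB2 = true := by
  decide +kernel

theorem root2_ok : rootOK 2 (reps.getD 2 0) (tree2.headD ([], 0, 0)).2.1 (tree2.headD ([], 0, 0)).2.2 orbA2 cenB2 tree2.tail = true := by
  decide +kernel

theorem decA3_ok : decOK (reps.getD 3 0) (tree3.headD ([], 0, 0)).2.1 cls3 orbA3 cenA3 = true := by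
  decide +kernel

theorem decB3_ok : decOK (reps.getD 3 0) (tree3.headD ([], 0, 0)).2.2 cls3 orbB3 cenB3 = true := by
  decide +kernel

theorem root3_ok : rootOK 3 (reps.getD 3 0) (tree3.headD ([], 0, 0)).2.1 (tree3.headD ([], 0, 0)).2.2 orbA3 cenB3 tree3.tail = true := by
  decide +kernel

theorem invol_ok : ((prods orbA1 cenA1).all fun j => !Nat.beq (cmp j j) one || Nat.beq j one || known 4 j) = true := by
  decide +kernel

theorem vertex_ok : valid (reps.getD 0 0) = true ∧ cmp (reps.getD 0 0) (reps.getD 0 0) = one ∧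
    cmp (reps.getD 1 0) (reps.getD 1 0) = one ∧ !mem (reps.getD 0 0) (cls1.map Prod.fst) = true := by
  decide +kernel

end Cfsg.Lib.CoThreeM12.SpCtl
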