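import Cfsg.Agent.Lib.CoThreeM12.SpCtlDefs
import Cfsg.Agent.Lib.SpSix.Symp

/-!
# Symplectic matrices and their codes
-/

set_option autoImplicit false
set_option maxRecDepth 100000

namespace Cfsg.Lib.CoThreeM12.SpCtl

open Cfsg.Lib.SpSix Matrix

/-- A vector of the natural module. -/
abbrev Vec : Type := Fin 3 ⊕ Fin 3 → ZMod 2

/-- The label of a vector. -/
def lab (v : Vec) : ℕ :=
  (v (.inl 0)).val + 2 * (v (.inl 1)).val + 4 * (v (.inl 2)).val + 8 * (v (.inr 0)).val +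
    16 * (v (.inr 1)).val + 32 * (v (.inr 2)).val

/-- The vector of a label. -/
def unl (x : ℕ) : Vec :=
  Sum.elim (fun i => if Nat.testBit x i then 1 else 0) (fun i => if Nat.testBit x (3 + i) then 1 else 0)

/-- The coordinates in the order of the labels. -/
def idx (i : Fin 6) : Fin 3 ⊕ Fin 3 := ![.inl 0, .inl 1, .inl 2, .inr 0, .inr 1, .inr 2] i

theorem unl_lab : ∀ v : Vec, unl (lab v) = v ∧ lab v < 64 := by decide +kernel

theorem lab_unl : ∀ x : Fin 64, lab (unl x) = x := by decide +kernel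

theorem unl_xor : ∀ x y : Fin 64, unl (Nat.xor x y) = unl x + unl y := by decide +kernel

theorem lab_add (u w : Vec) : lab (u + w) = Nat.xor (lab u) (lab w) := by
  conv_lhs => rw [← (unl_lab u).1, ← (unl_lab w).1, ← unl_xor ⟨_, (unl_lab u).2⟩ ⟨_, (unl_lab w).2⟩]
  exact lab_unl ⟨_, Nat.xor_lt_two_pow (n := 6) (unl_lab u).2 (unl_lab w).2⟩

theorem lab_zero : lab 0 = 0 := by decide +kernel

theorem unl_split : ∀ x : Fin 64, unl x =
    (bif Nat.testBit x 0 then unl 1 else 0) + ((bif Nat.testBit x 1 then unl 2 else 0) +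
      ((bif Nat.testBit x 2 then unl 4 else 0) + ((bif Nat.testBit x 3 then unl 8 else 0) +
        ((bif Nat.testBit x 4 then unl 16 else 0) + (bif Nat.testBit x 5 then unl 32 else 0))))) := by
  decide +kernel

theorem unl_idx : ∀ i : Fin 6, unl (2 ^ (i : ℕ)) = Pi.single (idx i) 1 := by decide +kernel

theorem idx_surj : ∀ k : Fin 3 ⊕ Fin 3, ∃ i : Fin 6, idx i = k := by decide +kernel

theorem form_table : ∀ x y : Fin 64,
    unl x ⬝ᵥ (Matrix.J (Fin 3) (ZMod 2) *ᵥ unl y) = (if form x y then 1 else 0) := by decide +kernel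

theorem J_table : ∀ i j : Fin 6, Matrix.J (Fin 3) (ZMod 2) (idx i) (idx j) =
    (if form (2 ^ (i : ℕ)) (2 ^ (j : ℕ)) then 1 else 0) := by decide +kernel

/-- The code of a matrix. -/
def enc (A : SpGrp) : ℕ :=
  Nat.lor (lab (A.1 *ᵥ unl 1)) (Nat.lor (Nat.shiftLeft (lab (A.1 *ᵥ unl 2)) 6)
    (Nat.lor (Nat.shiftLeft (lab (A.1 *ᵥ unl 4)) 12) (Nat.lor (Nat.shiftLeft (lab (A.1 *ᵥ unl 8)) 18)
      (Nat.lor (Nat.shiftLeft (lab (A.1 *ᵥ unl 16)) 24) (Nat.shiftLeft (lab (A.1 *ᵥ unl 32)) 30)))))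

theorem col_lor {a b c d e f : ℕ} (ha : a < 64) (hb : b < 64) (hc : c < 64) (hd : d < 64) (he : e < 64)
    (hf : f < 64) : ∀ i : Fin 6,
    col (Nat.lor a (Nat.lor (Nat.shiftLeft b 6) (Nat.lor (Nat.shiftLeft c 12) (Nat.lor (Nat.shiftLeft d 18)
      (Nat.lor (Nat.shiftLeft e 24) (Nat.shiftLeft f 30)))))) i = ![a, b, c, d, e, f] i := by
  have hz : ∀ {L : ℕ}, L < 64 → ∀ {m : ℕ}, 6 ≤ m → L.testBit m = false := fun hL m hm =>
    Nat.testBit_lt_two_pow (lt_of_lt_of_le (show _ < 2 ^ 6 from hL) (Nat.pow_le_pow_right (show 0 < 2 by norm_num) hm))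
  intro i
  refine Nat.eq_of_testBit_eq fun m => ?_
  show ((((a ||| (b <<< 6 ||| (c <<< 12 ||| (d <<< 18 ||| (e <<< 24 ||| f <<< 30))))) >>> (6 * (i : ℕ))) &&&
    63).testBit m) = _
  rw [Nat.testBit_and, show (63 : ℕ) = 2 ^ 6 - 1 from rfl, Nat.testBit_two_pow_sub_one]
  simp only [Nat.testBit_shiftRight, Nat.testBit_or, Nat.testBit_shiftLeft]
  rcases Nat.lt_or_ge m 6 with hm | hm
  · fin_cases i <;> simp [hm] <;>
      (interval_cases m <;> simp [hz ha, hz hb, hz hc, hz hd, hz he, hz hf])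
  · fin_cases i <;> simp [Nat.not_lt.2 hm, hz ha hm, hz hb hm, hz hc hm, hz hd hm, hz he hm, hz hf hm]

theorem col_enc (A : SpGrp) (i : Fin 6) : col (enc A) i = lab (A.1 *ᵥ unl (2 ^ (i : ℕ))) := by
  rw [enc, col_lor (unl_lab _).2 (unl_lab _).2 (unl_lab _).2 (unl_lab _).2 (unl_lab _).2 (unl_lab _).2]
  fin_cases i <;> rfl

theorem app_enc (A : SpGrp) (x : ℕ) (hx : x < 64) : app (enc A) x = lab (A.1 *ᵥ unl x) := by
  have h : ∀ (b : Bool) (i : Fin 6), lab (A.1 *ᵥ (bif b then unl (2 ^ (i : ℕ)) else 0)) =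
      (bif b then col (enc A) i else 0) := fun b i => by
    cases b
    · simp [lab_zero]
    · exact (col_enc A i).symm
  conv_rhs => rw [unl_split ⟨x, hx⟩]
  simp only [Matrix.mulVec_add, lab_add]
  rw [app]
  exact (congrArg₂ Nat.xor (h _ 0) (congrArg₂ Nat.xor (h _ 1) (congrArg₂ Nat.xor (h _ 2)
    (congrArg₂ Nat.xor (h _ 3) (congrArg₂ Nat.xor (h _ 4) (h _ 5)))))).symm

theorem app_col (A B : SpGrp) (i : Fin 6) : app (enc A) (col (enc B) i) = lab ((A * B).1 *ᵥ unl (2 ^ (i : ℕ))) := by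
  rw [col_enc, app_enc A _ (unl_lab _).2, (unl_lab _).1, Submonoid.coe_mul, Matrix.mulVec_mulVec]

theorem cmp_enc (A B : SpGrp) : cmp (enc A) (enc B) = enc (A * B) := by
  rw [cmp, show app (enc A) (col (enc B) 0) = _ from app_col A B 0, show app (enc A) (col (enc B) 1) = _ from app_col A B 1,
    show app (enc A) (col (enc B) 2) = _ from app_col A B 2, show app (enc A) (col (enc B) 3) = _ from app_col A B 3,
    show app (enc A) (col (enc B) 4) = _ from app_col A B 4, show app (enc A) (col (enc B) 5) = _ from app_col A B 5]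
  rfl

theorem enc_injective : Function.Injective enc := by
  intro A B h
  refine Subtype.ext (Matrix.ext fun r k => ?_)
  obtain ⟨i, rfl⟩ := idx_surj k
  have e : lab (A.1 *ᵥ unl (2 ^ (i : ℕ))) = lab (B.1 *ᵥ unl (2 ^ (i : ℕ))) := by
    rw [← col_enc, ← col_enc, h]
  have e2 := congrFun (congrArg unl e) r
  rw [(unl_lab _).1, (unl_lab _).1, unl_idx] at e2
  simpa using e2

theorem enc_one : enc 1 = one := by
  simp only [enc, Submonoid.coe_one, Matrix.one_mulVec]
  decide +kernel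

theorem eq_one_iff {A : SpGrp} : enc A = one ↔ A = 1 := by rw [← enc_one]; exact enc_injective.eq_iff

theorem cm_iff (A B : SpGrp) : cm (enc A) (enc B) = true ↔ A * B = B * A := by
  constructor
  · intro h
    simp only [cm, List.all_cons, List.all_nil, Bool.and_true, Bool.and_eq_true, Nat.beq_eq] at h
    obtain ⟨h0, h1, h2, h3, h4, h5⟩ := h
    refine enc_injective ?_
    rw [← cmp_enc, ← cmp_enc]
    simp only [cmp, h0, h1, h2, h3, h4, h5]
  · intro h
    have := fun i : Fin 6 => (app_col A B i).trans ((congrArg (fun C : SpGrp => lab (C.1 *ᵥ unl (2 ^ (i : ℕ)))) h).trans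
      (app_col B A i).symm)
    simp only [cm, List.all_cons, List.all_nil, Bool.and_true, Bool.and_eq_true, Nat.beq_eq]
    exact ⟨this 0, this 1, this 2, this 3, this 4, this 5⟩

theorem neq_ne {A B C D : SpGrp} (h : neq (enc A) (enc B) (enc C) (enc D) = true) : A * B ≠ C * D := by
  intro e
  simp only [neq, List.any_eq_true] at h
  obtain ⟨i, hi, hne⟩ := h
  obtain ⟨j, rfl⟩ : ∃ j : Fin 6, (j : ℕ) = i := by
    refine ⟨⟨i, ?_⟩, rfl⟩
    simp only [List.mem_cons, List.not_mem_nil, or_false] at hi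
    omega
  rw [app_col, app_col, e] at hne
  simp at hne

theorem exists_of_valid {c : ℕ} (h : valid c = true) : ∃ A : SpGrp, enc A = c := by
  simp only [valid, Bool.and_eq_true, List.all_eq_true, List.mem_range, beq_iff_eq, Nat.blt, Nat.ble_eq] at h
  obtain ⟨hlt, hf⟩ := h
  have h64 : ∀ i : ℕ, col c i < 64 := fun i => Nat.lt_succ_of_le Nat.and_le_right
  let ix : Fin 3 ⊕ Fin 3 → Fin 6 := fun k => (idx_surj k).choose
  have hix : ∀ k, idx (ix k) = k := fun k => (idx_surj k).choose_spec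
  have hix' : ∀ i : Fin 6, ix (idx i) = i := fun i => by
    have hinj : Function.Injective idx := by decide +kernel
    exact hinj (hix _)
  let M : Matrix (Fin 3 ⊕ Fin 3) (Fin 3 ⊕ Fin 3) (ZMod 2) := Matrix.of fun r k => unl (col c (ix k)) r
  have hM : M ∈ Matrix.symplecticGroup (Fin 3) (ZMod 2) := by
    rw [SymplecticGroup.mem_iff']
    refine Matrix.ext fun a b => ?_
    have e : (Mᵀ * Matrix.J (Fin 3) (ZMod 2) * M) a b =
        unl (col c (ix a)) ⬝ᵥ (Matrix.J (Fin 3) (ZMod 2) *ᵥ unl (col c (ix b))) := by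
      rw [Matrix.mul_assoc]
      rfl
    rw [e, form_table ⟨_, h64 _⟩ ⟨_, h64 _⟩, hf _ (ix a).2 _ (ix b).2, ← J_table, hix, hix]
  refine ⟨⟨M, hM⟩, ?_⟩
  have hcol : ∀ i : Fin 6, col (enc ⟨M, hM⟩) i = col c i := fun i => by
    rw [col_enc, unl_idx, show M *ᵥ Pi.single (idx i) 1 = unl (col c (ix (idx i))) from
      funext fun r => by simp [M], hix', lab_unl ⟨_, h64 _⟩]
  have henc : enc ⟨M, hM⟩ < 2 ^ 36 := by
    simp only [enc]
    have hs : ∀ v : Vec, ∀ k ≤ 30, Nat.shiftLeft (lab v) k < 2 ^ 36 := fun v k hk => by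
      show lab v <<< k < _
      rw [Nat.shiftLeft_eq]
      calc lab v * 2 ^ k < 64 * 2 ^ k := Nat.mul_lt_mul_of_pos_right (unl_lab v).2 (Nat.two_pow_pos k)
        _ ≤ 2 ^ 6 * 2 ^ 30 := Nat.mul_le_mul le_rfl (Nat.pow_le_pow_right (by norm_num) hk)
        _ = 2 ^ 36 := by norm_num
    refine Nat.or_lt_two_pow (lt_trans (unl_lab _).2 (by norm_num)) (Nat.or_lt_two_pow (hs _ _ (by norm_num))
      (Nat.or_lt_two_pow (hs _ _ (by norm_num)) (Nat.or_lt_two_pow (hs _ _ (by norm_num))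
        (Nat.or_lt_two_pow (hs _ _ (by norm_num)) (hs _ _ le_rfl)))))
  refine Nat.eq_of_testBit_eq fun m => ?_
  rcases Nat.lt_or_ge m 36 with hm | hm
  · have h := congrArg (fun x => Nat.testBit x (m % 6)) (hcol ⟨m / 6, by omega⟩)
    have key : ∀ x : ℕ, (col x (m / 6)).testBit (m % 6) = x.testBit m := fun x => by
      show ((x >>> (6 * (m / 6))) &&& 63).testBit (m % 6) = _
      rw [Nat.testBit_and, show (63 : ℕ) = 2 ^ 6 - 1 from rfl, Nat.testBit_two_pow_sub_one,
        Nat.testBit_shiftRight, Nat.div_add_mod]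
      simp [Nat.mod_lt m (by norm_num : 6 > 0)]
    simpa [key] using h
  · rw [Nat.testBit_lt_two_pow (henc.trans_le (Nat.pow_le_pow_right (by norm_num) hm)),
      Nat.testBit_lt_two_pow ((show c < 2 ^ 36 from hlt).trans_le (Nat.pow_le_pow_right (by norm_num) hm))]

theorem mem_iff {e : ℕ} {l : List ℕ} : mem e l = true ↔ e ∈ l := by simp [mem]

end Cfsg.Lib.CoThreeM12.SpCtl
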