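import Cfsg.Agent.Lib.CoThreeM12.SpCtlDefs

/-!
# The certificates of the nodes
-/

set_option autoImplicit false
set_option maxRecDepth 100000
set_option maxHeartbeats 0

namespace Cfsg.Lib.CoThreeM12.SpCtl

theorem node1_1 : treeAt 1 (prods orbA1 cenA1) (reps.getD 1 0) tree1 1 = true := by decide +kernel

theorem node1_2 : treeAt 1 (prods orbA1 cenA1) (reps.getD 1 0) tree1 2 = true := by decide +kernel

theorem node1_3 : treeAt 1 (prods orbA1 cenA1) (reps.getD 1 0) tree1 3 = true := by decide +kernel

theorem node1_4 : treeAt 1 (prods orbA1 cenA1) (reps.getD 1 0) tree1 4 = true := by decide +kernel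

theorem node1_5 : treeAt 1 (prods orbA1 cenA1) (reps.getD 1 0) tree1 5 = true := by decide +kernel

theorem node1_6 : treeAt 1 (prods orbA1 cenA1) (reps.getD 1 0) tree1 6 = true := by decide +kernel

theorem node1_7 : treeAt 1 (prods orbA1 cenA1) (reps.getD 1 0) tree1 7 = true := by decide +kernel

theorem node1_8 : treeAt 1 (prods orbA1 cenA1) (reps.getD 1 0) tree1 8 = true := by decide +kernel

theorem node1_9 : treeAt 1 (prods orbA1 cenA1) (reps.getD 1 0) tree1 9 = true := by decide +kernel

theorem node1_10 : treeAt 1 (prods orbA1 cenA1) (reps.getD 1 0) tree1 10 = true := by decide +kernel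

theorem node1_11 : treeAt 1 (prods orbA1 cenA1) (reps.getD 1 0) tree1 11 = true := by decide +kernel

theorem node1_12 : treeAt 1 (prods orbA1 cenA1) (reps.getD 1 0) tree1 12 = true := by decide +kernel

theorem node1_13 : treeAt 1 (prods orbA1 cenA1) (reps.getD 1 0) tree1 13 = true := by decide +kernel

theorem node3_1 : treeAt 3 (prods orbA3 cenA3) (reps.getD 3 0) tree3 1 = true := by decide +kernel

end Cfsg.Lib.CoThreeM12.SpCtl
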