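import Cfsg.Agent.Lib.CoThreeM12.Control
import Cfsg.Agent.Lib.CoThreeM12.SpCtlCode
import Cfsg.Agent.Lib.CoThreeM12.SpCtlChecks
import Cfsg.Agent.Lib.CoThreeM12.SpCtlNodes

/-!
# A copy of `Sp6(2)` controlling its class of 3780 involutions is the whole group
-/

set_option autoImplicit false
set_option maxRecDepth 100000
set_option linter.style.haveILetI false
set_option maxHeartbeats 1000000

namespace Cfsg.Lib.CoThreeM12.SpCtl

open Cfsg.Lib.SpSix Subgroup

set_option linter.unusedSectionVars false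

theorem rep_valid : ∀ k : Fin 4, valid (reps.getD k 0) = true := by decide +kernel

/-- The representatives. -/
noncomputable def R (k : Fin 4) : SpGrp := (exists_of_valid (rep_valid k)).choose

theorem enc_R (k : Fin 4) : enc (R k) = reps.getD k 0 := (exists_of_valid (rep_valid k)).choose_spec

theorem sorted_pairwise : ∀ {l : List ℕ}, sorted l = true → l.Pairwise (· < ·)
  | [], _ => List.Pairwise.nil
  | [_], _ => List.pairwise_singleton _ _
  | a :: b :: l, h => by
    simp only [sorted, Bool.and_eq_true, Nat.blt, Nat.ble_eq] at h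
    have ih := sorted_pairwise h.2
    refine List.pairwise_cons.2 ⟨fun x hx => ?_, ih⟩
    rcases List.mem_cons.1 hx with rfl | hx
    · exact h.1
    · exact lt_trans h.1 ((List.pairwise_cons.1 ih).1 x hx)

theorem get_inj {l : List (ℕ × ℕ)} (h : (l.map Prod.fst).Pairwise (· < ·)) {i j : Fin l.length}
    (e : (l.get i).1 = (l.get j).1) : i = j := by
  have hn : (l.map Prod.fst).Nodup := h.imp Nat.ne_of_lt
  have := (hn.getElem_inj_iff (hi := by simp) (hj := by simp)).1
    (show (l.map Prod.fst)[(i : ℕ)]'(by simp) = (l.map Prod.fst)[(j : ℕ)]'(by simp) by simpa using e)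
  exact Fin.ext this

/-- What the checks of a decomposition give. -/
theorem dec_spec {E V : SpGrp} {T O : List (ℕ × ℕ)} {C : List ℕ}
    (h : decOK (enc E) (enc V) T O C = true) :
    (∀ x : SpGrp, ∃ p ∈ T, p.1 = enc (x * E * x⁻¹)) ∧
    (∀ y : SpGrp, y * E = E * y → (∃ p ∈ O, p.1 = enc (y * V * y⁻¹)) ∧ enc y ∈ prods O C) ∧
    (∀ y : SpGrp, y * E = E * y → y * V = V * y → enc y ∈ C) := by
  classical
  simp only [decOK, Bool.and_eq_true, List.all_eq_true, Nat.beq_eq] at h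
  obtain ⟨⟨⟨⟨⟨⟨⟨-, hT⟩, hO⟩, hC⟩, sT⟩, sO⟩, sC⟩, hlen⟩ := h
  have pT := sorted_pairwise sT
  have pO := sorted_pairwise sO
  have pC : C.Nodup := (sorted_pairwise sC).imp Nat.ne_of_lt
  choose gT hgT using fun i : Fin T.length => exists_of_valid (hT _ (List.get_mem T i)).1.2
  choose gO hgO using fun i : Fin O.length => exists_of_valid (hO _ (List.get_mem O i)).1.1.2
  choose gC hgC using fun i : Fin C.length => exists_of_valid (hC _ (List.get_mem C i)).1.1
  have tE : ∀ i, (T.get i).1 = enc (gT i * E * (gT i)⁻¹) := fun i => by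
    obtain ⟨⟨v1, -⟩, hc⟩ := hT _ (List.get_mem T i)
    obtain ⟨u, hu⟩ := exists_of_valid v1
    rw [← hu, ← hgT i, cmp_enc, cmp_enc] at hc
    rw [← hu, ← mul_inv_eq_iff_eq_mul.2 (enc_injective hc)]
  have oE : ∀ i, gO i * E = E * gO i := fun i => by
    obtain ⟨⟨-, hm⟩, -⟩ := hO _ (List.get_mem O i)
    rw [← hgO i] at hm
    exact (cm_iff _ _).1 hm
  have oV : ∀ i, (O.get i).1 = enc (gO i * V * (gO i)⁻¹) := fun i => by
    obtain ⟨⟨⟨v1, -⟩, -⟩, hc⟩ := hO _ (List.get_mem O i)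
    obtain ⟨u, hu⟩ := exists_of_valid v1
    rw [← hu, ← hgO i, cmp_enc, cmp_enc] at hc
    rw [← hu, ← mul_inv_eq_iff_eq_mul.2 (enc_injective hc)]
  have cEV : ∀ i, gC i * E = E * gC i ∧ gC i * V = V * gC i := fun i => by
    obtain ⟨⟨-, h1⟩, h2⟩ := hC _ (List.get_mem C i)
    rw [← hgC i] at h1 h2
    exact ⟨(cm_iff _ _).1 h1, (cm_iff _ _).1 h2⟩
  let f : Fin T.length × Fin O.length × Fin C.length → SpGrp := fun q => gT q.1 * gO q.2.1 * gC q.2.2
  have conj_id : ∀ {a b : SpGrp}, a * b = b * a → a * b * a⁻¹ = b := fun h => by rw [h, mul_inv_cancel_right]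
  have key : ∀ q, f q * E * (f q)⁻¹ = gT q.1 * E * (gT q.1)⁻¹ := fun q => by
    calc f q * E * (f q)⁻¹ = gT q.1 * (gO q.2.1 * (gC q.2.2 * E * (gC q.2.2)⁻¹) * (gO q.2.1)⁻¹) * (gT q.1)⁻¹ := by
          simp only [f, mul_inv_rev, mul_assoc]
      _ = _ := by rw [conj_id (cEV _).1, conj_id (oE _)]
  have key2 : ∀ j k, gO j * gC k * V * (gO j * gC k)⁻¹ = gO j * V * (gO j)⁻¹ := fun j k => by
    calc gO j * gC k * V * (gO j * gC k)⁻¹ = gO j * (gC k * V * (gC k)⁻¹) * (gO j)⁻¹ := by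
          simp only [mul_inv_rev, mul_assoc]
      _ = _ := by rw [conj_id (cEV _).2]
  have finj : Function.Injective f := by
    rintro ⟨i, j, k⟩ ⟨i', j', k'⟩ e
    have e1 : i = i' := get_inj pT (by rw [tE, tE, ← key (i, j, k), e, key])
    subst e1
    have e' : gO j * gC k = gO j' * gC k' := by simpa [f, mul_assoc] using e
    have e2 : j = j' := get_inj pO (by rw [oV, oV, ← key2 j k, e', key2])
    subst e2
    have e3 : enc (gC k) = enc (gC k') := congrArg enc (mul_left_cancel e')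
    rw [hgC, hgC] at e3
    rw [Fin.ext ((pC.getElem_inj_iff).1 e3)]
  haveI : Finite SpGrp := Nat.finite_of_card_ne_zero (by rw [card_Sp]; norm_num)
  have fsurj : Function.Surjective f :=
    ((Nat.bijective_iff_injective_and_card f).2 ⟨finj, by
      rw [Nat.card_prod, Nat.card_prod, Nat.card_fin, Nat.card_fin, Nat.card_fin, card_Sp, hlen]⟩).2
  have hy1 : ∀ i, (∃ x : SpGrp, gT i * x * E = E * (gT i * x) ∧ x * E = E * x) → (T.get i).1 = enc E := by
    rintro i ⟨x, h1, h2⟩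
    rw [tE]
    congr 1
    calc gT i * E * (gT i)⁻¹ = gT i * (x * E * x⁻¹) * (gT i)⁻¹ := by rw [conj_id h2]
      _ = gT i * x * E * (gT i * x)⁻¹ := by simp only [mul_inv_rev, mul_assoc]
      _ = E := conj_id h1
  obtain ⟨⟨i0, j0, k0⟩, h0⟩ := fsurj 1
  have hcomb : ∀ j k, gO j * gC k * E = E * (gO j * gC k) := fun j k =>
    (show Commute (gO j * gC k) E from Commute.mul_left (oE j) (cEV k).1).eq
  -- elements fixing `E`
  have decomp : ∀ y : SpGrp, y * E = E * y → ∃ j k, gT i0 * (gO j * gC k) = y := fun y hy => by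
    obtain ⟨⟨i, j, k⟩, rfl⟩ := fsurj y
    have e : i = i0 := get_inj pT (by
      rw [hy1 i ⟨_, by simpa [f, mul_assoc] using hy, hcomb j k⟩,
        hy1 i0 ⟨gO j0 * gC k0, by rw [← mul_assoc, show gT i0 * gO j0 * gC k0 = 1 from h0, one_mul, mul_one],
          hcomb j0 k0⟩])
    exact ⟨j, k, by simp only [f, e, mul_assoc]⟩
  have hT0 : gT i0 * E = E * gT i0 := by
    have h1 : gT i0 = (gO j0 * gC k0)⁻¹ := eq_inv_of_mul_eq_one_left (by rw [← mul_assoc]; exact h0)
    rw [h1]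
    exact ((show Commute (gO j0 * gC k0) E from hcomb j0 k0).inv_left).eq
  have dec2 : ∀ y : SpGrp, y * E = E * y → ∃ j k, gO j * gC k = y := fun y hy => by
    obtain ⟨j, k, h⟩ := decomp (gT i0 * y) (show Commute (gT i0 * y) E from Commute.mul_left hT0 hy).eq
    exact ⟨j, k, mul_left_cancel h⟩
  refine ⟨fun x => ?_, fun y hy => ?_, fun y hy hv => ?_⟩
  · obtain ⟨q, rfl⟩ := fsurj x
    exact ⟨_, List.get_mem T q.1, by rw [key, tE]⟩
  · obtain ⟨j, k, rfl⟩ := dec2 y hy
    refine ⟨⟨_, List.get_mem O j, by rw [key2, oV]⟩, ?_⟩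
    simp only [prods, List.mem_flatMap, List.mem_map]
    exact ⟨_, List.get_mem O j, _, List.get_mem C k, by rw [← cmp_enc, hgO, hgC]⟩
  · obtain ⟨j1, k1, h1⟩ := dec2 1 (by rw [one_mul, mul_one])
    obtain ⟨j, k, h⟩ := dec2 (gO j1 * y) (show Commute (gO j1 * y) E from Commute.mul_left (oE j1) hy).eq
    have hc : gO j1 * y * V * (gO j1 * y)⁻¹ = gO j1 * V * (gO j1)⁻¹ := by
      rw [mul_inv_rev, show gO j1 * y * V * (y⁻¹ * (gO j1)⁻¹) = gO j1 * (y * V * y⁻¹) * (gO j1)⁻¹ by group,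
        conj_id hv]
    have e : j = j1 := get_inj pO (by rw [oV, oV, ← key2 j k, h, hc])
    subst e
    rw [← mul_left_cancel h, hgC]
    exact List.get_mem C k

theorem dec_valid {e v : ℕ} {T O : List (ℕ × ℕ)} {C : List ℕ} (h : decOK e v T O C = true) : valid v = true := by
  simp only [decOK, Bool.and_eq_true] at h
  exact h.1.1.1.1.1.1.1.2

theorem prods_valid {e v : ℕ} {T O : List (ℕ × ℕ)} {C : List ℕ} (h : decOK e v T O C = true) :
    ∀ c ∈ prods O C, ∃ g : SpGrp, enc g = c := by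
  simp only [decOK, Bool.and_eq_true, List.all_eq_true] at h
  obtain ⟨⟨⟨⟨⟨⟨-, hO⟩, hC⟩, -⟩, -⟩, -⟩, -⟩ := h
  intro c hc
  simp only [prods, List.mem_flatMap, List.mem_map] at hc
  obtain ⟨p, hp, y, hy, rfl⟩ := hc
  obtain ⟨g, hg⟩ := exists_of_valid (hO p hp).1.1.2
  obtain ⟨u, hu⟩ := exists_of_valid (hC y hy).1.1
  exact ⟨g * u, by rw [← cmp_enc, hg, hu]⟩

theorem topIn_spec : ∀ (n : ℕ) {h : SpGrp} {E : List ℕ} {k : ℕ}, k < n → orderOf h = 2 ^ (k + 1) →
    enc (h ^ 2 ^ k) ∈ E → topIn n (enc h) E = true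
  | 0, _, _, _, hk, _, _ => absurd hk (Nat.not_lt_zero _)
  | n + 1, h, E, 0, _, ho, hE => by
    have h2 : h * h = 1 := by
      have := pow_orderOf_eq_one h
      rwa [ho, zero_add, pow_one, sq] at this
    rw [pow_zero, pow_one] at hE
    rw [topIn, cmp_enc, h2, enc_one, Nat.beq_refl, cond_true]
    exact mem_iff.2 hE
  | n + 1, h, E, k + 1, hk, ho, hE => by
    have h2 : h * h ≠ 1 := fun e => by
      have h2' : orderOf h ∣ 2 := orderOf_dvd_of_pow_eq_one (by rw [sq, e])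
      rw [ho] at h2'
      have := Nat.le_of_dvd two_pos h2'
      have : (4 : ℕ) ≤ 2 ^ (k + 1 + 1) := le_of_eq_of_le rfl (Nat.pow_le_pow_right (show 0 < 2 by norm_num)
        (show 2 ≤ k + 1 + 1 by omega))
      omega
    have hne : Nat.beq (cmp (enc h) (enc h)) one = false := by
      rw [Bool.eq_false_iff, Ne, Nat.beq_eq, cmp_enc, eq_one_iff]
      exact h2
    rw [topIn, hne, cond_false, cmp_enc]
    refine topIn_spec n (k := k) (by omega) ?_ ?_
    · rw [← sq, orderOf_pow, ho, pow_succ 2 (k + 1), Nat.gcd_eq_right ⟨_, mul_comm _ _⟩, Nat.mul_div_cancel _ two_pos]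
    · rwa [← sq, ← pow_mul, ← pow_succ']

theorem twoTop_spec {h : SpGrp} {E : List ℕ}
    (ho : h = 1 ∨ ∃ k : ℕ, orderOf h = 2 ^ (k + 1) ∧ enc (h ^ 2 ^ k) ∈ E) : twoTop (enc h) E = true := by
  rw [twoTop, Bool.or_eq_true]
  rcases ho with rfl | ⟨k, hk, hE⟩
  · exact Or.inl (by rw [enc_one, Nat.beq_refl])
  · refine Or.inr (topIn_spec 10 ?_ hk hE)
    by_contra hk10
    have hd : 2 ^ (k + 1) ∣ 1451520 := hk ▸ card_Sp ▸ orderOf_dvd_natCard h
    have := (pow_dvd_pow 2 (show 11 ≤ k + 1 by omega)).trans hd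
    norm_num at this

section

variable {X : Type*} [Group X] [Finite X] (ψ : SpGrp →* X) (hψ : Function.Injective ψ)
  (hcent : ∀ x : X, x * ψ (R 0) = ψ (R 0) * x → x ∈ ψ.range)
  (hctrl : ∀ x : X, x * ψ (R 0) * x⁻¹ ∈ ψ.range → x ∈ ψ.range)

/-- The centralizer of the image lies in the copy. -/
def Cle (g : SpGrp) : Prop := ∀ x : X, x * ψ g = ψ g * x → x ∈ ψ.range

/-- The image of a list of codes. -/
def img (E : List ℕ) : Set X := ψ '' {g | enc g ∈ E}

/-- The vertices. -/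
def Vtx : Set X := {w | ∃ x : X, x * ψ (R 0) * x⁻¹ = w}

theorem cle_conj {g u : SpGrp} (h : Cle ψ g) : Cle ψ (u * g * u⁻¹) := fun x hx => by
  have := h ((ψ u)⁻¹ * x * ψ u) (by
    rw [map_mul, map_mul, map_inv] at hx
    calc (ψ u)⁻¹ * x * ψ u * ψ g = (ψ u)⁻¹ * (x * (ψ u * ψ g * (ψ u)⁻¹)) * ψ u := by group
      _ = (ψ u)⁻¹ * (ψ u * ψ g * (ψ u)⁻¹ * x) * ψ u := by rw [hx]
      _ = ψ g * ((ψ u)⁻¹ * x * ψ u) := by group)
  have h2 := mul_mem (mul_mem (MonoidHom.mem_range.2 ⟨u, rfl⟩) this) (inv_mem (MonoidHom.mem_range.2 ⟨u, rfl⟩))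
  simpa [mul_assoc] using h2

theorem known_spec {lim : ℕ} (h4 : lim ≤ 4) {e : SpGrp} (h : known lim (enc e) = true) :
    ∃ k : Fin 4, (k : ℕ) < lim ∧ ∃ u : SpGrp, e = u * R k * u⁻¹ := by
  simp only [known, List.any_eq_true, Bool.and_eq_true, Nat.beq_eq, Nat.blt, Nat.ble_eq] at h
  obtain ⟨w, -, ⟨⟨h1, hk⟩, hv⟩, hc⟩ := h
  obtain ⟨g, hg⟩ := exists_of_valid hv
  obtain ⟨k, hk'⟩ : ∃ k : Fin 4, (k : ℕ) = w.2.1 := ⟨⟨w.2.1, by omega⟩, rfl⟩
  rw [← hk', ← enc_R, ← hg, cmp_enc, cmp_enc] at hc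
  refine ⟨k, hk' ▸ hk, g⁻¹, ?_⟩
  rw [inv_inv, mul_assoc, ← enc_injective hc, inv_mul_cancel_left]

theorem cle_of_known {lim : ℕ} (h4 : lim ≤ 4) (hK : ∀ k : Fin 4, (k : ℕ) < lim → Cle ψ (R k)) {e : SpGrp}
    (h : known lim (enc e) = true) : Cle ψ e := by
  obtain ⟨k, hk, u, rfl⟩ := known_spec h4 h
  exact cle_conj ψ (hK k hk)

theorem vtx_of_known {a : SpGrp} (h : known 1 (enc a) = true) : ψ a ∈ Vtx ψ := by
  obtain ⟨k, hk, u, rfl⟩ := known_spec (by norm_num) h
  obtain rfl : k = 0 := Fin.ext (by simpa using hk)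
  exact ⟨ψ u, by rw [map_mul, map_mul, map_inv]⟩

include hcent hctrl in
theorem frame : Frame ψ.range (Vtx ψ) where
  sq := by
    rintro _ ⟨x, rfl⟩
    have h : R 0 * R 0 = 1 := enc_injective (by rw [← cmp_enc, enc_R, enc_one]; exact vertex_ok.2.1)
    calc x * ψ (R 0) * x⁻¹ * (x * ψ (R 0) * x⁻¹) = x * (ψ (R 0) * ψ (R 0)) * x⁻¹ := by group
      _ = 1 := by rw [← map_mul, h, map_one, mul_one, mul_inv_cancel]
  conj := by
    rintro g _ ⟨x, rfl⟩
    exact ⟨g * x, by group⟩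
  cent := by
    rintro _ ⟨x, rfl⟩ hH y hy
    have hx := hctrl x hH
    have := hcent (x⁻¹ * y * x) (by
      calc x⁻¹ * y * x * ψ (R 0) = x⁻¹ * (y * (x * ψ (R 0) * x⁻¹)) * x := by group
        _ = x⁻¹ * (x * ψ (R 0) * x⁻¹ * y) * x := by rw [hy]
        _ = ψ (R 0) * (x⁻¹ * y * x) := by group)
    have h2 := mul_mem (mul_mem hx this) (inv_mem hx)
    simpa [mul_assoc] using h2
  control := by
    rintro _ ⟨x, rfl⟩ hH g hg
    have hx := hctrl x hH
    have := hctrl (g * x) (by simpa [mul_assoc] using hg)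
    simpa using mul_mem this (inv_mem hx)

include hψ in
theorem comm_of_img {E : List ℕ} {h : SpGrp} (hh : ψ h ∈ centralizer (img ψ E)) {e : SpGrp} (he : enc e ∈ E) :
    h * e = e * h :=
  hψ (by rw [map_mul, map_mul]; exact ((mem_centralizer_iff.1 hh) _ ⟨e, he, rfl⟩).symm)

/-- The centralizer of a set with a further element commutes with the products. -/
theorem comm_E2 {E : List ℕ} {h : SpGrp} {x : X} (hx : x ∈ centralizer (insert (ψ h) (img ψ E)))
    (hE : ∀ e ∈ E, valid e = true) {c : ℕ} (hc : c ∈ enc h :: (E.map (cmp (enc h)) ++ E)) {e : SpGrp}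
    (he : enc e = c) : x * ψ e = ψ e * x := by
  rw [mem_centralizer_iff] at hx
  rcases List.mem_cons.1 hc with hc | hc
  · obtain rfl : e = h := enc_injective (he.trans hc)
    exact (hx _ (Set.mem_insert _ _)).symm
  rcases List.mem_append.1 hc with hc | hc
  · obtain ⟨d, hd, rfl⟩ := List.mem_map.1 hc
    obtain ⟨g, rfl⟩ := exists_of_valid (hE d hd)
    rw [cmp_enc] at he
    rw [enc_injective he, map_mul]
    exact (Commute.mul_right (hx _ (Set.mem_insert _ _)).symm (hx _ (Set.mem_insert_of_mem _ ⟨g, hd, rfl⟩)).symm).eq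
  · exact (hx _ (Set.mem_insert_of_mem _ ⟨e, show enc e ∈ E by rw [he]; exact hc, rfl⟩)).symm

/-- The alternatives at a new involution. -/
theorem insert_le {lim : ℕ} (h4 : lim ≤ 4) (hK : ∀ k : Fin 4, (k : ℕ) < lim → Cle ψ (R k)) {E : List ℕ}
    (hE : ∀ e ∈ E, valid e = true) {later : List (List ℕ × ℕ × ℕ)}
    (hlater : ∀ M ∈ later, centralizer (img ψ M.1) ≤ ψ.range) {h : SpGrp}
    (ha : ((enc h :: (E.map (cmp (enc h)) ++ E)).any (known lim) ||
      later.any fun M => M.1.all fun e => mem e (enc h :: (E.map (cmp (enc h)) ++ E))) = true) :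
    centralizer (insert (ψ h) (img ψ E)) ≤ ψ.range := by
  intro x hx
  rw [Bool.or_eq_true, List.any_eq_true, List.any_eq_true] at ha
  rcases ha with ⟨c, hc, hk⟩ | ⟨M, hM, hsub⟩
  · have hv : ∃ e, enc e = c := by
      rcases List.mem_cons.1 hc with rfl | hc'
      · exact ⟨h, rfl⟩
      rcases List.mem_append.1 hc' with hc' | hc'
      · obtain ⟨d, hd, rfl⟩ := List.mem_map.1 hc'
        obtain ⟨g, rfl⟩ := exists_of_valid (hE d hd)
        exact ⟨_, (cmp_enc _ _).symm⟩
      · exact exists_of_valid (hE c hc')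
    obtain ⟨e, rfl⟩ := hv
    exact cle_of_known ψ h4 hK hk x (comm_E2 ψ hx hE hc rfl)
  · refine hlater M hM (mem_centralizer_iff.2 ?_)
    rintro _ ⟨e, he, rfl⟩
    rw [List.all_eq_true] at hsub
    exact (comm_E2 ψ hx hE (mem_iff.1 (hsub _ he)) rfl).symm

include hψ hcent hctrl in
theorem node_le {lim : ℕ} (h4 : lim ≤ 4) (hK : ∀ k : Fin 4, (k : ℕ) < lim → Cle ψ (R k)) {r : SpGrp}
    {top : List ℕ} (htop : ∀ y, y * r = r * y → enc y ∈ top) (htv : ∀ c ∈ top, ∃ g, enc g = c) {N : List ℕ × ℕ × ℕ}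
    {later : List (List ℕ × ℕ × ℕ)} (hr : enc r ∈ N.1) (hlater : ∀ M ∈ later, centralizer (img ψ M.1) ≤ ψ.range)
    (hok : nodeOK lim top later N = true) : centralizer (img ψ N.1) ≤ ψ.range := by
  obtain ⟨E, a', b'⟩ := N
  simp only [nodeOK, Bool.and_eq_true, List.all_eq_true] at hok
  obtain ⟨⟨⟨⟨⟨hv, ha⟩, hb⟩, hka⟩, hkb⟩, hall⟩ := hok
  rw [mem_iff] at ha hb
  have hL : ∀ c ∈ nodeL top E, ∀ e ∈ E, cm c e = true := fun c hc e he => by
    simp only [nodeL, List.mem_filter, List.all_eq_true] at hc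
    exact hc.2 e he
  have hin : ∀ y : SpGrp, (∀ e : SpGrp, enc e ∈ E → y * e = e * y) → enc y ∈ nodeL top E := fun y hy => by
    simp only [nodeL, List.mem_filter, List.all_eq_true]
    refine ⟨htop y (hy r hr), fun e he => ?_⟩
    obtain ⟨g, rfl⟩ := exists_of_valid (hv e he)
    exact (cm_iff _ _).2 (hy g he)
  obtain ⟨a, rfl⟩ := htv a' (List.mem_filter.1 ha).1
  obtain ⟨b, rfl⟩ := htv b' (List.mem_filter.1 hb).1
  have hbad : ∀ u : SpGrp, enc u ∈ nodeL top E → ψ u ∈ centralizer (img ψ E) := fun u hu =>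
    mem_centralizer_iff.2 (by
      rintro _ ⟨e, he, rfl⟩
      rw [← map_mul, ← map_mul, (cm_iff _ _).1 (hL _ hu _ he)])
  refine (frame ψ hcent hctrl).centralizer_le _ (vtx_of_known ψ hka) (vtx_of_known ψ hkb) ⟨a, rfl⟩ ⟨b, rfl⟩
    (hbad a ha) (hbad b hb) ?_ ?_
  · rintro _ ⟨h, rfl⟩ hh hjb hjj hj1 hjE
    have h1 := (hall _ (hin h fun e he => comm_of_img ψ hψ hh he)).1
    have c1 : cm (enc h) (enc b) = true := (cm_iff _ _).2 (hψ (by rw [map_mul, map_mul]; exact hjb))
    have c2 : Nat.beq (cmp (enc h) (enc h)) one = true :=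
      Nat.beq_eq.mpr (by rw [cmp_enc, eq_one_iff]; exact hψ (by rw [map_mul, map_one]; exact hjj))
    have c3 : Nat.beq (enc h) one = false := by
      rw [Bool.eq_false_iff, Ne, Nat.beq_eq, eq_one_iff]; rintro rfl; exact hj1 (map_one ψ)
    have c4 : mem (enc h) E = false := by
      rw [Bool.eq_false_iff, Ne, mem_iff]; exact fun he => hjE ⟨h, he, rfl⟩
    simp only [c1, c2, c3, c4, Bool.not_false, Bool.and_self, Bool.not_true, Bool.false_or] at h1
    exact insert_le ψ h4 hK hv hlater h1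
  · rintro _ ⟨h, rfl⟩ hh hflip ho _ ⟨y, rfl⟩ hy hconj
    have h2 := (hall _ (hin h fun e he => comm_of_img ψ hψ hh he)).2
    have hf : b * h * b = h⁻¹ := hψ (by simpa using hflip)
    have c1 : Nat.beq (cmp (cmp (enc b) (enc h)) (cmp (enc b) (enc h))) one = true :=
      Nat.beq_eq.mpr (by rw [cmp_enc, cmp_enc, eq_one_iff, ← mul_assoc, hf, inv_mul_cancel])
    have c2 : twoTop (enc h) E = true := by
      refine twoTop_spec ?_
      rcases ho with he | ⟨k, hk, hE⟩
      · exact Or.inl (hψ (he.trans (map_one ψ).symm))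
      · refine Or.inr ⟨k, by rw [← hk, orderOf_injective ψ hψ], ?_⟩
        obtain ⟨g, hg, eg⟩ := hE
        rw [← map_pow] at eg
        exact hψ eg ▸ hg
    simp only [c1, c2, Bool.and_self, Bool.not_true, Bool.false_or, List.all_eq_true] at h2
    have hyL := hin y fun e he => comm_of_img ψ hψ hy he
    have h3 := h2 _ hyL
    rw [cmp_enc] at h3
    refine neq_ne h3 (mul_inv_eq_iff_eq_mul.1 (hψ ?_))
    simpa [mul_assoc] using hconj

include hψ hcent hctrl in
theorem root_le {k : Fin 4} (hK : ∀ i : Fin 4, (i : ℕ) < k → Cle ψ (R i)) {a b : ℕ} {T TB OA OB : List (ℕ × ℕ)}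
    {CA CB : List ℕ} (hA : decOK (reps.getD k 0) a T OA CA = true) (hB : decOK (reps.getD k 0) b TB OB CB = true)
    {later : List (List ℕ × ℕ × ℕ)} (hlater : ∀ M ∈ later, centralizer (img ψ M.1) ≤ ψ.range)
    (hok : rootOK k (reps.getD k 0) a b OA CB later = true) : Cle ψ (R k) := by
  have va : valid a = true := by exact dec_valid hA
  have vb : valid b = true := by exact dec_valid hB
  obtain ⟨A, rfl⟩ := exists_of_valid va
  obtain ⟨B, rfl⟩ := exists_of_valid vb
  rw [← enc_R] at hA hB hok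
  obtain ⟨-, hAo, -⟩ := dec_spec hA
  obtain ⟨-, -, hBc⟩ := dec_spec hB
  simp only [rootOK, Bool.and_eq_true, List.all_eq_true] at hok
  obtain ⟨⟨⟨⟨⟨hka, hkb⟩, hca⟩, hcb⟩, hj⟩, hh⟩ := hok
  have hset : img ψ [enc (R k)] = {ψ (R k)} := by
    ext x
    simp only [img, Set.mem_image, Set.mem_singleton_iff, List.mem_singleton]
    exact ⟨fun ⟨g, hg, e⟩ => e ▸ congrArg ψ (enc_injective hg), fun e => ⟨_, rfl, e.symm⟩⟩
  intro x hx
  have hv : ∀ e ∈ [enc (R k)], valid e = true := fun e he => by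
    rw [List.mem_singleton.1 he, enc_R]; exact rep_valid k
  refine (frame ψ hcent hctrl).centralizer_le (img ψ [enc (R k)]) (vtx_of_known ψ hka) (vtx_of_known ψ hkb) ⟨A, rfl⟩
    ⟨B, rfl⟩ ?_ ?_ ?_ ?_ (show x ∈ centralizer (img ψ [enc (R k)]) by
      rw [hset, mem_centralizer_singleton_iff]; exact hx)
  · rw [hset, mem_centralizer_singleton_iff, ← map_mul, ← map_mul, (cm_iff _ _).1 hca]
  · rw [hset, mem_centralizer_singleton_iff, ← map_mul, ← map_mul, (cm_iff _ _).1 hcb]
  · rintro _ ⟨h, rfl⟩ hc hjb hjj hj1 hjE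
    have hr : h * R k = R k * h := comm_of_img ψ hψ hc (List.mem_singleton_self _)
    have h1 := hj _ (hBc h hr (hψ (by rw [map_mul, map_mul]; exact hjb)))
    have c2 : Nat.beq (cmp (enc h) (enc h)) one = true :=
      Nat.beq_eq.mpr (by rw [cmp_enc, eq_one_iff]; exact hψ (by rw [map_mul, map_one]; exact hjj))
    have c3 : Nat.beq (enc h) one = false := by
      rw [Bool.eq_false_iff, Ne, Nat.beq_eq, eq_one_iff]; rintro rfl; exact hj1 (map_one ψ)
    have c4 : Nat.beq (enc h) (enc (R k)) = false := by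
      rw [Bool.eq_false_iff, Ne, Nat.beq_eq, enc_injective.eq_iff]
      rintro rfl
      exact hjE ⟨_, List.mem_singleton_self _, rfl⟩
    simp only [c2, c3, c4, Bool.not_false, Bool.and_self, Bool.not_true, Bool.false_or] at h1
    exact insert_le ψ k.2.le hK hv hlater h1
  · rintro _ ⟨h, rfl⟩ hc hflip ho _ ⟨y, rfl⟩ hy hconj
    have hr : y * R k = R k * y := comm_of_img ψ hψ hy (List.mem_singleton_self _)
    obtain ⟨p, hp, ep⟩ := (hAo y hr).1
    have e : y * A * y⁻¹ = h * B := hψ (by simpa using hconj)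
    have h2 := hh p hp
    have hbb : B * B = 1 := hψ (by
      rw [map_mul, map_one]; exact (frame ψ hcent hctrl).sq _ (vtx_of_known ψ hkb))
    rw [ep, e, cmp_enc, mul_assoc, hbb, mul_one] at h2
    have c2 : twoTop (enc h) [enc (R k)] = true := by
      refine twoTop_spec ?_
      rcases ho with he | ⟨m, hm, hE⟩
      · exact Or.inl (hψ (he.trans (map_one ψ).symm))
      · refine Or.inr ⟨m, by rw [← hm, orderOf_injective ψ hψ], ?_⟩
        obtain ⟨g, hg, eg⟩ := hE
        rw [← map_pow] at eg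
        exact hψ eg ▸ hg
    rw [c2] at h2
    exact absurd h2 (by decide)

include hψ hcent hctrl in
theorem tree_le {lim : ℕ} (h4 : lim ≤ 4) (hK : ∀ k : Fin 4, (k : ℕ) < lim → Cle ψ (R k)) {r : SpGrp}
    {top : List ℕ} (htop : ∀ y, y * r = r * y → enc y ∈ top) (htv : ∀ c ∈ top, ∃ g, enc g = c) {t : List (List ℕ × ℕ × ℕ)}
    (hok : ∀ i, 1 ≤ i → i < t.length → treeAt lim top (enc r) t i = true) :
    ∀ M ∈ t.drop 1, centralizer (img ψ M.1) ≤ ψ.range := by
  suffices h : ∀ n i, 1 ≤ i → t.length ≤ i + n → ∀ M ∈ t.drop i, centralizer (img ψ M.1) ≤ ψ.range from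
    h t.length 1 le_rfl (by omega)
  intro n
  induction n with
  | zero => intro i _ hn M hM; rw [List.drop_eq_nil_of_le (by omega)] at hM; exact absurd hM List.not_mem_nil
  | succ n ih =>
    intro i hi hn M hM
    rcases Nat.lt_or_ge i t.length with hlt | hge
    swap
    · rw [List.drop_eq_nil_of_le hge] at hM; exact absurd hM List.not_mem_nil
    rw [List.drop_eq_getElem_cons hlt] at hM
    rcases List.mem_cons.1 hM with rfl | hM
    · have h := hok i hi hlt
      simp only [treeAt, Bool.and_eq_true, mem_iff] at h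
      rw [List.getD_eq_getElem _ _ hlt] at h
      exact node_le ψ hψ hcent hctrl h4 hK htop htv h.1 (ih (i + 1) (by omega) (by omega)) h.2
    · exact ih (i + 1) (by omega) (by omega) M hM

include hψ hcent hctrl in
/-- A copy of `Sp6(2)` containing the centralizer of a vertex and controlling it is everything. -/
theorem range_eq_top : ψ.range = ⊤ := by
  have s0 : Cle ψ (R 0) := hcent
  have dA : ∀ {k : Fin 4} {a : ℕ} {T O : List (ℕ × ℕ)} {C : List ℕ}, decOK (reps.getD k 0) a T O C = true →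
      ∀ y, y * R k = R k * y → enc y ∈ prods O C := fun {k a T O C} h y hy => by
    have va : valid a = true := by exact dec_valid h
    obtain ⟨A, rfl⟩ := exists_of_valid va
    rw [← enc_R] at h
    exact ((dec_spec h).2.1 y hy).2
  have s1 : Cle ψ (R 1) := root_le ψ hψ hcent hctrl (k := 1) (by intro i hi; fin_cases i <;> simp_all)
    decA1_ok decB1_ok (tree_le ψ hψ hcent hctrl (lim := 1) (by norm_num) (by intro i hi; fin_cases i <;> simp_all)
      (dA (k := 1) decA1_ok) (prods_valid decA1_ok) (t := tree1) (fun i h1 h2 => by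
        rw [enc_R]
        simp only [tree1, List.length_cons, List.length_nil] at h2
        interval_cases i
        · exact node1_1
        · exact node1_2
        · exact node1_3
        · exact node1_4
        · exact node1_5
        · exact node1_6
        · exact node1_7
        · exact node1_8
        · exact node1_9
        · exact node1_10
        · exact node1_11
        · exact node1_12
        · exact node1_13)) root1_ok
  have s2 : Cle ψ (R 2) := root_le ψ hψ hcent hctrl (k := 2) (by intro i hi; fin_cases i <;> simp_all)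
    decA2_ok decB2_ok (by simp [tree2]) root2_ok
  have s3 : Cle ψ (R 3) := root_le ψ hψ hcent hctrl (k := 3) (by intro i hi; fin_cases i <;> simp_all)
    decA3_ok decB3_ok (tree_le ψ hψ hcent hctrl (lim := 3) (by norm_num) (by intro i hi; fin_cases i <;> simp_all)
      (dA (k := 3) decA3_ok) (prods_valid decA3_ok) (t := tree3) (fun i h1 h2 => by
        rw [enc_R]
        simp only [tree3, List.length_cons, List.length_nil] at h2
        interval_cases i
        exact node3_1)) root3_ok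
  have hall : ∀ k : Fin 4, Cle ψ (R k) := by intro k; fin_cases k <;> assumption
  have hs : R 1 * R 1 = 1 := enc_injective (by rw [← cmp_enc, enc_R, enc_one]; exact vertex_ok.2.2.1)
  refine (frame ψ hcent hctrl).eq_top (v := ψ (R 0)) (s := ψ (R 1)) ⟨1, by group⟩ ⟨_, rfl⟩ ?_ ?_ (hall 1) ?_
  · rw [← map_mul, hs, map_one]
  · rintro _ ⟨x, rfl⟩ hc
    obtain ⟨g, hg⟩ := isConj_iff.1 hc
    obtain ⟨u, hu⟩ := hctrl (g * x) ⟨R 1, by rw [← hg]; group⟩
    have e : R 1 = u * R 0 * u⁻¹ := hψ (by rw [map_mul, map_mul, map_inv, hu, ← hg]; group)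
    have hd := decA1_ok
    have va : valid (tree1.headD ([], 0, 0)).2.1 = true := dec_valid hd
    obtain ⟨A, hA⟩ := exists_of_valid va
    rw [← hA, show reps.getD 1 0 = enc (R 1) from (enc_R 1).symm] at hd
    obtain ⟨p, hp, ep⟩ := (dec_spec hd).1 u⁻¹
    rw [e, inv_inv, show u⁻¹ * (u * R 0 * u⁻¹) * u = R 0 by group, enc_R] at ep
    have h := vertex_ok.2.2.2
    rw [Bool.not_eq_true', Bool.eq_false_iff, Ne] at h
    exact h (decide_eq_true (mem_iff.2 (List.mem_map.2 ⟨p, hp, ep⟩)))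
  · rintro _ ⟨h, rfl⟩ hjs hjj hj1
    have hd := invol_ok
    rw [List.all_eq_true] at hd
    have h1 := hd _ (dA (k := 1) decA1_ok h (hψ (by rw [map_mul, map_mul]; exact hjs)))
    have c2 : Nat.beq (cmp (enc h) (enc h)) one = true :=
      Nat.beq_eq.mpr (by rw [cmp_enc, eq_one_iff]; exact hψ (by rw [map_mul, map_one]; exact hjj))
    have c3 : Nat.beq (enc h) one = false := by
      rw [Bool.eq_false_iff, Ne, Nat.beq_eq, eq_one_iff]; rintro rfl; exact hj1 (map_one ψ)
    simp only [c2, c3, Bool.not_true, Bool.false_or] at h1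
    exact cle_of_known ψ le_rfl (fun k _ => hall k) h1

end

end Cfsg.Lib.CoThreeM12.SpCtl
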