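import Cfsg.Agent.Lib.CoThreeM12.CzDefs

/-!
# An outer automorphism of the standard group of degree twelve

A sign matrix of size twelve with pairwise different products of two rows and of two columns: the permutations of
the rows that are matched by one of the columns up to signs form the standard group, and the matching permutation of
the columns is the image under an outer automorphism. The automorphism chosen fixes `el 55`, the central element,
`el 44` and `fiveM` and sends `el 76` to `el 166`.
-/

set_option autoImplicit false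
set_option maxRecDepth 100000
set_option synthInstance.maxHeartbeats 400000

namespace Cfsg.Lib.CoThreeM12

open Cfsg
open Cfsg.Lib.MTwelveRecog (stdTwelve stdGen stdGen_mem el cT)

/-- The sign matrix. -/
def signBit (i j : Fin 12) : Bool :=
  Nat.testBit 9967310372052678342778163909862566620422144 (12 * i.val + j.val)

/-- The product of four signs. -/
def sqBit (H : Fin 12 → Fin 12 → Bool) (i i' j j' : Fin 12) : Bool :=
  ((H i j ^^ H i' j) ^^ (H i j' ^^ H i' j'))

/-- Two permutations preserve a sign matrix up to signs of rows and columns. -/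
def SignPres (H : Fin 12 → Fin 12 → Bool) (g h : Equiv.Perm (Fin 12)) : Prop :=
  ∃ (e d : Fin 12 → Bool), ∀ i j, H (g i) (h j) = ((H i j ^^ e i) ^^ d j)

/-- Products of two columns are different. -/
def SignSep (H : Fin 12 → Fin 12 → Bool) : Prop :=
  ∀ j j' k k' : Fin 12, j ≠ j' → k ≠ k' → (∀ i, sqBit H i 0 j j' = sqBit H i 0 k k') → k = j ∨ k = j'

theorem signSep : SignSep signBit := by unfold SignSep; decide +kernel

theorem signSep_swap : SignSep fun i j => signBit j i := by unfold SignSep; decide +kernel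

theorem signPres_of_sq {H : Fin 12 → Fin 12 → Bool} {g h : Equiv.Perm (Fin 12)}
    (hs : ∀ i j, sqBit H (g i) (g 0) (h j) (h 0) = sqBit H i 0 j 0) : SignPres H g h := by
  refine ⟨fun i => (H (g i) (h 0) ^^ H i 0) ^^ (H (g 0) (h 0) ^^ H 0 0), fun j => H (g 0) (h j) ^^ H 0 j,
    fun i j => ?_⟩
  have := hs i j
  simp only [sqBit] at this
  beta_reduce
  revert this
  generalize H (g i) (h j) = a
  generalize H (g 0) (h j) = b
  generalize H (g i) (h 0) = c
  generalize H (g 0) (h 0) = d
  generalize H i j = a'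
  generalize H 0 j = b'
  generalize H i 0 = c'
  generalize H 0 0 = d'
  revert a b c d a' b' c' d'
  decide

theorem SignPres.one (H : Fin 12 → Fin 12 → Bool) : SignPres H 1 1 :=
  ⟨fun _ => false, fun _ => false, fun i j => by simp⟩

theorem SignPres.mul {H : Fin 12 → Fin 12 → Bool} {g h g' h' : Equiv.Perm (Fin 12)} (a : SignPres H g h)
    (b : SignPres H g' h') : SignPres H (g * g') (h * h') := by
  obtain ⟨e, d, a⟩ := a
  obtain ⟨e', d', b⟩ := b
  refine ⟨fun i => e (g' i) ^^ e' i, fun j => d (h' j) ^^ d' j, fun i j => ?_⟩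
  rw [Equiv.Perm.mul_apply, Equiv.Perm.mul_apply, a, b]
  beta_reduce
  cases H i j <;> cases e (g' i) <;> cases e' i <;> cases d (h' j) <;> cases d' j <;> rfl

theorem SignPres.inv {H : Fin 12 → Fin 12 → Bool} {g h : Equiv.Perm (Fin 12)} (a : SignPres H g h) :
    SignPres H g⁻¹ h⁻¹ := by
  obtain ⟨e, d, a⟩ := a
  refine ⟨fun i => e (g⁻¹ i), fun j => d (h⁻¹ j), fun i j => ?_⟩
  have := a (g⁻¹ i) (h⁻¹ j)
  rw [Equiv.Perm.coe_inv, Equiv.Perm.coe_inv, Equiv.apply_symm_apply, Equiv.apply_symm_apply] at this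
  rw [this]
  simp only [Equiv.Perm.coe_inv]
  cases H (g.symm i) (h.symm j) <;> cases e (g.symm i) <;> cases d (h.symm j) <;> rfl

theorem SignPres.swap {H : Fin 12 → Fin 12 → Bool} {g h : Equiv.Perm (Fin 12)} (a : SignPres H g h) :
    SignPres (fun i j => H j i) h g := by
  obtain ⟨e, d, a⟩ := a
  refine ⟨d, e, fun i j => ?_⟩
  simp only [a]
  cases H j i <;> cases e j <;> cases d i <;> rfl

/-- With the rows fixed the columns are fixed. -/
theorem SignPres.eq_one {H : Fin 12 → Fin 12 → Bool} (hsep : SignSep H) {h : Equiv.Perm (Fin 12)}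
    (a : SignPres H 1 h) : h = 1 := by
  obtain ⟨e, d, a⟩ := a
  simp only [Equiv.Perm.coe_one, id_eq] at a
  refine Equiv.ext fun j => ?_
  have key : ∀ j' : Fin 12, j ≠ j' → h j = j ∨ h j = j' := fun j' hj =>
    hsep j j' (h j) (h j') hj (fun e' => hj (h.injective e')) fun i => by
      simp only [sqBit, a]
      cases H i j <;> cases H 0 j <;> cases H i j' <;> cases H 0 j' <;> cases e i <;> cases e 0 <;> cases d j <;>
        cases d j' <;> rfl
  obtain ⟨p, q, hp, hq, hpq⟩ :=
    (show ∀ j : Fin 12, ∃ p q : Fin 12, j ≠ p ∧ j ≠ q ∧ p ≠ q by decide +kernel) j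
  rcases key p hp with e' | e'
  · exact e'
  rcases key q hq with e'' | e''
  · exact e''
  exact absurd (e'.symm.trans e'') hpq

/-- The images of the standard generators. -/
def outWord : Fin 4 → List (Fin 4) :=
  ![[2, 3, 0, 1, 0, 2, 0, 0, 0], [0, 0, 3, 2, 0, 0, 1, 3, 0, 0], [0, 2, 3, 0, 0, 1, 2, 2, 0, 1],
    [2, 2, 0, 0, 1, 3, 0, 1, 1, 1]]

theorem signPres_gen (k : Fin 4) : SignPres signBit (stdGen k) (wordM (outWord k)).1 := by
  refine signPres_of_sq ?_
  revert k
  decide +kernel

theorem exists_signPres {g : Equiv.Perm (Fin 12)} (hg : g ∈ stdTwelve) :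
    ∃ h : stdTwelve, SignPres signBit g h.1 := by
  induction hg using Subgroup.closure_induction with
  | mem x hx =>
    obtain ⟨k, rfl⟩ : ∃ k, stdGen k = x := by
      rcases hx with rfl | rfl | rfl | rfl
      · exact ⟨0, rfl⟩
      · exact ⟨1, rfl⟩
      · exact ⟨2, rfl⟩
      · exact ⟨3, rfl⟩
    exact ⟨_, signPres_gen k⟩
  | one => exact ⟨1, SignPres.one _⟩
  | mul x y _ _ hx hy =>
    obtain ⟨a, ha⟩ := hx
    obtain ⟨b, hb⟩ := hy
    exact ⟨a * b, ha.mul hb⟩
  | inv x _ hx =>
    obtain ⟨a, ha⟩ := hx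
    exact ⟨a⁻¹, ha.inv⟩

theorem signPres_unique {g h h' : Equiv.Perm (Fin 12)} (a : SignPres signBit g h) (b : SignPres signBit g h') :
    h = h' := by
  have := a.inv.mul b
  rw [inv_mul_cancel] at this
  exact inv_mul_eq_one.1 (this.eq_one signSep)

theorem exists_outer : ∃ α : stdTwelve ≃* stdTwelve, α (elM 55) = elM 55 ∧ α (elM cT) = elM cT ∧
    α (elM 44) = elM 44 ∧ α fiveM = fiveM ∧ α (elM 76) = elM 166 := by
  choose F hF using fun g : stdTwelve => exists_signPres g.2
  have huniq : ∀ {g h : stdTwelve}, SignPres signBit g.1 h.1 → F g = h := fun {g h} hp =>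
    Subtype.ext (signPres_unique (hF g) hp)
  let φ : stdTwelve →* stdTwelve := MonoidHom.mk' F fun a b => huniq ((hF a).mul (hF b))
  have hinj : Function.Injective φ := by
    refine (injective_iff_map_eq_one φ).2 fun g hg => Subtype.ext ?_
    have h1 := hF g
    rw [show F g = 1 from hg] at h1
    exact (SignPres.swap h1).eq_one signSep_swap
  refine ⟨MulEquiv.ofBijective φ ⟨hinj, Finite.injective_iff_surjective.1 hinj⟩, huniq ?_, huniq ?_, huniq ?_,
    huniq ?_, huniq ?_⟩ <;>
  · refine signPres_of_sq ?_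
    decide +kernel

end Cfsg.Lib.CoThreeM12
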