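import Cfsg.Agent.Lib.CoThreeM12.Swap
import Cfsg.Agent.Lib.CoThreeM12.Outer
import Cfsg.Agent.Lib.CoThreeM12.CenA

/-!
# The element permuting `t`, `a`, `t * a`
-/

set_option autoImplicit false
set_option linter.style.haveILetI false
set_option linter.unusedSectionVars false
set_option maxRecDepth 100000

namespace Cfsg.Lib.CoThreeM12

open Cfsg Cfsg.Lib.MTwelveRecog

universe u

theorem cls_55_166_76 : cCls 166 = 4 ∧ cCls 76 = 4 := by decide +kernel

namespace Setup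

variable {G : Type u} [Group G] (S : Setup G)

/-- `t * a` is conjugate to `t`: the conjugate of `<a, el 166>` containing `t` has a member in `t * M12`. -/
theorem isConj_t_ta [Finite G] (hres : S.t ∈ Cfsg.pResidual 2 G) (h : S.Good) : IsConj S.t (S.t * S.a) := by
  obtain ⟨g, hg⟩ := isConj_iff.1 h
  obtain ⟨-, -, -, -, hmem⟩ := CenA.facts
  obtain ⟨-, -, -, -, -, au, -⟩ := CenA.relations
  have hga : g⁻¹ * S.a * g = S.t := by rw [← hg]; group
  have hA : elM 166 * elM 55 = elM 55 * elM 166 := hmem (elM 166) (by simp)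
  set v := g⁻¹ * S.f 166 * g with hv
  have f76 : S.f 76 = S.a * S.f 166 := by rw [f_eq, ← au, map_mul]; rfl
  have hf : S.f 166 * S.a = S.a * S.f 166 := by
    rw [a, f_eq, f_eq, ← map_mul, hA, map_mul]
  have hvt : v * S.t = S.t * v := by
    rw [← hga, hv, show g⁻¹ * S.f 166 * g * (g⁻¹ * S.a * g) = g⁻¹ * (S.f 166 * S.a) * g by group, hf]
    group
  have hv2 : S.t * v = g⁻¹ * S.f 76 * g := by rw [f76, ← hga, hv]; group
  have hcl : ∀ {i : Fin 192}, cCls i = 4 → IsConj S.t (g⁻¹ * S.f i * g) := fun hi =>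
    (h.trans (S.isConj_a_of_four hi).symm).trans (isConj_iff.2 ⟨g⁻¹, by rw [inv_inv]⟩)
  have h1 : IsConj S.t v := hcl cls_55_166_76.1
  have h2 : IsConj S.t (S.t * v) := by rw [hv2]; exact hcl cls_55_166_76.2
  obtain ⟨x, hx⟩ : ∃ x, IsConj S.t (S.φ x) ∧ IsConj S.t (S.t * S.φ x) := by
    obtain ⟨x, hx | hx⟩ := S.mem v hvt <;> refine ⟨x, ?_⟩ <;> rw [hx] at h1 h2
    · exact ⟨h1, h2⟩
    · rw [← mul_assoc, S.t_sq, one_mul] at h2
      exact ⟨h2, h1⟩
  obtain ⟨c, hc⟩ := isConj_iff.1 hx.1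
  have hxx : x * x = 1 := S.inj (by
    rw [map_mul, map_one, ← hc, show c * S.t * c⁻¹ * (c * S.t * c⁻¹) = c * (S.t * S.t) * c⁻¹ by group, S.t_sq,
      mul_one, mul_inv_cancel])
  have hx1 : x ≠ 1 := by
    rintro rfl
    rw [map_one, conj_eq_one_iff] at hc
    exact S.t_ne_one hc
  rcases S.phi_invol_cases hxx hx1 with ⟨m, hm⟩ | ⟨m, hm⟩
  · exact absurd (hx.1.trans (isConj_iff.2 ⟨S.φ m, hm⟩)) (S.not_isConj_z hres)
  · exact hx.2.trans (isConj_iff.2 ⟨S.φ m, by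
      rw [show S.φ m * (S.t * S.φ x) * (S.φ m)⁻¹ = S.φ m * S.t * (S.φ m)⁻¹ * (S.φ m * S.φ x * (S.φ m)⁻¹) by group,
        S.conj_phi_t, hm]⟩)

theorem a_eq : S.a = S.φ (elM 55) := rfl

theorem z_eq : S.z = S.φ (elM cT) := rfl

theorem ta_comm : S.t * S.a = S.a * S.t := (S.comm_f 55).symm

theorem t_ne_a : S.t ≠ S.a := fun h => S.ne_phi (elM 55) h.symm

theorem phi_tphi (y : stdTwelve) (g : G) (hg : g = S.φ y ∨ g = S.t * S.φ y) (x : stdTwelve) :
    g * S.φ x * g⁻¹ = S.φ (y * x * y⁻¹) ∧ g * (S.t * S.φ x) * g⁻¹ = S.t * S.φ (y * x * y⁻¹) := by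
  have h1 : g * S.φ x * g⁻¹ = S.φ (y * x * y⁻¹) := by
    rw [map_mul, map_mul, map_inv]
    rcases hg with rfl | rfl
    · rfl
    · calc S.t * S.φ y * S.φ x * (S.t * S.φ y)⁻¹ = S.t * (S.φ y * S.φ x * (S.φ y)⁻¹ * S.t⁻¹) := by group
        _ = S.t * (S.t * (S.φ y * S.φ x * (S.φ y)⁻¹)) := by
          rw [S.t_inv, ← map_inv, ← map_mul, ← map_mul, S.comm]
        _ = _ := by rw [← mul_assoc, S.t_sq, one_mul]
  refine ⟨h1, ?_⟩
  have ht : g * S.t * g⁻¹ = S.t := by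
    rcases hg with rfl | rfl
    · exact S.conj_phi_t y
    · rw [mul_assoc S.t, S.comm, ← mul_assoc, S.t_sq, one_mul, mul_inv_rev, S.t_inv, ← mul_assoc,
        mul_inv_cancel, one_mul]
  calc g * (S.t * S.φ x) * g⁻¹ = g * S.t * g⁻¹ * (g * S.φ x * g⁻¹) := by group
    _ = _ := by rw [ht, h1]

/-- An element of order three permuting `t`, `a`, `t * a`. -/
theorem exists_rot [Finite G] (h : S.Good) (hta : IsConj S.t (S.t * S.a)) :
    ∃ g : G, g * S.t * g⁻¹ = S.a ∧ g * S.a * g⁻¹ = S.t * S.a := by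
  classical
  haveI : Fact (Nat.Prime 2) := ⟨Nat.prime_two⟩
  obtain ⟨g, hg⟩ := isConj_iff.1 h
  set u := g⁻¹ * S.t * g with hu
  have hga : g⁻¹ * S.a * g = S.t := by rw [← hg]; group
  have huc : u * S.t = S.t * u := by
    have e1 : g⁻¹ * S.t * g * (g⁻¹ * S.a * g) = g⁻¹ * S.a * g * (g⁻¹ * S.t * g) := by
      rw [show g⁻¹ * S.t * g * (g⁻¹ * S.a * g) = g⁻¹ * (S.t * S.a) * g by group, S.ta_comm]
      group
    rwa [hga, ← hu] at e1
  have hu2 : u * u = 1 := by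
    rw [hu, show g⁻¹ * S.t * g * (g⁻¹ * S.t * g) = g⁻¹ * (S.t * S.t) * g by group, S.t_sq]; group
  have hut : u ≠ S.t := fun e => S.t_ne_a (by
    have h2 : g * u * g⁻¹ = S.t := by rw [hu]; group
    rw [e] at h2
    exact h2.symm.trans hg)
  have hu1 : u ≠ 1 := fun e => S.t_ne_one (by
    rw [hu] at e
    have : S.t = g * 1 * g⁻¹ := by rw [← e]; group
    simpa using this)
  obtain ⟨m, hm⟩ := S.conj_a_cases huc hu2 hut hu1
  set k := S.φ m * g⁻¹ with hk
  have hka : k * S.a * k⁻¹ = S.t := by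
    rw [hk, show S.φ m * g⁻¹ * S.a * (S.φ m * g⁻¹)⁻¹ = S.φ m * (g⁻¹ * S.a * g) * (S.φ m)⁻¹ by group, hga,
      S.conj_phi_t]
  have hkt : k * S.t * k⁻¹ = S.φ m * u * (S.φ m)⁻¹ := by rw [hk, hu]; group
  rw [← hkt] at hm
  have hkta : k * S.t * k⁻¹ = S.a ∨ k * S.t * k⁻¹ = S.t * S.a := by
    by_contra hne
    have hv : k * S.t * k⁻¹ = S.z ∨ k * S.t * k⁻¹ = S.t * S.z := by tauto
    have hb : ∀ x ∈ S.syl, x * (k * S.t * k⁻¹) = k * S.t * k⁻¹ * x := by
      intro x hx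
      rcases hv with e | e <;> rw [e]
      · exact (S.syl_comm hx).2
      · rw [← mul_assoc, (S.syl_comm hx).1, mul_assoc, (S.syl_comm hx).2, mul_assoc]
    have hle := S.card_le_of_comm_a (H := S.syl.map (MulAut.conj k⁻¹).toMonoidHom) (S.isPGroup_syl.map _) (by
      rintro _ ⟨x, hx, rfl⟩
      refine ⟨?_, ?_⟩
      · show k⁻¹ * x * k⁻¹⁻¹ * S.t = S.t * (k⁻¹ * x * k⁻¹⁻¹)
        rw [inv_inv, show k⁻¹ * x * k * S.t = k⁻¹ * (x * (k * S.t * k⁻¹)) * k by group, hb x hx]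
        group
      · show k⁻¹ * x * k⁻¹⁻¹ * S.a = S.a * (k⁻¹ * x * k⁻¹⁻¹)
        rw [inv_inv, show k⁻¹ * x * k * S.a = k⁻¹ * (x * (k * S.a * k⁻¹)) * k by group, hka, (S.syl_comm hx).1, ← hka]
        group)
    rw [Subgroup.card_map_of_injective (MulAut.conj k⁻¹).injective, S.card_syl] at hle
    omega
  rcases hkta with hsw | hrot
  swap
  · have e1 : k * (S.t * S.a) * k⁻¹ = S.a := by
      rw [show k * (S.t * S.a) * k⁻¹ = k * S.t * k⁻¹ * (k * S.a * k⁻¹) by group, hrot, hka, S.ta_comm, mul_assoc,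
        S.t_sq, mul_one]
    refine ⟨k⁻¹, ?_, ?_⟩
    · conv_lhs => rw [← hka]
      group
    · conv_lhs => rw [← e1]
      group
  -- a swap is impossible
  exfalso
  obtain ⟨h', hh'⟩ := isConj_iff.1 hta.symm
  set p := h' * S.t * h'⁻¹ with hp
  have hpt : p * S.t = S.t * p := by
    conv_lhs => rw [← hh']
    conv_rhs => rw [← hh']
    rw [hp, show h' * S.t * h'⁻¹ * (h' * (S.t * S.a) * h'⁻¹) = h' * (S.t * (S.t * S.a)) * h'⁻¹ by group,
      show h' * (S.t * S.a) * h'⁻¹ * (h' * S.t * h'⁻¹) = h' * (S.t * S.a * S.t) * h'⁻¹ by group]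
    congr 2
    rw [mul_assoc, ← S.ta_comm]
  have hq : h' * S.a * h'⁻¹ = p * S.t := by
    conv_rhs => rw [← hh']
    rw [hp, show h' * S.t * h'⁻¹ * (h' * (S.t * S.a) * h'⁻¹) = h' * (S.t * S.t * S.a) * h'⁻¹ by group, S.t_sq,
      one_mul]
  set c := h' * k * h'⁻¹ with hc
  have hkfix : k * (S.t * S.a) * k⁻¹ = S.t * S.a := by
    rw [show k * (S.t * S.a) * k⁻¹ = k * S.t * k⁻¹ * (k * S.a * k⁻¹) by group, hsw, hka, ← S.ta_comm]
  have hct : c * S.t = S.t * c := by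
    rw [← mul_inv_eq_iff_eq_mul]
    conv_lhs => rw [← hh']
    rw [hc, show h' * k * h'⁻¹ * (h' * (S.t * S.a) * h'⁻¹) * (h' * k * h'⁻¹)⁻¹ =
      h' * (k * (S.t * S.a) * k⁻¹) * h'⁻¹ by group, hkfix, hh']
  have hcp : c * p * c⁻¹ = p * S.t := by
    rw [← hq, hc, hp, ← hsw]; group
  obtain ⟨x, hx | hx⟩ := S.mem p hpt <;> obtain ⟨y, hy⟩ := S.mem c hct
  · rw [hx, (S.phi_tphi y c hy x).1, S.comm] at hcp
    exact S.t_mul_phi_ne _ _ hcp.symm
  · rw [hx, (S.phi_tphi y c hy x).2, mul_assoc S.t (S.φ x), S.comm] at hcp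
    exact S.t_mul_phi_ne _ _ (mul_left_cancel hcp).symm

variable {g : G}

/-- Conjugation by `g` keeps the common centraliser of `t` and `a`. -/
theorem cent_image (ht : g * S.t * g⁻¹ = S.a) (ha : g * S.a * g⁻¹ = S.t * S.a) {y : G}
    (y1 : y * S.t = S.t * y) (y2 : y * S.a = S.a * y) :
    ∃ x, x * elM 55 = elM 55 * x ∧ (g * y * g⁻¹ = S.φ x ∨ g * y * g⁻¹ = S.t * S.φ x) := by
  have c1 : g * y * g⁻¹ * S.a = S.a * (g * y * g⁻¹) := by
    rw [← ht, show g * y * g⁻¹ * (g * S.t * g⁻¹) = g * (y * S.t) * g⁻¹ by group, y1]; group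
  have c2 : g * y * g⁻¹ * (S.t * S.a) = S.t * S.a * (g * y * g⁻¹) := by
    rw [← ha, show g * y * g⁻¹ * (g * S.a * g⁻¹) = g * (y * S.a) * g⁻¹ by group, y2]; group
  have c3 : g * y * g⁻¹ * S.t = S.t * (g * y * g⁻¹) := by
    refine mul_right_cancel (b := S.a) ?_
    calc g * y * g⁻¹ * S.t * S.a = g * y * g⁻¹ * (S.t * S.a) := mul_assoc _ _ _
      _ = S.t * S.a * (g * y * g⁻¹) := c2
      _ = S.t * (g * y * g⁻¹ * S.a) := by rw [c1, mul_assoc]
      _ = S.t * (g * y * g⁻¹) * S.a := (mul_assoc _ _ _).symm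
  obtain ⟨x, hx⟩ := S.mem _ c3
  refine ⟨x, ?_, hx⟩
  rcases hx with hx | hx
  · rw [hx, a_eq, ← map_mul, ← map_mul] at c1
    exact S.inj c1
  · rw [hx, a_eq, mul_assoc, ← map_mul, ← mul_assoc, S.comm, mul_assoc, ← map_mul] at c1
    exact S.inj (mul_left_cancel c1)

/-- An element commuting with `z` and the element of order 5 commutes with their words. -/
theorem commute_word (hz : Commute g S.z) (hf : Commute g (S.φ fiveM)) (w : List ℕ) :
    Commute g (S.φ (w.map fun k => bif Nat.beq k 0 then elM cT else fiveM).prod) := by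
  induction w with
  | nil => simp
  | cons k w ih =>
    rw [List.map_cons, List.prod_cons, map_mul]
    refine Commute.mul_right ?_ ih
    cases Nat.beq k 0
    · exact hf
    · exact hz

theorem comm_phi_a {x : stdTwelve} (hx : x * elM 55 = elM 55 * x) :
    S.φ x * S.t = S.t * S.φ x ∧ S.φ x * S.a = S.a * S.φ x :=
  ⟨S.comm x, by rw [a_eq, ← map_mul, hx, map_mul]⟩

/-- The element can be taken centralising `z` and the element of order 5. -/
theorem exists_cent [Finite G] (h : S.Good) (hta : IsConj S.t (S.t * S.a)) :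
    ∃ g : G, g * S.t * g⁻¹ = S.a ∧ g * S.a * g⁻¹ = S.t * S.a ∧ Commute g S.z ∧ Commute g (S.φ fiveM) := by
  obtain ⟨g, ht, ha⟩ := S.exists_rot h hta
  obtain ⟨⟨q, qA, qz⟩, ⟨r, rA, rf'⟩, -⟩ := CenA.facts
  obtain ⟨z1, f1, zz, f5, zf, -⟩ := CenA.relations
  have img : ∀ y : stdTwelve, y * elM 55 = elM 55 * y →
      ∃ x, x * elM 55 = elM 55 * x ∧ g * S.φ (y * y) * g⁻¹ = S.φ (x * x) := by
    intro y hy
    obtain ⟨x, hxA, hx⟩ := S.cent_image ht ha (S.comm_phi_a hy).1 (S.comm_phi_a hy).2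
    refine ⟨x, hxA, ?_⟩
    rw [map_mul, show g * (S.φ y * S.φ y) * g⁻¹ = g * S.φ y * g⁻¹ * (g * S.φ y * g⁻¹) by group]
    rcases hx with hx | hx <;> rw [hx]
    · rw [map_mul]
    · rw [S.t_phi_sq]
  obtain ⟨x, hxA, hx⟩ := img q qA
  obtain ⟨y, hyA, hy⟩ := img r rA
  rw [qz] at hx
  rw [rf'] at hy
  let ψ : stdTwelve →* G := (MulAut.conj g).toMonoidHom.comp S.φ
  have ψinj : Function.Injective ψ := (MulAut.conj g).injective.comp S.inj
  have pz : ψ (elM cT) = S.φ (x * x) := hx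
  have pf : ψ fiveM = S.φ (y * y) := hy
  obtain ⟨c, cA, cz, cf⟩ := CenA.pair_conj hxA hyA
    (fun e => z1 (ψinj (by rw [pz, e, map_one, map_one])))
    (S.inj (by rw [map_mul, ← pz, ← map_mul, zz, map_one, map_one]))
    (fun e => f1 (ψinj (by rw [pf, e, map_one, map_one])))
    (S.inj (by rw [map_pow, ← pf, ← map_pow, f5, map_one, map_one]))
    (S.inj (by rw [map_pow, map_mul, ← pz, ← pf, ← map_mul, ← map_pow, zf, map_one, map_one]))
  obtain ⟨c1, c2⟩ := S.comm_phi_a cA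
  have key : ∀ {v w : G}, g * v * g⁻¹ = w → ∀ u, S.φ c * u = w * S.φ c →
      (S.φ c)⁻¹ * g * v * ((S.φ c)⁻¹ * g)⁻¹ = u := fun {v w} e u hu => by
    rw [show (S.φ c)⁻¹ * g * v * ((S.φ c)⁻¹ * g)⁻¹ = (S.φ c)⁻¹ * (g * v * g⁻¹) * S.φ c by group, e, mul_assoc, ← hu,
      ← mul_assoc, inv_mul_cancel, one_mul]
  refine ⟨(S.φ c)⁻¹ * g, key ht _ c2, key ha _ ?_, ?_, ?_⟩
  · rw [← mul_assoc, c1, mul_assoc, c2, mul_assoc]
  · exact mul_inv_eq_iff_eq_mul.1 (key hx _ (by rw [z_eq, ← map_mul, ← map_mul, cz]))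
  · exact mul_inv_eq_iff_eq_mul.1 (key hy _ (by rw [← map_mul, ← map_mul, cf]))

/-- No involution without fixed points of the copy of M12 is centralised by `g`. -/
theorem not_fix [Finite G] (ht : g * S.t * g⁻¹ = S.a) (ha : g * S.a * g⁻¹ = S.t * S.a) {i : Fin 192}
    (hi : cCls i = 4) : ¬ Commute g (S.f i) := by
  intro hc
  obtain ⟨m, hm⟩ := isConj_iff.1 (isConj_elM_four hi)
  have hm' : S.φ m * S.f i * (S.φ m)⁻¹ = S.a := by
    rw [f_eq, ← map_inv, ← map_mul, ← map_mul, hm]; rfl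
  set P := (S.φ m)⁻¹ * g with hP
  have hPt : P * S.t * P⁻¹ = S.f i := by
    rw [hP, show (S.φ m)⁻¹ * g * S.t * ((S.φ m)⁻¹ * g)⁻¹ = (S.φ m)⁻¹ * (g * S.t * g⁻¹) * S.φ m by group, ht, ← hm']
    group
  set c := P⁻¹ * g * P with hcdef
  have hct : c * S.t = S.t * c := by
    have e : g * (P * S.t * P⁻¹) = P * S.t * P⁻¹ * g := by rw [hPt]; exact hc.eq
    calc c * S.t = P⁻¹ * (g * (P * S.t * P⁻¹)) * P := by rw [hcdef]; group
      _ = P⁻¹ * (P * S.t * P⁻¹ * g) * P := by rw [e]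
      _ = S.t * c := by rw [hcdef]; group
  have gtta : g * (S.t * S.a) * g⁻¹ = S.t := by
    rw [show g * (S.t * S.a) * g⁻¹ = g * S.t * g⁻¹ * (g * S.a * g⁻¹) by group, ht, ha, S.ta_comm, ← mul_assoc,
      S.a_sq, one_mul]
  have hp : P⁻¹ * S.t * P = S.t * S.a := by
    rw [hP, show ((S.φ m)⁻¹ * g)⁻¹ * S.t * ((S.φ m)⁻¹ * g) = g⁻¹ * (S.φ m * S.t * (S.φ m)⁻¹) * g by group,
      S.conj_phi_t]
    conv_lhs => rw [← gtta]
    group
  obtain ⟨y, hy⟩ := S.mem c hct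
  set A := elM 55
  have hp1 : c * (P⁻¹ * S.t * P) * c⁻¹ = P⁻¹ * S.a * P := by rw [← ht, hcdef]; group
  have hp2 : c * (P⁻¹ * S.a * P) * c⁻¹ = P⁻¹ * (S.t * S.a) * P := by rw [← ha, hcdef]; group
  have hsum : P⁻¹ * (S.t * S.a) * P = P⁻¹ * S.t * P * (P⁻¹ * S.a * P) := by group
  rw [a_eq] at hp hp1 hp2 hsum
  rw [hp, (S.phi_tphi y c hy _).2] at hp1
  rw [hp, ← hp1] at hsum
  rw [← hp1, hsum, (S.phi_tphi y c hy _).2,
    show S.t * S.φ (elM 55) * (S.t * S.φ (y * elM 55 * y⁻¹)) =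
      S.t * (S.φ (elM 55) * S.t) * S.φ (y * elM 55 * y⁻¹) by group,
    S.comm, ← mul_assoc S.t S.t, S.t_sq, one_mul, ← map_mul] at hp2
  exact S.t_mul_phi_ne _ _ hp2

set_option maxHeartbeats 1000000 in
/-- The transporter for a suitable embedding. -/
theorem exists_trans0 [Finite G] (h : S.Good) (hta : IsConj S.t (S.t * S.a)) :
    ∃ S' : Setup G, S'.t = S.t ∧ Nonempty (Trans0 S') := by
  obtain ⟨g, ht, ha, hz, hf⟩ := S.exists_cent h hta
  have gtta : g * (S.t * S.a) * g⁻¹ = S.t := by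
    rw [show g * (S.t * S.a) * g⁻¹ = g * S.t * g⁻¹ * (g * S.a * g⁻¹) by group, ht, ha, S.ta_comm, ← mul_assoc,
      S.a_sq, one_mul]
  obtain ⟨-, -, ⟨w44, h44⟩, -, hmem⟩ := CenA.facts
  obtain ⟨-, -, -, -, -, au, ua, -⟩ := CenA.relations
  -- the cube
  have c3 : ∀ v, g * g * g * v * (g * g * g)⁻¹ = g * (g * (g * v * g⁻¹) * g⁻¹) * g⁻¹ := fun v => by group
  have cube : g * g * g = 1 := by
    have y1 : g * g * g * S.t = S.t * (g * g * g) := mul_inv_eq_iff_eq_mul.1 (by rw [c3, ht, ha, gtta])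
    obtain ⟨x, hx⟩ := S.mem _ y1
    have y2 : g * g * g * S.a = S.a * (g * g * g) := mul_inv_eq_iff_eq_mul.1 (by rw [c3, ha, gtta, ht])
    have hz3 : Commute (g * g * g) S.z := (hz.mul_left hz).mul_left hz
    have hf3 : Commute (g * g * g) (S.φ fiveM) := (hf.mul_left hf).mul_left hf
    have hcom : ∀ v : stdTwelve, Commute (g * g * g) (S.φ v) → x * v = v * x := by
      intro v hv
      have e := hv.eq
      rcases hx with hx | hx <;> rw [hx] at e
      · exact S.inj (by rw [map_mul, map_mul, e])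
      · refine S.inj (mul_left_cancel (a := S.t) ?_)
        rw [map_mul, map_mul, ← mul_assoc, e, ← mul_assoc, S.comm, mul_assoc]
    have hfix : g * (g * g * g) * g⁻¹ = g * g * g := by group
    have ha1 : S.φ (elM 55) = S.a := rfl
    rcases CenA.cent_zf (hcom _ y2) (hcom _ hz3) (hcom _ hf3) with e | e <;> rcases hx with hx | hx <;>
      rw [e] at hx
    · rw [hx, map_one]
    · exfalso
      rw [map_one, mul_one] at hx
      rw [hx, ht] at hfix
      exact S.t_ne_a hfix.symm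
    · exfalso
      rw [ha1] at hx
      rw [hx, ha] at hfix
      exact S.t_ne_one (mul_eq_right.1 hfix)
    · exfalso
      rw [ha1] at hx
      rw [hx, gtta] at hfix
      have h1 : S.a = 1 := mul_eq_left.1 hfix.symm
      exact absurd (S.f_eq_one_iff.1 h1) (by decide)
  have g44 : Commute g (S.f 44) := by
    rw [f_eq, h44]
    exact S.commute_word hz hf w44
  -- the image of `el 166`
  obtain ⟨hzτ, hfτ⟩ := CenA.tau_five
  have hτA := hmem (elM 166) (by simp)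
  obtain ⟨x, hxA, hx⟩ := S.cent_image ht ha (S.comm_phi_a hτA).1 (S.comm_phi_a hτA).2
  have hK : ∀ v w : stdTwelve, Commute g (S.φ v) → Commute g (S.φ w) → elM 166 * v * (elM 166)⁻¹ = w →
      x * v = w * x := by
    intro v w hv hw e
    have hv' : g⁻¹ * S.φ v * g = S.φ v := by rw [mul_assoc, ← hv.eq, inv_mul_cancel_left]
    have e' : g * S.φ (elM 166) * g⁻¹ * S.φ v * (g * S.φ (elM 166) * g⁻¹)⁻¹ = S.φ w := by
      rw [show g * S.φ (elM 166) * g⁻¹ * S.φ v * (g * S.φ (elM 166) * g⁻¹)⁻¹ =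
          g * (S.φ (elM 166) * (g⁻¹ * S.φ v * g) * (S.φ (elM 166))⁻¹) * g⁻¹ by group,
        hv', ← map_inv, ← map_mul, ← map_mul, e, hw.eq, mul_inv_cancel_right]
    rw [(S.phi_tphi x _ hx v).1] at e'
    exact mul_inv_eq_iff_eq_mul.1 (S.inj e')
  have x1 : x * elM cT = elM 166 * elM cT * (elM 166)⁻¹ * x :=
    hK _ _ hz (by rw [hzτ, mul_inv_cancel_right]; exact hz) rfl
  have x2 : x * fiveM = elM 166 * fiveM * (elM 166)⁻¹ * x :=
    hK _ _ hf (by rw [hfτ]; exact S.commute_word hz hf _) rfl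
  have f76 : S.f 76 = S.a * S.f 166 := by rw [f_eq, ← au, map_mul]; rfl
  have gi : ∀ {u v w : G}, g * u * g⁻¹ = v → g * S.f 166 * g⁻¹ = w → v * w = u * S.f 166 →
      Commute g (u * S.f 166) := fun {u v w} e1 e2 e3 =>
    mul_inv_eq_iff_eq_mul.1 (by
      rw [show g * (u * S.f 166) * g⁻¹ = g * u * g⁻¹ * (g * S.f 166 * g⁻¹) by group, e1, e2, e3])
  have hA2 : ∀ v : G, S.a * (S.a * v) = v := fun v => by rw [← mul_assoc, S.a_sq, one_mul]
  have hT2 : ∀ v : G, S.t * (S.t * v) = v := fun v => by rw [← mul_assoc, S.t_sq, one_mul]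
  have hcomm : ∀ v : G, S.a * (S.t * v) = S.t * (S.a * v) := fun v => by rw [← mul_assoc, ← S.ta_comm, mul_assoc]
  have hx' : g * S.f 166 * g⁻¹ = S.f 166 ∨ g * S.f 166 * g⁻¹ = S.t * S.f 166 ∨
      g * S.f 166 * g⁻¹ = S.a * S.f 166 ∨ g * S.f 166 * g⁻¹ = S.t * (S.a * S.f 166) := by
    have e166 : S.φ (elM 166) = S.f 166 := rfl
    have e76 : S.φ (elM 76) = S.a * S.f 166 := f76
    rw [e166] at hx
    rcases CenA.tau_unique hxA x1 x2 with e | e <;> rcases hx with hx | hx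
    · exact Or.inl (by rw [hx, e, e166])
    · exact Or.inr (Or.inl (by rw [hx, e, e166]))
    · exact Or.inr (Or.inr (Or.inl (by rw [hx, e, e76])))
    · exact Or.inr (Or.inr (Or.inr (by rw [hx, e, e76])))
  rcases hx' with e | e | e | e
  · exact absurd (mul_inv_eq_iff_eq_mul.1 e) (S.not_fix ht ha cls_55_166_76.1)
  · refine absurd ?_ (S.not_fix ht ha cls_55_166_76.2)
    rw [f76]
    exact gi ha e (by rw [mul_assoc, hcomm, hT2])
  · -- the automorphism moves the fixed involution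
    obtain ⟨α, a55, acT, a44, a5, a76⟩ := exists_outer
    have s55 : α.symm (elM 55) = elM 55 := α.injective (by rw [α.apply_symm_apply, a55])
    have sT : α.symm (elM cT) = elM cT := α.injective (by rw [α.apply_symm_apply, acT])
    have s44 : α.symm (elM 44) = elM 44 := α.injective (by rw [α.apply_symm_apply, a44])
    have s5 : α.symm fiveM = fiveM := α.injective (by rw [α.apply_symm_apply, a5])
    have s166 : α.symm (elM 166) = elM 76 := α.injective (by rw [α.apply_symm_apply, a76])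
    let S' : Setup G :=
      { t := S.t, φ := S.φ.comp α.symm.toMonoidHom, inj := S.inj.comp α.symm.injective, t_sq := S.t_sq,
        t_ne_one := S.t_ne_one, comm := fun _ => S.comm _, ne_phi := fun _ => S.ne_phi _,
        mem := fun v hv => by
          obtain ⟨y, hy⟩ := S.mem v hv
          exact ⟨α y, by simpa using hy⟩ }
    have hSa : S'.a = S.a := congrArg S.φ s55
    have hSz : S'.z = S.z := congrArg S.φ sT
    have hS44 : S'.f 44 = S.f 44 := congrArg S.φ s44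
    have hS5 : S'.φ fiveM = S.φ fiveM := congrArg S.φ s5
    have hS166 : S'.f 166 = S.f 76 := congrArg S.φ s166
    refine ⟨S', rfl, ⟨
      { g := g, cube := cube, g_t := ?_, g_a := ?_, g_z := ?_, g_f44 := ?_, g_five := ?_, g_tau := ?_ }⟩⟩
    · show g * S.t * g⁻¹ = S'.a
      rw [hSa, ht]
    · show g * S'.a * g⁻¹ = S.t * S'.a
      rw [hSa, ha]
    · rw [hSz]; exact hz
    · rw [hS44]; exact g44
    · rw [hS5]; exact hf
    · show Commute g (S.t * S'.f 166)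
      rw [hS166, f76, ← mul_assoc]
      exact gi gtta e (by rw [mul_assoc])
  · refine ⟨S, rfl, ⟨{ g := g, cube := cube, g_t := ht, g_a := ha, g_z := hz, g_f44 := g44, g_five := hf, g_tau := ?_ }⟩⟩
    exact gi ht e (by rw [hcomm, hA2])

end Setup

end Cfsg.Lib.CoThreeM12
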