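import Cfsg.Agent.Lib.CoThreeM12.CzHom
import Cfsg.Agent.Lib.CoThreeM12.SpControl
import Cfsg.Agent.Lib.CoThreeM12.Good
import Cfsg.Agent.Lib.CoThreeM12.Transporter
import Cfsg.Agent.Lib.CoThreeType.Fusion

/-!
# The copy of `2.Sp6(2)` is the whole centraliser of `z`

The vertex of the model is in the class with centraliser of order 384; the class with centraliser of order 4608
gives no conjugates of `t`, so the copy controls its vertices and `SpCtl.range_eq_top` applies modulo `z`.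
-/

set_option autoImplicit false
set_option maxRecDepth 100000
set_option linter.style.haveILetI false

namespace Cfsg.Lib.CoThreeM12

universe u

namespace SpCtl

open Cfsg.Lib.SpSix

theorem cls_facts : cls1.length % 2 = 1 ∧ cls1.length < 3780 ∧ cls2.length < 3780 ∧ cls3.length < 3780 := by
  decide +kernel

/-- The class is listed exactly once. -/
theorem card_class {e v : ℕ} {T O : List (ℕ × ℕ)} {C : List ℕ} (h : decOK e v T O C = true) {E : SpGrp}
    (hE : enc E = e) : Nat.card {w : SpGrp // IsConj E w} = T.length := by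
  subst hE
  obtain ⟨V, hV⟩ := exists_of_valid (dec_valid h)
  subst hV
  have hd := dec_spec h
  simp only [decOK, Bool.and_eq_true, List.all_eq_true, Nat.beq_eq] at h
  obtain ⟨⟨⟨⟨⟨⟨⟨-, hT⟩, -⟩, -⟩, sT⟩, -⟩, -⟩, -⟩ := h
  have pT := sorted_pairwise sT
  choose gT hgT using fun i : Fin T.length => exists_of_valid (hT _ (List.get_mem T i)).1.2
  have tE : ∀ i, (T.get i).1 = enc (gT i * E * (gT i)⁻¹) := fun i => by
    obtain ⟨⟨v1, -⟩, hc⟩ := hT _ (List.get_mem T i)
    obtain ⟨u, hu⟩ := exists_of_valid v1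
    rw [← hu, ← hgT i, cmp_enc, cmp_enc] at hc
    rw [← hu, ← mul_inv_eq_iff_eq_mul.2 (enc_injective hc)]
  let F : Fin T.length → {w : SpGrp // IsConj E w} := fun i => ⟨gT i * E * (gT i)⁻¹, isConj_iff.2 ⟨gT i, rfl⟩⟩
  have hF : Function.Bijective F := by
    refine ⟨fun i j e => get_inj pT
      ((tE i).trans ((congrArg enc (congrArg Subtype.val e)).trans (tE j).symm)), ?_⟩
    rintro ⟨w, hw⟩
    obtain ⟨x, rfl⟩ := isConj_iff.1 hw
    obtain ⟨p, hp, ep⟩ := hd.1 x
    obtain ⟨i, rfl⟩ := List.get_of_mem hp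
    exact ⟨i, Subtype.ext (enc_injective (by rw [← tE, ep]))⟩
  rw [← Nat.card_eq_of_bijective F hF, Nat.card_fin]

/-- An involution with centraliser of order at most 384 is a vertex. -/
theorem exists_conj_vertex {v : SpGrp} (hv : v * v = 1) (hv1 : v ≠ 1)
    (hc : Nat.card (Subgroup.centralizer ({v} : Set SpGrp)) ≤ 384) : ∃ u : SpGrp, v = u * R 0 * u⁻¹ := by
  classical
  haveI : Finite SpGrp := Nat.finite_of_card_ne_zero (by rw [card_Sp]; norm_num)
  haveI : Fintype SpGrp := Fintype.ofFinite _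
  have hvi : v⁻¹ = v := inv_eq_of_mul_eq_one_right hv
  -- a fixed conjugate of the second representative
  obtain ⟨w, hw, hwv⟩ : ∃ w, IsConj (R 1) w ∧ v * w = w * v := by
    by_contra hno
    push Not at hno
    let σ : {w : SpGrp // IsConj (R 1) w} → {w : SpGrp // IsConj (R 1) w} := fun w =>
      ⟨v * w.1 * v⁻¹, w.2.trans (isConj_iff.2 ⟨v, rfl⟩)⟩
    have hinv : Function.Involutive σ := fun w => Subtype.ext (by
      show v * (v * w.1 * v⁻¹) * v⁻¹ = w.1
      rw [show v * (v * w.1 * v⁻¹) * v⁻¹ = v * v * w.1 * (v * v)⁻¹ by group, hv]; group)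
    have hfree : ∀ w, σ w ≠ w := fun w e => hno w.1 w.2 (mul_inv_eq_iff_eq_mul.1 (congrArg Subtype.val e))
    have heven : 2 ∣ Nat.card {w : SpGrp // IsConj (R 1) w} := by
      haveI : Fact (Nat.Prime 2) := ⟨Nat.prime_two⟩
      let P : Equiv.Perm {w : SpGrp // IsConj (R 1) w} := hinv.toPerm
      have hP : P ^ 2 ^ 1 = 1 := by
        ext w
        simp [P, pow_two, hinv w]
      by_contra hnd
      rw [Nat.card_eq_fintype_card] at hnd
      obtain ⟨w, hw⟩ := Equiv.Perm.exists_fixed_point_of_prime (p := 2) (n := 1) hnd hP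
      exact hfree w hw
    rw [card_class decA1_ok (enc_R 1)] at heven
    obtain ⟨h1, -⟩ := cls_facts
    omega
  obtain ⟨x, hx⟩ := isConj_iff.1 hw.symm
  have hy1 : (x * v * x⁻¹) * (x * v * x⁻¹) = 1 := by
    rw [show x * v * x⁻¹ * (x * v * x⁻¹) = x * (v * v) * x⁻¹ by group, hv]; group
  have hyc : x * v * x⁻¹ * R 1 = R 1 * (x * v * x⁻¹) := by
    rw [← hx, show x * v * x⁻¹ * (x * w * x⁻¹) = x * (v * w) * x⁻¹ by group, hwv]; group
  obtain ⟨A, hA⟩ : ∃ A, enc A = (tree1.headD ([], 0, 0)).2.1 := exists_of_valid (dec_valid decA1_ok)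
  have hd := decA1_ok
  rw [← hA, show reps.getD 1 0 = enc (R 1) from (enc_R 1).symm] at hd
  have hmem := ((dec_spec hd).2.1 _ hyc).2
  have h1 := (List.all_eq_true.1 invol_ok) _ hmem
  have c2 : Nat.beq (cmp (enc (x * v * x⁻¹)) (enc (x * v * x⁻¹))) one = true :=
    Nat.beq_eq.mpr (by rw [cmp_enc, hy1, enc_one])
  have c3 : Nat.beq (enc (x * v * x⁻¹)) one = false := by
    rw [Bool.eq_false_iff, Ne, Nat.beq_eq, eq_one_iff, conj_eq_one_iff]; exact hv1
  simp only [c2, c3, Bool.not_true, Bool.false_or] at h1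
  obtain ⟨k, -, u, hu⟩ := known_spec le_rfl h1
  have hv' : v = x⁻¹ * u * R k * (x⁻¹ * u)⁻¹ := by
    rw [show x⁻¹ * u * R k * (x⁻¹ * u)⁻¹ = x⁻¹ * (u * R k * u⁻¹) * x by group, ← hu]; group
  refine ⟨x⁻¹ * u, ?_⟩
  by_contra hne
  -- the class is too large
  have hbig : 3780 ≤ Nat.card {w : SpGrp // IsConj v w} := by
    have h := MulAction.card_orbit_mul_card_stabilizer_eq_card_group (ConjAct SpGrp) v
    rw [← Nat.card_eq_fintype_card, ← Nat.card_eq_fintype_card, ← Nat.card_eq_fintype_card,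
      show Nat.card (ConjAct SpGrp) = 1451520 by rw [← card_Sp]; rfl] at h
    have ho : Nat.card (MulAction.orbit (ConjAct SpGrp) v) = Nat.card {w : SpGrp // IsConj v w} := by
      refine Nat.card_congr (Equiv.subtypeEquivRight fun w => ?_)
      rw [ConjAct.mem_orbit_conjAct, isConj_comm]
    have hs : Nat.card (MulAction.stabilizer (ConjAct SpGrp) v) ≤ 384 := by
      refine le_trans (le_of_eq ?_) hc
      rw [ConjAct.stabilizer_eq_centralizer]
      rfl
    rw [ho] at h
    nlinarith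
  have hcl : Nat.card {w : SpGrp // IsConj v w} = Nat.card {w : SpGrp // IsConj (R k) w} := by
    have hc' : IsConj (R k) v := isConj_iff.2 ⟨x⁻¹ * u, hv'.symm⟩
    exact Nat.card_congr (Equiv.subtypeEquivRight fun w => ⟨hc'.trans, hc'.symm.trans⟩)
  rw [hcl] at hbig
  obtain ⟨-, l1, l2, l3⟩ := cls_facts
  have hk4 : k = 0 ∨ k = 1 ∨ k = 2 ∨ k = 3 := by fin_cases k <;> simp
  rcases hk4 with rfl | rfl | rfl | rfl
  · exact hne hv'
  · rw [card_class decA1_ok (enc_R 1)] at hbig; omega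
  · rw [card_class decA2_ok (enc_R 2)] at hbig; omega
  · rw [card_class decA3_ok (enc_R 3)] at hbig; omega

end SpCtl

open Cfsg.Lib.CoThreeType (Cm tC P276 tP vP uP repP)

namespace XHom

variable {G : Type u} [Group G] {S : Setup G} (X : XHom S)

/-- The centraliser of `t` and `z` has 384 elements. -/
theorem ncard_cent (S : Setup G) : (S.dblSet fun _ => true).ncard = 384 := by
  rw [S.ncard_dblSet, List.filter_eq_self.2 fun _ _ => rfl, List.length_finRange]

/-- A conjugate of `t` in the copy has small centraliser in it. -/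
theorem card_cent_le [Finite G] (hres : S.t ∈ Cfsg.pResidual 2 G) {w : Cm} (hw : IsConj S.t (X.ψ w)) :
    Nat.card (Subgroup.centralizer ({w} : Set Cm)) ≤ 384 := by
  obtain ⟨g, hg⟩ := isConj_iff.1 hw
  set z' := g⁻¹ * S.z * g with hz'
  have hnz := S.not_isConj_z hres
  have hcz : IsConj S.z z' := isConj_iff.2 ⟨g⁻¹, by rw [inv_inv]⟩
  have h1 : z' * S.t = S.t * z' := by
    rw [hz', show S.t = g⁻¹ * X.ψ w * g by rw [← hg]; group,
      show g⁻¹ * S.z * g * (g⁻¹ * X.ψ w * g) = g⁻¹ * (S.z * X.ψ w) * g by group, ← X.comm_z]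
    group
  have h2 : z' * z' = 1 := by
    rw [hz', show g⁻¹ * S.z * g * (g⁻¹ * S.z * g) = g⁻¹ * (S.z * S.z) * g by group, S.z_sq]; group
  have h3 : z' ≠ S.t := fun e => hnz (e ▸ hcz).symm
  have h4 : z' ≠ 1 := fun e => S.z_ne_one (by
    rw [hz'] at e
    have : S.z = g * 1 * g⁻¹ := by rw [← e]; group
    simpa using this)
  obtain ⟨m, hm⟩ := S.conj_a_cases h1 h2 h3 h4
  have hc' : IsConj S.z (S.φ m * z' * (S.φ m)⁻¹) := hcz.trans (isConj_iff.2 ⟨_, rfl⟩)
  have hgood := S.good hres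
  have hm' : S.φ m * z' * (S.φ m)⁻¹ = S.z := by
    rcases hm with e | e | e | e
    · exact e
    · exact absurd (hgood.trans (e ▸ hc').symm) hnz
    · exact absurd ((S.isConj_t_tz hres).trans (e ▸ hc').symm) hnz
    · exact absurd ((S.isConj_t_ta hres hgood).trans (e ▸ hc').symm) hnz
  set h := S.φ m * g⁻¹ with hh
  have ht : h * X.ψ w * h⁻¹ = S.t := by
    rw [hh, ← hg, show S.φ m * g⁻¹ * (g * S.t * g⁻¹) * (S.φ m * g⁻¹)⁻¹ = S.φ m * S.t * (S.φ m)⁻¹ by group,
      S.conj_phi_t]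
  have hz : h * S.z * h⁻¹ = S.z := by
    conv_rhs => rw [← hm', hz']
    rw [hh]; group
  let F : Subgroup.centralizer ({w} : Set Cm) → S.dblSet (fun _ => true) := fun y =>
    ⟨h * X.ψ y.1 * h⁻¹, by
      have hy := Subgroup.mem_centralizer_singleton_iff.1 y.2
      obtain ⟨i, hi⟩ := (S.mem_iff_tz (h * X.ψ y.1 * h⁻¹)).1 ⟨by
        rw [← ht, show h * X.ψ y.1 * h⁻¹ * (h * X.ψ w * h⁻¹) = h * (X.ψ y.1 * X.ψ w) * h⁻¹ by group, ← map_mul, hy,
          map_mul]
        group, by
        conv_lhs => rw [← hz]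
        conv_rhs => rw [← hz]
        rw [show h * X.ψ y.1 * h⁻¹ * (h * S.z * h⁻¹) = h * (X.ψ y.1 * S.z) * h⁻¹ by group, X.comm_z]
        group⟩
      exact ⟨i, rfl, hi⟩⟩
  have hF : Function.Injective F := fun a b e =>
    Subtype.ext (X.inj (mul_left_cancel (mul_right_cancel (congrArg Subtype.val e))))
  have := Nat.card_le_card_of_injective F hF
  rwa [Nat.card_coe_set_eq, ncard_cent] at this

theorem card_cent_v : 4608 ≤ Nat.card (Subgroup.centralizer
    ({⟨vP, (Cfsg.Lib.CoThreeType.repTab_spec (k := 1) (by norm_num)).2.1⟩} : Set Cm)) := by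
  have hD : Nat.card Cfsg.Lib.CoThreeType.dSub.grp = 4608 :=
    Cfsg.Lib.CoThreeType.dSub_valid.card.trans Cfsg.Lib.CoThreeType.dSub_gens.2.2.1
  rw [← hD]
  exact Nat.card_le_card_of_injective
    (fun y => ⟨⟨y.1, Cfsg.Lib.CoThreeType.dSub_valid.grp_le y.2⟩, Subgroup.mem_centralizer_singleton_iff.2
      (Subtype.ext (Cfsg.Lib.CoThreeType.grp_comm_v _ y.2))⟩)
    fun a b e => Subtype.ext (congrArg (fun y => (y.1.1 : P276)) e)

/-- A conjugate of `t` in the copy is in the third class. -/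
theorem class_two [Finite G] (hres : S.t ∈ Cfsg.pResidual 2 G) {w : Cm} (hw : IsConj S.t (X.ψ w)) :
    ∃ c : Cm, ((c * w * c⁻¹ : Cm) : P276) = uP := by
  obtain ⟨g, hg⟩ := isConj_iff.1 hw
  have hw2 : w * w = 1 := X.inj (by
    rw [map_mul, ← hg, map_one, show g * S.t * g⁻¹ * (g * S.t * g⁻¹) = g * (S.t * S.t) * g⁻¹ by group, S.t_sq]
    group)
  have hw1 : (w : P276) ≠ 1 := fun e => S.t_ne_one (by
    have e' : w = 1 := Subtype.ext e
    rw [e', map_one, conj_eq_one_iff] at hg
    exact hg)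
  obtain ⟨k, hk, c, hc, e⟩ := Cfsg.Lib.CoThreeType.inv_class w.2 (congrArg Subtype.val hw2) hw1
  set c' : Cm := ⟨c, hc⟩
  have hwc : IsConj S.t (X.ψ (c' * w * c'⁻¹)) := hw.trans (isConj_iff.2 ⟨X.ψ c', by simp⟩)
  interval_cases k
  · exfalso
    have e' : c' * w * c'⁻¹ = tC := Subtype.ext e
    rw [e', X.map_z] at hwc
    exact S.not_isConj_z hres hwc
  · exfalso
    have e' : c' * w * c'⁻¹ = ⟨vP, (Cfsg.Lib.CoThreeType.repTab_spec (k := 1) (by norm_num)).2.1⟩ := Subtype.ext e
    rw [e'] at hwc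
    have := card_cent_v.trans (X.card_cent_le hres hwc)
    omega
  · exact ⟨c', e⟩

/-- **The copy is the centraliser of `z`.** -/
theorem range_eq [Finite G] (hres : S.t ∈ Cfsg.pResidual 2 G) :
    X.ψ.range = Subgroup.centralizer ({S.z} : Set G) := by
  classical
  obtain ⟨hv, hvt⟩ := X.vert
  set xv : Cm := ⟨vertP, hv⟩
  set L := Subgroup.centralizer ({S.z} : Set G) with hL
  have hmem : ∀ x, X.ψ x ∈ L := fun x => Subgroup.mem_centralizer_singleton_iff.2 (X.comm_z x)
  let ψL : Cm →* L := X.ψ.codRestrict L hmem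
  set zL : L := ψL tC with hzL
  have zL_val : (zL : G) = S.z := X.map_z
  let Z : Subgroup L := Subgroup.zpowers zL
  have hzc : ∀ x : L, x * zL = zL * x := fun x => Subtype.ext (by
    rw [Subgroup.coe_mul, Subgroup.coe_mul, zL_val]
    exact Subgroup.mem_centralizer_singleton_iff.1 x.2)
  have hzz : zL * zL = 1 := Subtype.ext (by rw [Subgroup.coe_mul, zL_val, Subgroup.coe_one]; exact S.z_sq)
  have hZ : ∀ {x : L}, x ∈ Z ↔ x = 1 ∨ x = zL := by
    intro x
    constructor
    · rintro ⟨n, rfl⟩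
      rcases Int.even_or_odd n with ⟨k, rfl⟩ | ⟨k, rfl⟩
      · left
        show zL ^ (k + k) = 1
        rw [← two_mul, zpow_mul, show zL ^ (2 : ℤ) = 1 by rw [zpow_two, hzz], one_zpow]
      · right
        show zL ^ (2 * k + 1) = zL
        rw [zpow_add, zpow_mul, show zL ^ (2 : ℤ) = 1 by rw [zpow_two, hzz], one_zpow, one_mul, zpow_one]
    · rintro (rfl | rfl)
      · exact one_mem _
      · exact Subgroup.mem_zpowers _
  haveI hZn : Z.Normal := ⟨fun x hx g => by
    rcases hZ.1 hx with rfl | rfl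
    · simp
    · rw [hzc g, mul_inv_cancel_right]; exact Subgroup.mem_zpowers _⟩
  let q : L →* L ⧸ Z := QuotientGroup.mk' Z
  -- the model modulo its centre
  obtain ⟨hz2, ⟨e⟩, -⟩ := Cfsg.Lib.CoThreeType.cm_double_cover
  haveI : Finite Cm := Finite.of_injective X.ψ X.inj
  have htc : tC ∈ Subgroup.center Cm := Subgroup.mem_center_iff.2 fun g =>
    Subtype.ext (Cfsg.Lib.CoThreeType.t_spec.2.2.2.2 _ g.2)
  have ht1 : tC ≠ (1 : Cm) := fun h => Cfsg.Lib.CoThreeType.t_spec.2.1 (congrArg Subtype.val h)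
  have hcen : ∀ {x : Cm}, x ∈ Subgroup.center Cm ↔ x = 1 ∨ x = tC := by
    intro x
    constructor
    · intro hx
      obtain ⟨a, b, hab, huniv⟩ := Nat.card_eq_two_iff.1 hz2
      have hm : ∀ y : Subgroup.center Cm, y = a ∨ y = b := fun y => by
        have := huniv ▸ Set.mem_univ y
        simpa using this
      by_contra hne
      push Not at hne
      rcases hm ⟨x, hx⟩ with h1 | h1 <;> rcases hm ⟨tC, htc⟩ with h2 | h2 <;> rcases hm 1 with h3 | h3
      all_goals first
        | exact hne.1 (congrArg Subtype.val (h1.trans h3.symm))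
        | exact hne.2 (congrArg Subtype.val (h1.trans h2.symm))
        | exact ht1 (congrArg Subtype.val (h2.trans h3.symm))
    · rintro (rfl | rfl)
      · exact one_mem _
      · exact htc
  let π : Cm →* Cfsg.Lib.SpSix.SpGrp := e.toMonoidHom.comp (QuotientGroup.mk' (Subgroup.center Cm))
  have πsurj : Function.Surjective π := e.surjective.comp (QuotientGroup.mk'_surjective _)
  have πker : ∀ {x : Cm}, π x = 1 ↔ x = 1 ∨ x = tC := fun {x} => by
    rw [← hcen, ← QuotientGroup.eq_one_iff]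
    exact map_eq_one_iff e e.injective
  have tlit : X.ψ xv = S.t := hvt
  have hxx : xv * xv = 1 := X.inj (by rw [map_mul, tlit, S.t_sq, map_one])
  have hπx : π xv ≠ 1 := fun h => by
    rcases πker.1 h with h | h
    · exact S.t_ne_one (by rw [← tlit, h, map_one])
    · exact S.t_ne_z (by rw [← tlit, h, X.map_z])
  -- the centraliser of the image of the vertex
  have hsmall : Nat.card (Subgroup.centralizer ({π xv} : Set Cfsg.Lib.SpSix.SpGrp)) ≤ 384 := by
    set C' := (Subgroup.centralizer ({π xv} : Set Cfsg.Lib.SpSix.SpGrp)).comap π with hC'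
    set C := Subgroup.centralizer ({xv} : Set Cm) with hC
    have hk : Nat.card π.ker = 2 := by
      refine (Nat.card_congr (Equiv.subtypeEquivRight fun x => ?_)).trans hz2
      rw [MonoidHom.mem_ker, πker, hcen]
    have h1 : Nat.card C' = 2 * Nat.card (Subgroup.centralizer ({π xv} : Set Cfsg.Lib.SpSix.SpGrp)) := by
      let p : C' →* Subgroup.centralizer ({π xv} : Set Cfsg.Lib.SpSix.SpGrp) :=
        (π.comp C'.subtype).codRestrict _ fun y => y.2
      have ps : Function.Surjective p := fun y => by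
        obtain ⟨x, hx⟩ := πsurj y.1
        exact ⟨⟨x, show π x ∈ Subgroup.centralizer _ by rw [hx]; exact y.2⟩, Subtype.ext hx⟩
      have pk : Nat.card p.ker = 2 := by
        refine Eq.trans ?_ hk
        exact Nat.card_congr
          { toFun := fun y => ⟨y.1.1, congrArg Subtype.val (MonoidHom.mem_ker.1 y.2)⟩
            invFun := fun x => ⟨⟨x.1, show π x.1 ∈ Subgroup.centralizer _ by
              rw [MonoidHom.mem_ker.1 x.2]; exact one_mem _⟩, MonoidHom.mem_ker.2 (Subtype.ext (MonoidHom.mem_ker.1 x.2))⟩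
            left_inv := fun _ => rfl
            right_inv := fun _ => rfl }
      rw [← p.ker.card_mul_index, pk, Subgroup.index_ker, MonoidHom.range_eq_top.2 ps, Subgroup.card_top]
    -- an element either centralises the vertex or moves it by the centre
    have hcase : ∀ y ∈ C', y * xv * y⁻¹ = xv ∨ y * xv * y⁻¹ = xv * tC := fun y hy => by
      have hy' := Subgroup.mem_centralizer_singleton_iff.1 (show π y ∈ _ from hy)
      have h : π (xv⁻¹ * (y * xv * y⁻¹)) = 1 := by
        rw [map_mul, map_mul, map_mul, map_inv, map_inv, hy', mul_inv_cancel_right, inv_mul_cancel]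
      rcases πker.1 h with h | h
      · exact Or.inl (inv_mul_eq_one.1 h).symm
      · exact Or.inr (by rw [← h, mul_inv_cancel_left])
    let χ : C' → Bool := fun y => decide (y.1 * xv * y.1⁻¹ = xv)
    by_cases hall : ∀ y ∈ C', y * xv * y⁻¹ = xv
    · have hle : Nat.card C' ≤ Nat.card C :=
        Subgroup.card_le_of_le fun y hy => Subgroup.mem_centralizer_singleton_iff.2 (mul_inv_eq_iff_eq_mul.1 (hall y hy))
      have : Nat.card C ≤ 384 := X.card_cent_le hres (w := xv) (by rw [tlit])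
      omega
    · push Not at hall
      obtain ⟨s, hs, hs'⟩ := hall
      have hs2 := (hcase s hs).resolve_left hs'
      let F : C' → Bool × C := fun y =>
        if hy : y.1 * xv * y.1⁻¹ = xv then
          (true, ⟨y.1, Subgroup.mem_centralizer_singleton_iff.2 (mul_inv_eq_iff_eq_mul.1 hy)⟩)
        else (false, ⟨s⁻¹ * y.1, Subgroup.mem_centralizer_singleton_iff.2 (by
          have e1 : y.1 * xv * y.1⁻¹ = s * xv * s⁻¹ := by rw [hs2]; exact (hcase y.1 y.2).resolve_left hy
          calc s⁻¹ * y.1 * xv = s⁻¹ * (y.1 * xv * y.1⁻¹) * y.1 := by group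
            _ = xv * (s⁻¹ * y.1) := by rw [e1]; group)⟩)
      have hF : Function.Injective F := fun a b h => by
        simp only [F] at h
        split_ifs at h <;> simp only [Prod.mk.injEq, Subtype.mk.injEq, Bool.true_eq_false, Bool.false_eq_true,
          false_and, mul_right_inj] at h
        · exact Subtype.ext h.2
        · exact Subtype.ext h.2
      have h2 := Nat.card_le_card_of_injective F hF
      rw [Nat.card_prod, Nat.card_eq_fintype_card (α := Bool), Fintype.card_bool] at h2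
      have : Nat.card C ≤ 384 := X.card_cent_le hres (w := xv) (by rw [tlit])
      omega
  obtain ⟨u, hu⟩ := SpCtl.exists_conj_vertex (by rw [← map_mul, hxx, map_one]) hπx hsmall
  -- the copy modulo `z`
  let β : Cm ⧸ Subgroup.center Cm →* L ⧸ Z := QuotientGroup.lift _ (q.comp ψL) fun x hx => by
    rw [MonoidHom.mem_ker, MonoidHom.comp_apply, QuotientGroup.mk'_apply, QuotientGroup.eq_one_iff]
    rcases hcen.1 hx with rfl | rfl
    · rw [map_one]; exact one_mem _
    · exact Subgroup.mem_zpowers _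
  let ψb : Cfsg.Lib.SpSix.SpGrp →* L ⧸ Z := (β.comp e.symm.toMonoidHom).comp (MulAut.conj u).toMonoidHom
  have hβ : ∀ x, β (e.symm (π x)) = q (ψL x) := fun x => by
    show β (e.symm (e (QuotientGroup.mk' _ x))) = _
    rw [MulEquiv.symm_apply_apply]; rfl
  set tL : L := ψL xv with htL
  have hR : ψb (SpCtl.R 0) = q tL := by
    show β (e.symm (u * SpCtl.R 0 * u⁻¹)) = _
    rw [← hu, hβ]
  have hrange : ∀ {x : L}, q x ∈ ψb.range ↔ (x : G) ∈ X.ψ.range := by
    intro x
    constructor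
    · rintro ⟨y, hy⟩
      obtain ⟨c, hc⟩ := πsurj (u * y * u⁻¹)
      have hy' : q (ψL c) = q x := by rw [← hy, ← hβ, hc]; rfl
      rw [QuotientGroup.mk'_eq_mk'] at hy'
      obtain ⟨z0, hz0, rfl⟩ := hy'
      rcases hZ.1 hz0 with rfl | rfl
      · exact ⟨c, by rw [mul_one]; rfl⟩
      · exact ⟨c * tC, by rw [map_mul]; rfl⟩
    · rintro ⟨c, hc⟩
      refine ⟨u⁻¹ * π c * u, ?_⟩
      show β (e.symm (u * (u⁻¹ * π c * u) * u⁻¹)) = _
      rw [show u * (u⁻¹ * π c * u) * u⁻¹ = π c by group, hβ, show ψL c = x from Subtype.ext hc]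
  have hinj : Function.Injective ψb := by
    rw [injective_iff_map_eq_one]
    intro y hy
    obtain ⟨c, hc⟩ := πsurj (u * y * u⁻¹)
    have h : q (ψL c) = 1 := by rw [← hβ, hc]; exact hy
    have hc1 : c = 1 ∨ c = tC := by
      rcases hZ.1 ((QuotientGroup.eq_one_iff _).1 h) with h | h
      · exact Or.inl (X.inj (by rw [map_one]; exact congrArg Subtype.val h))
      · exact Or.inr (X.inj (congrArg Subtype.val h))
    rw [πker.2 hc1] at hc
    exact conj_eq_one_iff.1 hc.symm
  obtain ⟨s, hs⟩ := X.swap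
  have hdiv : ∀ {a b : L}, q a = q b → (a : G) = b ∨ (a : G) = b * S.z := by
    intro a b h
    rw [QuotientGroup.mk'_eq_mk'] at h
    obtain ⟨z0, hz0, e⟩ := h
    rcases hZ.1 hz0 with rfl | rfl
    · exact Or.inl (by rw [← e, mul_one])
    · refine Or.inr ?_
      rw [← e, Subgroup.coe_mul, zL_val, mul_assoc, S.z_sq, mul_one]
  have tL_val : (tL : G) = S.t := tlit
  have hback : ∀ {x : L}, (x : G) * S.t = S.t * x → (x : G) ∈ X.ψ.range := fun {x} h =>
    X.cent_tz _ h (Subgroup.mem_centralizer_singleton_iff.1 x.2)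
  have hcent : ∀ y : L ⧸ Z, y * ψb (SpCtl.R 0) = ψb (SpCtl.R 0) * y → y ∈ ψb.range := by
    intro y hy
    obtain ⟨x, rfl⟩ := QuotientGroup.mk'_surjective Z y
    rw [hR] at hy
    refine hrange.2 ?_
    have h : q (x * tL * x⁻¹) = q tL := by rw [map_mul, map_mul, map_inv, hy, mul_inv_cancel_right]
    rcases hdiv h with h | h <;> simp only [Subgroup.coe_mul, Subgroup.coe_inv, tL_val] at h
    · exact hback (mul_inv_eq_iff_eq_mul.1 h)
    · have hcomm : ((X.ψ s)⁻¹ * x) * S.t = S.t * ((X.ψ s)⁻¹ * x) := by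
        calc (X.ψ s)⁻¹ * x * S.t = (X.ψ s)⁻¹ * (x * S.t * (x : G)⁻¹) * x := by group
          _ = S.t * ((X.ψ s)⁻¹ * x) := by rw [h, ← hs]; group
      have := mul_mem (MonoidHom.mem_range.2 ⟨s, rfl⟩) (hback (x := (ψL s)⁻¹ * x) hcomm)
      have e : X.ψ s * (((ψL s)⁻¹ * x : L) : G) = x := by
        show X.ψ s * ((X.ψ s)⁻¹ * x) = x
        rw [mul_inv_cancel_left]
      rwa [e] at this
  have hctrl : ∀ y : L ⧸ Z, y * ψb (SpCtl.R 0) * y⁻¹ ∈ ψb.range → y ∈ ψb.range := by
    intro y hy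
    obtain ⟨x, rfl⟩ := QuotientGroup.mk'_surjective Z y
    rw [hR, ← map_inv, ← map_mul, ← map_mul] at hy
    obtain ⟨w, hw⟩ := hrange.1 hy
    simp only [Subgroup.coe_mul, Subgroup.coe_inv, tL_val] at hw
    obtain ⟨c, hc⟩ := X.class_two hres (w := w) (isConj_iff.2 ⟨x, hw.symm⟩)
    obtain ⟨d, hd⟩ := X.class_two hres (w := xv) (by rw [tlit])
    have hcd : c * w * c⁻¹ = d * xv * d⁻¹ := Subtype.ext (hc.trans hd.symm)
    set r := c⁻¹ * d with hr
    have hwr : w = r * xv * r⁻¹ := by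
      rw [hr, show c⁻¹ * d * xv * (c⁻¹ * d)⁻¹ = c⁻¹ * (d * xv * d⁻¹) * c by group, ← hcd]; group
    refine hrange.2 ?_
    have hwt : (x : G) * S.t * (x : G)⁻¹ = X.ψ r * S.t * (X.ψ r)⁻¹ := by
      rw [← hw, hwr, map_mul, map_mul, map_inv, tlit]
    have hcomm : ((X.ψ r)⁻¹ * x) * S.t = S.t * ((X.ψ r)⁻¹ * x) := by
      calc (X.ψ r)⁻¹ * x * S.t = (X.ψ r)⁻¹ * (x * S.t * (x : G)⁻¹) * x := by group
        _ = S.t * ((X.ψ r)⁻¹ * x) := by rw [hwt]; group
    have := mul_mem (MonoidHom.mem_range.2 ⟨r, rfl⟩) (hback (x := (ψL r)⁻¹ * x) hcomm)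
    have e : X.ψ r * (((ψL r)⁻¹ * x : L) : G) = x := by
      show X.ψ r * ((X.ψ r)⁻¹ * x) = x
      rw [mul_inv_cancel_left]
    rwa [e] at this
  have htop := SpCtl.range_eq_top ψb hinj hcent hctrl
  refine le_antisymm (by rintro _ ⟨x, rfl⟩; exact hmem x) fun g hg => ?_
  exact (hrange (x := ⟨g, hg⟩)).1 (by rw [htop]; exact Subgroup.mem_top _)

end XHom

end Cfsg.Lib.CoThreeM12
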