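import Cfsg.Agent.Lib.CoThreeM12.CzDerive

/-!
# Data: relators among `<t> × M12` and the transporter, and their derivations

The letters of the six generators of the part of the centraliser of `z` are given as normal words, a letter `2k` for
the `k`th, `2k + 1` for its inverse.
-/

set_option autoImplicit false
set_option maxRecDepth 100000
set_option linter.style.longLine false

namespace Cfsg.Lib.CoThreeM12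

/-- The two basic relators. -/
def relBaseW : List (List (ℕ × List ℕ)) :=
  [[(1, [0, 2, 2, 3, 2, 0, 2, 2, 1]), (2, [1, 0, 2, 1, 0, 3, 0, 2, 1, 0]), (2, [1, 0, 2, 1, 0, 3, 0, 2, 1, 0])],
   [(1, [1, 0, 2, 1, 0, 3, 0, 2, 1, 0]), (1, [1, 0, 2, 1, 0, 3, 0, 2, 1, 0]), (1, [1, 0, 2, 1, 0, 3, 0, 2, 1, 0])]]

/-- Their inverses up to rotation. -/
def relInvW : List (List (ℕ × List ℕ)) :=
  [[(1, [0, 2, 2, 3, 2, 0, 2, 2, 1]), (1, [1, 0, 2, 1, 0, 3, 0, 2, 1, 0]), (2, [0, 2, 2, 3, 2, 0, 2, 2, 1])],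
   [(1, [1, 0, 2, 1, 0, 3, 0, 2, 1, 0]), (2, [0, 2, 2, 3, 2, 0, 2, 2, 1]), (1, [0, 2, 2, 3, 2, 0, 2, 2, 1])],
   [(2, [0, 2, 2, 3, 2, 0, 2, 2, 1]), (1, [0, 2, 2, 3, 2, 0, 2, 2, 1]), (1, [1, 0, 2, 1, 0, 3, 0, 2, 1, 0])],
   [(2, [0, 2, 2, 3, 2, 0, 2, 2, 1]), (2, [0, 2, 2, 3, 2, 0, 2, 2, 1]), (2, [0, 2, 2, 3, 2, 0, 2, 2, 1])]]

/-- The relators of the second type of triangles. -/
def relTwoW : List (List (ℕ × List ℕ)) :=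
  [[(1, [0, 2, 2, 3, 2, 0, 2, 2, 1]), (2, [1, 0, 2, 1, 0, 3, 0, 2, 1, 0]), (2, [1, 0, 2, 1, 0, 3, 0, 2, 1, 0])],
   [(2, [1, 0, 2, 1, 0, 3, 0, 2, 1, 0]), (2, [1, 0, 2, 1, 0, 3, 0, 2, 1, 0]), (1, [0, 2, 2, 3, 2, 0, 2, 2, 1])],
   [(2, [1, 0, 2, 1, 0, 3, 0, 2, 1, 0]), (1, [0, 2, 2, 3, 2, 0, 2, 2, 1]), (2, [1, 0, 2, 1, 0, 3, 0, 2, 1, 0])],
   [(1, [0, 2, 2, 3, 2, 0, 2, 2, 1]), (1, [1, 0, 2, 1, 0, 3, 0, 2, 1, 0]), (2, [0, 2, 2, 3, 2, 0, 2, 2, 1])],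
   [(1, [1, 0, 2, 1, 0, 3, 0, 2, 1, 0]), (2, [0, 2, 2, 3, 2, 0, 2, 2, 1]), (1, [0, 2, 2, 3, 2, 0, 2, 2, 1])],
   [(2, [0, 2, 2, 3, 2, 0, 2, 2, 1]), (1, [0, 2, 2, 3, 2, 0, 2, 2, 1]), (1, [1, 0, 2, 1, 0, 3, 0, 2, 1, 0])],
   [(1, [1, 0, 2, 1, 0, 3, 0, 2, 1, 0]), (1, [1, 0, 2, 1, 0, 3, 0, 2, 1, 0]), (1, [1, 0, 2, 1, 0, 3, 0, 2, 1, 0])],
   [(2, [0, 2, 2, 3, 2, 0, 2, 2, 1]), (2, [0, 2, 2, 3, 2, 0, 2, 2, 1]), (2, [0, 2, 2, 3, 2, 0, 2, 2, 1])]]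

/-- The relators of the first type of triangles. -/
def relOneW : List (List (ℕ × List ℕ)) :=
  [[(1, [2, 0, 3, 0, 1, 2, 1, 0, 2, 0]), (1, [0, 3, 0, 1, 2, 1, 0, 2, 0, 2]), (1, [2, 0, 3, 0, 1, 2, 1, 0, 2, 0])],
   [(1, [0, 3, 0, 1, 2, 1, 0, 2, 0, 2]), (1, [2, 0, 3, 0, 1, 2, 1, 0, 2, 0]), (1, [2, 0, 3, 0, 1, 2, 1, 0, 2, 0])],
   [(1, [2, 0, 3, 0, 1, 2, 1, 0, 2, 0]), (1, [2, 0, 3, 0, 1, 2, 1, 0, 2, 0]), (1, [0, 3, 0, 1, 2, 1, 0, 2, 0, 2])],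
   [(2, [0, 3, 0, 1, 2, 1, 0, 2, 0, 2]), (2, [2, 0, 3, 0, 1, 2, 1, 0, 2, 0]), (2, [2, 0, 3, 0, 1, 2, 1, 0, 2, 0])],
   [(2, [2, 0, 3, 0, 1, 2, 1, 0, 2, 0]), (2, [2, 0, 3, 0, 1, 2, 1, 0, 2, 0]), (2, [0, 3, 0, 1, 2, 1, 0, 2, 0, 2])],
   [(2, [2, 0, 3, 0, 1, 2, 1, 0, 2, 0]), (2, [0, 3, 0, 1, 2, 1, 0, 2, 0, 2]), (2, [2, 0, 3, 0, 1, 2, 1, 0, 2, 0])]]

/-- Derivation 0 -/
def relInvSt0 : List DStep :=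
  [(3, 5, [1, 0, 2, 1, 0, 3, 0, 2, 1, 0], [0, 2, 2, 3, 2, 0, 2, 2, 1]),
    (2, 1, [], []),
    (2, 0, [], []),
    (1, 1, [], []),
    (1, 0, [], []),
    (0, 1, [], []),
    (0, 0, [], []),
    (0, 0, [], [])]

/-- Derivation 1 -/
def relInvSt1 : List DStep :=
  [(2, 5, [1, 0, 2, 1, 0, 3, 0, 2, 1, 0], [0, 2, 2, 3, 2, 0, 2, 2, 1]),
    (1, 1, [], []),
    (1, 0, [], []),
    (0, 1, [], []),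
    (0, 0, [], []),
    (1, 0, [], []),
    (0, 1, [], []),
    (0, 0, [], [])]

/-- Derivation 2 -/
def relInvSt2 : List DStep :=
  [(1, 5, [1, 0, 2, 1, 0, 3, 0, 2, 1, 0], [0, 2, 2, 3, 2, 0, 2, 2, 1]),
    (0, 1, [], []),
    (0, 0, [], []),
    (2, 0, [], []),
    (1, 1, [], []),
    (1, 0, [], []),
    (0, 1, [], []),
    (0, 0, [], [])]

/-- Derivation 3 -/
def relInvSt3 : List DStep :=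
  [(3, 13, [1, 0, 2, 1, 0, 3, 0, 2, 1, 0], [0, 2, 2, 3, 2, 0, 2, 2, 1]),
    (2, 1, [], []),
    (2, 0, [], []),
    (1, 1, [], []),
    (1, 0, [], []),
    (0, 1, [], []),
    (0, 0, [], []),
    (0, 0, [], [])]

/-- Derivation -/
def relInvSt : List (List DStep) :=
  [relInvSt0, relInvSt1, relInvSt2, relInvSt3]

/-- Derivation 0 -/
def relTwoSt0 : List DStep :=
  [(3, 21, [0, 2, 2, 3, 2, 0, 2, 2, 1], [1, 0, 2, 1, 0, 3, 0, 2, 1, 0]),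
    (2, 1, [], []),
    (2, 0, [], []),
    (1, 1, [], []),
    (1, 0, [], []),
    (0, 1, [], []),
    (0, 0, [], []),
    (0, 0, [], [])]

/-- Derivation 1 -/
def relTwoSt1 : List DStep :=
  [(2, 21, [0, 2, 2, 3, 2, 0, 2, 2, 1], [1, 0, 2, 1, 0, 3, 0, 2, 1, 0]),
    (1, 1, [], []),
    (1, 0, [], []),
    (0, 1, [], []),
    (0, 0, [], []),
    (1, 0, [], []),
    (0, 1, [], []),
    (0, 0, [], [])]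

/-- Derivation 2 -/
def relTwoSt2 : List DStep :=
  [(1, 21, [0, 2, 2, 3, 2, 0, 2, 2, 1], [1, 0, 2, 1, 0, 3, 0, 2, 1, 0]),
    (0, 1, [], []),
    (0, 0, [], []),
    (2, 0, [], []),
    (1, 1, [], []),
    (1, 0, [], []),
    (0, 1, [], []),
    (0, 0, [], [])]

/-- Derivation 3 -/
def relTwoSt3 : List DStep :=
  [(3, 5, [1, 0, 2, 1, 0, 3, 0, 2, 1, 0], [0, 2, 2, 3, 2, 0, 2, 2, 1]),
    (2, 1, [], []),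
    (2, 0, [], []),
    (1, 1, [], []),
    (1, 0, [], []),
    (0, 1, [], []),
    (0, 0, [], []),
    (0, 0, [], [])]

/-- Derivation 4 -/
def relTwoSt4 : List DStep :=
  [(2, 5, [1, 0, 2, 1, 0, 3, 0, 2, 1, 0], [0, 2, 2, 3, 2, 0, 2, 2, 1]),
    (1, 1, [], []),
    (1, 0, [], []),
    (0, 1, [], []),
    (0, 0, [], []),
    (1, 0, [], []),
    (0, 1, [], []),
    (0, 0, [], [])]

/-- Derivation 5 -/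
def relTwoSt5 : List DStep :=
  [(1, 5, [1, 0, 2, 1, 0, 3, 0, 2, 1, 0], [0, 2, 2, 3, 2, 0, 2, 2, 1]),
    (0, 1, [], []),
    (0, 0, [], []),
    (2, 0, [], []),
    (1, 1, [], []),
    (1, 0, [], []),
    (0, 1, [], []),
    (0, 0, [], [])]

/-- Derivation 6 -/
def relTwoSt6 : List DStep :=
  [(3, 45, [0, 2, 2, 3, 2, 0, 2, 2, 1], [1, 0, 2, 1, 0, 3, 0, 2, 1, 0]),
    (2, 1, [], []),
    (2, 0, [], []),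
    (1, 1, [], []),
    (1, 0, [], []),
    (0, 1, [], []),
    (0, 0, [], []),
    (0, 0, [], [])]

/-- Derivation 7 -/
def relTwoSt7 : List DStep :=
  [(3, 13, [1, 0, 2, 1, 0, 3, 0, 2, 1, 0], [0, 2, 2, 3, 2, 0, 2, 2, 1]),
    (2, 1, [], []),
    (2, 0, [], []),
    (1, 1, [], []),
    (1, 0, [], []),
    (0, 1, [], []),
    (0, 0, [], []),
    (0, 0, [], [])]

/-- Derivation -/
def relTwoSt : List (List DStep) :=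
  [relTwoSt0, relTwoSt1, relTwoSt2, relTwoSt3, relTwoSt4, relTwoSt5, relTwoSt6, relTwoSt7]

/-- Derivation 0 -/
def relOneSt0 : List DStep :=
  [(0, 2, [0, 0, 2, 2, 0, 1, 0, 0, 3], [1, 3, 0, 2, 1, 2, 0, 0, 1, 0]),
    (0, 11, [], []),
    (2, 4, [1, 5], [1, 5]),
    (1, 37, [0, 2, 2, 3, 2, 0, 2, 2, 1], [1, 0, 2, 1, 0, 3, 0, 2, 1, 0]),
    (4, 0, [], []),
    (3, 1, [], []),
    (3, 0, [], []),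
    (2, 1, [], []),
    (2, 0, [], []),
    (1, 4, [3], [3]),
    (2, 4, [0, 5, 3], [0, 3, 5]),
    (1, 61, [0, 2, 2, 3, 2, 0, 2, 2, 1], [1, 0, 2, 1, 0, 3, 0, 2, 1, 0]),
    (4, 0, [], []),
    (3, 1, [], []),
    (3, 0, [], []),
    (2, 1, [], []),
    (2, 0, [], []),
    (0, 4, [3], [3]),
    (1, 4, [2, 3], [2, 3]),
    (0, 21, [1, 0, 2, 1, 0, 3, 0, 2, 1, 0], [0, 2, 2, 3, 2, 0, 2, 2, 1]),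
    (3, 0, [], []),
    (2, 1, [], []),
    (2, 0, [], []),
    (1, 1, [], []),
    (1, 0, [], []),
    (0, 4, [0, 3, 5], [0, 5, 3]),
    (0, 1, [], []),
    (0, 0, [], [])]

/-- Derivation 1 -/
def relOneSt1 : List DStep :=
  [(0, 2, [0, 0, 2, 2, 0, 1, 0, 0, 3], [1, 3, 0, 2, 1, 2, 0, 0, 1, 0]),
    (0, 11, [], []),
    (2, 4, [1, 5], [1, 5]),
    (1, 37, [0, 2, 2, 3, 2, 0, 2, 2, 1], [1, 0, 2, 1, 0, 3, 0, 2, 1, 0]),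
    (4, 0, [], []),
    (3, 1, [], []),
    (3, 0, [], []),
    (2, 1, [], []),
    (2, 0, [], []),
    (1, 4, [3], [3]),
    (2, 4, [0, 3, 5], [0, 5, 3]),
    (1, 61, [0, 2, 2, 3, 2, 0, 2, 2, 1], [1, 0, 2, 1, 0, 3, 0, 2, 1, 0]),
    (4, 0, [], []),
    (3, 1, [], []),
    (3, 0, [], []),
    (2, 1, [], []),
    (2, 0, [], []),
    (0, 4, [3], [3]),
    (1, 4, [2, 3], [2, 3]),
    (0, 21, [1, 0, 2, 1, 0, 3, 0, 2, 1, 0], [0, 2, 2, 3, 2, 0, 2, 2, 1]),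
    (3, 0, [], []),
    (2, 1, [], []),
    (2, 0, [], []),
    (1, 1, [], []),
    (1, 0, [], []),
    (0, 4, [0, 3, 5], [0, 5, 3]),
    (0, 1, [], []),
    (0, 0, [], [])]

/-- Derivation 2 -/
def relOneSt2 : List DStep :=
  [(0, 2, [0, 0, 2, 2, 0, 1, 0, 0, 3], [1, 3, 0, 2, 1, 2, 0, 0, 1, 0]),
    (0, 11, [], []),
    (2, 4, [1, 5], [1, 5]),
    (1, 37, [0, 2, 2, 3, 2, 0, 2, 2, 1], [1, 0, 2, 1, 0, 3, 0, 2, 1, 0]),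
    (4, 0, [], []),
    (3, 1, [], []),
    (3, 0, [], []),
    (2, 1, [], []),
    (2, 0, [], []),
    (1, 4, [3], [3]),
    (2, 4, [0, 5, 3], [0, 3, 5]),
    (1, 61, [0, 2, 2, 3, 2, 0, 2, 2, 1], [1, 0, 2, 1, 0, 3, 0, 2, 1, 0]),
    (4, 0, [], []),
    (3, 1, [], []),
    (3, 0, [], []),
    (2, 1, [], []),
    (2, 0, [], []),
    (0, 4, [3], [3]),
    (1, 4, [2, 3], [2, 3]),
    (0, 21, [1, 0, 2, 1, 0, 3, 0, 2, 1, 0], [0, 2, 2, 3, 2, 0, 2, 2, 1]),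
    (3, 0, [], []),
    (2, 1, [], []),
    (2, 0, [], []),
    (1, 1, [], []),
    (1, 0, [], []),
    (0, 4, [0, 5, 3], [0, 3, 5]),
    (0, 1, [], []),
    (0, 0, [], [])]

/-- Derivation 3 -/
def relOneSt3 : List DStep :=
  [(0, 2, [0, 0, 2, 2, 0, 1, 0, 0, 3], [1, 3, 0, 2, 1, 2, 0, 0, 1, 0]),
    (0, 11, [], []),
    (2, 4, [0, 5], [0, 5]),
    (1, 45, [1, 0, 2, 1, 0, 3, 0, 2, 1, 0], [0, 2, 2, 3, 2, 0, 2, 2, 1]),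
    (4, 0, [], []),
    (3, 1, [], []),
    (3, 0, [], []),
    (2, 1, [], []),
    (2, 0, [], []),
    (1, 4, [3], [3]),
    (2, 4, [1, 2, 5], [1, 2, 5]),
    (1, 53, [1, 0, 2, 1, 0, 3, 0, 2, 1, 0], [0, 2, 2, 3, 2, 0, 2, 2, 1]),
    (4, 0, [], []),
    (3, 1, [], []),
    (3, 0, [], []),
    (2, 1, [], []),
    (2, 0, [], []),
    (0, 4, [3], [3]),
    (1, 4, [2, 3], [2, 3]),
    (0, 5, [1, 0, 2, 1, 0, 3, 0, 2, 1, 0], [0, 2, 2, 3, 2, 0, 2, 2, 1]),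
    (3, 0, [], []),
    (2, 1, [], []),
    (2, 0, [], []),
    (1, 1, [], []),
    (1, 0, [], []),
    (0, 4, [1, 3, 5], [1, 5, 3]),
    (0, 1, [], []),
    (0, 0, [], [])]

/-- Derivation 4 -/
def relOneSt4 : List DStep :=
  [(0, 2, [0, 0, 2, 2, 0, 1, 0, 0, 3], [1, 3, 0, 2, 1, 2, 0, 0, 1, 0]),
    (0, 11, [], []),
    (2, 4, [0, 5], [0, 5]),
    (1, 45, [1, 0, 2, 1, 0, 3, 0, 2, 1, 0], [0, 2, 2, 3, 2, 0, 2, 2, 1]),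
    (4, 0, [], []),
    (3, 1, [], []),
    (3, 0, [], []),
    (2, 1, [], []),
    (2, 0, [], []),
    (1, 4, [3], [3]),
    (2, 4, [1, 5], [1, 5]),
    (1, 53, [1, 0, 2, 1, 0, 3, 0, 2, 1, 0], [0, 2, 2, 3, 2, 0, 2, 2, 1]),
    (4, 0, [], []),
    (3, 1, [], []),
    (3, 0, [], []),
    (2, 1, [], []),
    (2, 0, [], []),
    (0, 4, [3], [3]),
    (1, 4, [2, 3], [2, 3]),
    (0, 5, [1, 0, 2, 1, 0, 3, 0, 2, 1, 0], [0, 2, 2, 3, 2, 0, 2, 2, 1]),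
    (3, 0, [], []),
    (2, 1, [], []),
    (2, 0, [], []),
    (1, 1, [], []),
    (1, 0, [], []),
    (0, 4, [1, 5, 3], [1, 3, 5]),
    (0, 1, [], []),
    (0, 0, [], [])]

/-- Derivation 5 -/
def relOneSt5 : List DStep :=
  [(0, 2, [0, 0, 2, 2, 0, 1, 0, 0, 3], [1, 3, 0, 2, 1, 2, 0, 0, 1, 0]),
    (0, 11, [], []),
    (2, 4, [0, 5], [0, 5]),
    (1, 45, [1, 0, 2, 1, 0, 3, 0, 2, 1, 0], [0, 2, 2, 3, 2, 0, 2, 2, 1]),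
    (4, 0, [], []),
    (3, 1, [], []),
    (3, 0, [], []),
    (2, 1, [], []),
    (2, 0, [], []),
    (1, 4, [3], [3]),
    (2, 4, [1, 5], [1, 5]),
    (1, 53, [1, 0, 2, 1, 0, 3, 0, 2, 1, 0], [0, 2, 2, 3, 2, 0, 2, 2, 1]),
    (4, 0, [], []),
    (3, 1, [], []),
    (3, 0, [], []),
    (2, 1, [], []),
    (2, 0, [], []),
    (0, 4, [3], [3]),
    (1, 4, [2, 3], [2, 3]),
    (0, 5, [1, 0, 2, 1, 0, 3, 0, 2, 1, 0], [0, 2, 2, 3, 2, 0, 2, 2, 1]),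
    (3, 0, [], []),
    (2, 1, [], []),
    (2, 0, [], []),
    (1, 1, [], []),
    (1, 0, [], []),
    (0, 4, [1, 3, 5], [1, 5, 3]),
    (0, 1, [], []),
    (0, 0, [], [])]

/-- Derivation -/
def relOneSt : List (List DStep) :=
  [relOneSt0, relOneSt1, relOneSt2, relOneSt3, relOneSt4, relOneSt5]

/-- The letters as words. -/
def letW : List (List ℕ × List (ℕ × List ℕ)) :=
  [([4, 3, 0, 2, 0, 0, 2, 2, 0, 3], []),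
   ([4, 3, 2, 0, 0, 2, 2, 0, 0, 0, 3], []),
   ([4, 0, 3, 2, 0, 0, 0], []),
   ([4, 0, 1, 2, 3, 0, 2, 1, 3], []),
   ([4, 1, 0, 2, 1, 0, 2, 2], []),
   ([4, 1, 0, 2, 0, 2, 1, 1, 0], []),
   ([], [(1, [])]),
   ([], [(2, [])]),
   ([1, 0, 2, 2, 0, 0, 1, 2, 0], [(1, [1, 2, 3, 0, 2, 2, 2, 0, 2, 1, 2]), (2, [0, 1, 3, 0, 2, 0, 2, 0, 2, 3])]),
   ([2, 3, 0, 1, 2, 3, 0, 2, 1, 0], [(1, [0, 2, 0, 2, 0, 0, 2, 0, 2, 3]), (2, [0, 2, 2, 0, 2, 2, 1, 2, 0])]),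
   ([], [(1, [2, 0, 3, 0, 1, 2, 1, 0, 2, 0]), (2, [3, 0, 0, 2, 2, 0, 1, 2, 0, 0, 3])]),
   ([3, 0, 2, 0, 2, 1, 2, 0, 0, 3], [(1, [2, 0, 3, 0, 1, 2, 1, 0, 2, 0]), (2, [])])]

/-- The relators of the six generators. -/
def genRels : List (List ℕ) :=
  [[0, 0, 2, 0, 2, 2, 2, 4, 2, 1, 3, 3, 1, 5, 1, 1],
   [4, 0, 0, 2, 0, 2, 2, 0, 5, 3, 3, 3, 1, 3, 1, 1],
   [0, 0, 0, 0, 0, 0, 2, 0, 4, 1, 5, 3, 3, 1, 3, 1],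
   [0, 0, 2, 2, 4, 0, 0, 0, 3, 3, 3, 1, 5, 1, 1, 1],
   [4, 0, 0, 2, 0, 2, 2, 4, 1, 3, 3, 1, 3, 1, 1, 1],
   [0, 0, 0, 2, 0, 2, 2, 0, 4, 1, 3, 1, 3, 1, 1, 5],
   [0, 0, 2, 0, 2, 2, 2, 4, 0, 5, 3, 3, 3, 1, 3, 1],
   [2, 0, 2, 0, 2, 4, 0, 4, 3, 3, 1, 1, 1, 1, 1, 1],
   [0, 4, 0, 2, 0, 0, 0, 0, 3, 1, 5, 1, 1, 1, 1, 1],
   [0, 0, 2, 0, 2, 2, 0, 4, 3, 3, 3, 1, 5, 1, 1, 1],
   [2, 0, 0, 2, 0, 2, 2, 2, 1, 3, 3, 1, 3, 1, 1, 1],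
   [4, 4, 0, 0, 0, 3, 3, 3],
   [7, 1, 2, 6, 4, 0, 0, 6, 5, 3, 3],
   [7, 1, 3, 6, 4, 6, 1, 1, 5, 3, 5, 1],
   [7, 1, 3, 7, 0, 6, 2, 6, 3, 3, 3, 1, 3],
   [10, 0, 4, 0, 2, 0, 11, 3, 5, 3, 1, 1],
   [10, 0, 4, 0, 2, 0, 0, 2, 11, 5, 1, 1, 1, 1],
   [0, 4, 2, 2, 4, 2, 4, 0, 5, 3, 5, 3, 3, 5],
   [6, 2, 2, 4, 2, 0, 7, 1, 3, 5, 3, 3],
   [11, 6, 6, 0, 0, 6, 5, 3, 3, 3, 1, 3],
   [0, 0, 0, 0, 0, 0, 2, 2, 0, 3, 5, 3, 5, 3, 3, 1],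
   [7, 5, 10, 2, 0, 0, 6, 1, 5, 1, 5],
   [7, 0, 0, 6, 10, 5, 3, 5, 3, 3, 5],
   [7, 1, 1, 1, 2, 6, 4, 6, 5, 1, 1, 1, 1],
   [10, 0, 0, 0, 2, 0, 2, 11, 3, 1, 3, 3, 1, 1],
   [6, 0, 0, 2, 2, 7, 1, 1, 5, 3, 5, 3],
   [10, 4, 0, 4, 0, 11, 3, 3],
   [0, 2, 2, 2, 2, 1, 1, 1, 1, 1],
   [0, 0, 0, 4, 4, 2, 2, 1, 5, 3, 5, 1],
   [10, 4, 2, 11, 3, 5, 1, 1],
   [4, 2, 2, 4, 2, 4, 2, 2, 5, 3, 5, 5],
   [2, 2, 2, 0, 2, 0, 5, 3, 5, 3, 3, 1],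
   [4, 8, 4, 8],
   [4, 4, 0, 2, 2, 1, 1, 3],
   [10, 0, 0, 2, 2, 2, 0, 11, 3, 1, 3, 1, 1, 3],
   [6, 0, 0, 4, 2, 0, 7, 1, 5, 3, 5, 5],
   [2, 2, 0, 0, 3, 3, 1, 1],
   [9, 1, 3, 3, 9, 1, 3, 9, 1, 3, 6, 2, 0, 8, 2, 6, 8, 5, 5],
   [2, 4, 2, 4, 0, 2, 1, 1, 1, 3, 1, 3],
   [0, 0, 2, 0, 0, 2, 2, 0, 3, 1, 3, 1, 1, 1],
   [8, 0, 4, 2, 4, 0, 9, 3, 3, 3, 5, 1],
   [9, 5, 3, 1, 7, 3, 9, 6, 8, 2, 6, 8, 1, 1, 3, 1, 1, 5, 1],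
   [9, 3, 3, 8, 10, 1, 3, 1, 3, 1, 1],
   [7, 3, 9, 7, 8, 4, 6, 0, 6, 5, 3, 1, 1, 1],
   [0, 0, 0, 0, 0, 4, 4, 1, 3, 3, 3, 1],
   [2, 0, 0, 4, 3, 1, 5, 1],
   [7, 1, 1, 6, 10, 5, 3, 3, 3, 1, 3],
   [4, 4, 2, 0, 0, 3, 5, 1, 1, 5],
   [9, 1, 1, 1, 9, 3, 6, 8, 8, 0, 8, 3, 3, 5, 1, 1, 5]]

end Cfsg.Lib.CoThreeM12
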