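import Cfsg.Agent.Lib.CoThreeM12.Basic
import Cfsg.Agent.Lib.Fusion.Basic
import Cfsg.Agent.Lib.Kondo.Transfer

/-!
# The Sylow subgroup of the centraliser is not Sylow in the group

An element `n` normalising it exchanges `t` and `t * z`.
-/

set_option autoImplicit false
set_option linter.style.haveILetI false
set_option linter.unusedSectionVars false
set_option maxRecDepth 100000

namespace Cfsg.Lib.CoThreeM12

open Cfsg Cfsg.Lib.MTwelveRecog

universe u

namespace Setup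

variable {G : Type u} [Group G] (S : Setup G)

theorem z_sq : S.z * S.z = 1 := by
  rw [z, ← S.fmul, show cMul cT cT = (0 : Fin 192) by decide +kernel, S.fone]

theorem z_ne_one : S.z ≠ 1 := fun h => absurd (S.f_eq_one_iff.1 h) (by decide)

theorem a_sq : S.a * S.a = 1 := by
  rw [a, ← S.fmul, show cMul 55 55 = (0 : Fin 192) by decide +kernel, S.fone]

theorem tz_comm : S.t * S.z = S.z * S.t := (S.comm_f cT).symm

theorem t_ne_z : S.t ≠ S.z := fun h => S.ne_phi _ h.symm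

theorem t_ne_tz : S.t ≠ S.t * S.z := fun h => S.z_ne_one (mul_left_cancel (a := S.t) (by rw [mul_one, ← h]))

theorem a_mem_cen : S.a ∈ S.cen := ⟨55, cent_facts.2.1, Or.inl rfl⟩

theorem z_mem_cen : S.z ∈ S.cen := ⟨cT, cent_facts.2.2.1, Or.inl rfl⟩

theorem cen_comm {g : G} (hg : g ∈ S.cen) : g * S.t = S.t * g ∧ g * S.a = S.a * g := by
  obtain ⟨i, hi, h⟩ := hg
  rw [inCent, cCm, beq_iff_eq] at hi
  rcases h with rfl | rfl
  · exact ⟨S.comm_f i, by rw [a, ← S.fmul, ← hi, S.fmul]⟩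
  · refine ⟨by rw [mul_assoc, S.comm_f], ?_⟩
    rw [a, mul_assoc, ← S.fmul, ← hi, S.fmul, ← mul_assoc, ← S.comm_f, mul_assoc]

/-- A commutator of two elements of a doubled set. -/
theorem comm_dblSet {P : Fin 192 → Bool} {x y : G} (hx : x ∈ S.dblSet P) (hy : y ∈ S.dblSet P) :
    ∃ i j, P i = true ∧ P j = true ∧ x * y * x⁻¹ * y⁻¹ = S.f (cComm i j) := by
  obtain ⟨i, hi, hx⟩ := hx
  obtain ⟨j, hj, hy⟩ := hy
  refine ⟨i, j, hi, hj, ?_⟩
  rw [cComm, S.fmul, S.fmul, S.fmul, S.finv, S.finv]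
  have hti : Commute S.t (S.f i) := (S.comm_f i).symm
  have htj : Commute S.t (S.f j) := (S.comm_f j).symm
  have hA : ∀ u : G, Commute S.t u → S.t * u * S.t⁻¹ = u := fun u h => by rw [h.eq, mul_inv_cancel_right]
  rcases hx with rfl | rfl <;> rcases hy with rfl | rfl
  · rfl
  · rw [mul_inv_rev]
    calc S.f i * (S.t * S.f j) * (S.f i)⁻¹ * ((S.f j)⁻¹ * S.t⁻¹)
        = (S.f i * S.t) * (S.f j * (S.f i)⁻¹ * (S.f j)⁻¹) * S.t⁻¹ := by group
      _ = S.t * (S.f i * S.f j * (S.f i)⁻¹ * (S.f j)⁻¹) * S.t⁻¹ := by rw [S.comm_f]; group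
      _ = _ := hA _ (((hti.mul_right htj).mul_right hti.inv_right).mul_right htj.inv_right)
  · rw [mul_inv_rev]
    calc S.t * S.f i * S.f j * ((S.f i)⁻¹ * S.t⁻¹) * (S.f j)⁻¹
        = S.t * (S.f i * S.f j * (S.f i)⁻¹) * (S.t⁻¹ * (S.f j)⁻¹) := by group
      _ = S.t * (S.f i * S.f j * (S.f i)⁻¹) * ((S.f j)⁻¹ * S.t⁻¹) := by rw [htj.inv_inv.eq]
      _ = S.t * (S.f i * S.f j * (S.f i)⁻¹ * (S.f j)⁻¹) * S.t⁻¹ := by group
      _ = _ := hA _ (((hti.mul_right htj).mul_right hti.inv_right).mul_right htj.inv_right)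
  · rw [mul_inv_rev, mul_inv_rev]
    calc S.t * S.f i * (S.t * S.f j) * ((S.f i)⁻¹ * S.t⁻¹) * ((S.f j)⁻¹ * S.t⁻¹)
        = S.t * (S.f i * S.t) * (S.f j * ((S.f i)⁻¹ * S.t⁻¹) * (S.f j)⁻¹) * S.t⁻¹ := by group
      _ = S.t * (S.t * S.f i) * (S.f j * (S.t⁻¹ * (S.f i)⁻¹) * (S.f j)⁻¹) * S.t⁻¹ := by
          rw [S.comm_f, hti.inv_inv.eq]
      _ = S.t * (S.t * (S.f i * ((S.f j * S.t⁻¹) * (S.f i)⁻¹ * (S.f j)⁻¹))) * S.t⁻¹ := by group
      _ = S.t * (S.t * ((S.f i * S.t⁻¹) * (S.f j * (S.f i)⁻¹ * (S.f j)⁻¹))) * S.t⁻¹ := by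
          rw [← (htj.inv_left).eq]; group
      _ = S.t * (S.t * ((S.t⁻¹ * S.f i) * (S.f j * (S.f i)⁻¹ * (S.f j)⁻¹))) * S.t⁻¹ := by rw [hti.inv_left.eq]
      _ = S.t * (S.f i * S.f j * (S.f i)⁻¹ * (S.f j)⁻¹) * S.t⁻¹ := by group
      _ = _ := hA _ (((hti.mul_right htj).mul_right hti.inv_right).mul_right htj.inv_right)

theorem cent_comm_cases : ∀ i : Fin 192, inCent i = true → ∀ j : Fin 192, inCent j = true →
    cComm i j = 0 ∨ cComm i j = cT :=
  fun i hi j hj => b_comm i j hi hj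

theorem syl_central {i : Fin 192} (hi : inSyl i = true) (h : ∀ g ∈ S.syl, g * S.f i = S.f i * g) :
    i = 0 ∨ i = cT :=
  inSyl_facts.2.2.2.2.2 i hi fun j hj => S.f_injective (by
    rw [S.fmul, S.fmul, h _ (S.f_mem_syl hj)])

/-- The elements centralising the Sylow subgroup in it. -/
theorem center_cases {g : G} (hg : g ∈ S.syl) (h : ∀ x ∈ S.syl, x * g = g * x) :
    g = 1 ∨ g = S.z ∨ g = S.t ∨ g = S.t * S.z := by
  obtain ⟨i, hi, hg'⟩ := hg
  have hc : ∀ x ∈ S.syl, x * S.f i = S.f i * x := by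
    intro x hx
    rcases hg' with rfl | rfl
    · exact h x hx
    · refine mul_left_cancel (a := S.t) ?_
      rw [← mul_assoc, ← (S.syl_comm hx).1, mul_assoc, h x hx, mul_assoc]
  rcases S.syl_central hi hc with rfl | rfl <;> rcases hg' with rfl | rfl
  · exact Or.inl S.fone
  · exact Or.inr (Or.inr (Or.inl (by rw [S.fone, mul_one])))
  · exact Or.inr (Or.inl rfl)
  · exact Or.inr (Or.inr (Or.inr rfl))

theorem z_fixed {n : G} (hn : ∀ x ∈ S.syl, n * x * n⁻¹ ∈ S.syl) [Finite G] : n * S.z * n⁻¹ = S.z := by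
  obtain ⟨x, y, hx, hy, hxy⟩ := cent_facts.2.2.2.2.2
  obtain ⟨i, j, hi, hj, e⟩ := S.comm_dblSet (hn _ (S.f_mem_syl hx)) (hn _ (S.f_mem_syl hy))
  have hz : n * S.z * n⁻¹ = S.f (cComm i j) := by
    rw [← e, z, ← hxy, cComm, S.fmul, S.fmul, S.fmul, S.finv, S.finv]
    group
  have hsyl : inSyl (cComm i j) = true := by
    have h1 := inSyl_facts.2.2.1
    have h2 := inSyl_facts.2.2.2.1
    exact h1 _ _ (h1 _ _ (h1 _ _ hi hj) (h2 _ hi)) (h2 _ hj)
  have hc : ∀ g ∈ S.syl, g * S.f (cComm i j) = S.f (cComm i j) * g := by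
    intro g hg
    obtain ⟨g', hg', rfl⟩ : ∃ g' ∈ S.syl, g = n * g' * n⁻¹ := by
      have hinj : Set.InjOn (fun g => n * g * n⁻¹) (S.syl : Set G) :=
        fun a _ b _ h => mul_left_cancel (mul_right_cancel h)
      have himg : (fun g => n * g * n⁻¹) '' (S.syl : Set G) = (S.syl : Set G) := by
        refine Set.eq_of_subset_of_ncard_le ?_ ?_ (Set.toFinite _)
        · rintro _ ⟨g, hg, rfl⟩; exact hn g hg
        · rw [Set.InjOn.ncard_image hinj]
      obtain ⟨g', h1, h2⟩ := himg.ge hg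
      exact ⟨g', h1, h2.symm⟩
    rw [← hz, show n * g' * n⁻¹ * (n * S.z * n⁻¹) = n * (g' * S.z) * n⁻¹ by group, (S.syl_comm hg').2]
    group
  rcases S.syl_central hsyl hc with e' | e'
  · exfalso
    rw [e', S.fone, conj_eq_one_iff] at hz
    exact S.z_ne_one hz
  · rw [hz, e']; rfl

theorem conj_t_cases {n : G} (hn : ∀ x ∈ S.syl, n * x * n⁻¹ ∈ S.syl) [Finite G] :
    n * S.t * n⁻¹ = S.t ∨ n * S.t * n⁻¹ = S.t * S.z := by
  have hinj : Set.InjOn (fun g => n * g * n⁻¹) (S.syl : Set G) :=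
    fun a _ b _ h => mul_left_cancel (mul_right_cancel h)
  have himg : (fun g => n * g * n⁻¹) '' (S.syl : Set G) = (S.syl : Set G) := by
    refine Set.eq_of_subset_of_ncard_le ?_ ?_ (Set.toFinite _)
    · rintro _ ⟨g, hg, rfl⟩; exact hn g hg
    · rw [Set.InjOn.ncard_image hinj]
  have hc : ∀ x ∈ S.syl, x * (n * S.t * n⁻¹) = n * S.t * n⁻¹ * x := by
    intro x hx
    obtain ⟨x', hx', rfl⟩ := himg.ge hx
    show n * x' * n⁻¹ * (n * S.t * n⁻¹) = n * S.t * n⁻¹ * (n * x' * n⁻¹)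
    rw [show n * x' * n⁻¹ * (n * S.t * n⁻¹) = n * (x' * S.t) * n⁻¹ by group, (S.syl_comm hx').1]
    group
  rcases S.center_cases (hn _ S.t_mem_syl) hc with h | h | h | h
  · exact absurd (conj_eq_one_iff.1 h) S.t_ne_one
  · exact absurd (mul_left_cancel (mul_right_cancel (h.trans (S.z_fixed hn).symm))) S.t_ne_z
  · exact Or.inl h
  · exact Or.inr h

theorem sylow_normalizer_fix [Finite G] (P : Sylow 2 G) (hP : (P : Subgroup G) = S.syl) {n : G}
    (hn : n ∈ Subgroup.normalizer ((P : Subgroup G) : Set G)) : n * S.t * n⁻¹ = S.t := by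
  haveI : Fact (Nat.Prime 2) := ⟨Nat.prime_two⟩
  have hns : ∀ m : G, m ∈ Subgroup.normalizer ((P : Subgroup G) : Set G) → ∀ x ∈ S.syl, m * x * m⁻¹ ∈ S.syl :=
    fun m hm x hx => by
      rw [← hP] at hx ⊢
      exact (Subgroup.mem_normalizer_iff.1 hm x).1 hx
  rcases S.conj_t_cases (hns n hn) with h | h
  · exact h
  exfalso
  obtain ⟨k, m, hm, hord⟩ : ∃ k m, Odd m ∧ orderOf n = 2 ^ k * m := by
    refine ⟨(orderOf n).factorization 2, orderOf n / 2 ^ (orderOf n).factorization 2, ?_,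
      (Nat.mul_div_cancel' (Nat.ordProj_dvd _ 2)).symm⟩
    rw [Nat.odd_iff]
    have := Nat.not_dvd_ordCompl Nat.prime_two (orderOf_pos n).ne'
    omega
  have hz := S.z_fixed (hns n hn)
  have hpow : ∀ j : ℕ, n ^ j * S.t * (n ^ j)⁻¹ = if Even j then S.t else S.t * S.z := by
    intro j
    induction j with
    | zero => simp
    | succ j ih =>
      rw [pow_succ', show n * n ^ j * S.t * (n * n ^ j)⁻¹ = n * (n ^ j * S.t * (n ^ j)⁻¹) * n⁻¹ by group, ih]
      by_cases hj : Even j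
      · rw [if_pos hj, if_neg (by simp [Nat.even_add_one, hj]), h]
      · rw [if_neg hj, if_pos (by simp [Nat.even_add_one, hj]),
          show n * (S.t * S.z) * n⁻¹ = n * S.t * n⁻¹ * (n * S.z * n⁻¹) by group, h, hz, mul_assoc, S.z_sq,
          mul_one]
  have hnm : n ^ m ∈ Subgroup.normalizer ((P : Subgroup G) : Set G) := pow_mem hn m
  have hp : IsPGroup 2 (Subgroup.zpowers (n ^ m)) := by
    refine IsPGroup.of_card (n := k) ?_
    rw [Nat.card_zpowers, orderOf_pow' _ (by rcases hm with ⟨j, rfl⟩; omega), hord,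
      Nat.gcd_mul_left_left, Nat.mul_div_cancel _ (by rcases hm with ⟨j, rfl⟩; omega)]
  have hmem : n ^ m ∈ (P : Subgroup G) := by
    have := (hp.inf_normalizer_sylow P).le ⟨Subgroup.mem_zpowers _, hnm⟩
    exact this.2
  rw [hP] at hmem
  have e := hpow m
  rw [if_neg (Nat.not_even_iff_odd.2 hm), (S.syl_comm hmem).1, mul_inv_cancel_right] at e
  exact S.t_ne_tz e

/-- If the Sylow subgroup of the centraliser is Sylow, `t` fuses to neither `z` nor `t * z`. -/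
theorem not_fused [Finite G] (P : Sylow 2 G) (hP : (P : Subgroup G) = S.syl) :
    ¬ IsConj S.t S.z ∧ ¬ IsConj S.t (S.t * S.z) := by
  haveI : Fact (Nat.Prime 2) := ⟨Nat.prime_two⟩
  have key : ∀ v : G, v ∈ Subgroup.centralizer ((P : Subgroup G) : Set G) → IsConj S.t v → v = S.t := by
    intro v hv hc
    obtain ⟨g, hg⟩ := isConj_iff.1 hc
    have ht : S.t ∈ Subgroup.centralizer ((P : Subgroup G) : Set G) := Subgroup.mem_centralizer_iff.2 fun x hx => by
      rw [hP] at hx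
      exact (S.syl_comm hx).1
    obtain ⟨n, hn, e⟩ := Sylow.conj_eq_normalizer_conj_of_mem_centralizer P S.t g⁻¹ ht (by
      rwa [inv_inv, hg])
    rw [inv_inv, hg] at e
    have := S.sylow_normalizer_fix P hP (inv_mem hn)
    rw [inv_inv] at this
    exact e.trans this
  refine ⟨fun h => S.t_ne_z (key _ (Subgroup.mem_centralizer_iff.2 fun x hx => ?_) h).symm,
    fun h => S.t_ne_tz (key _ (Subgroup.mem_centralizer_iff.2 fun x hx => ?_) h).symm⟩ <;> rw [hP] at hx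
  · exact (S.syl_comm hx).2
  · rw [← mul_assoc, (S.syl_comm hx).1, mul_assoc, (S.syl_comm hx).2, mul_assoc]

theorem conj_a_cases {u : G} (hu : u * S.t = S.t * u) (hu2 : u * u = 1) (hut : u ≠ S.t) (hu1 : u ≠ 1) :
    ∃ m, S.φ m * u * (S.φ m)⁻¹ = S.z ∨ S.φ m * u * (S.φ m)⁻¹ = S.a ∨
      S.φ m * u * (S.φ m)⁻¹ = S.t * S.z ∨ S.φ m * u * (S.φ m)⁻¹ = S.t * S.a := by
  obtain ⟨x, rfl | rfl⟩ := S.mem u hu
  · have hx : x * x = 1 := S.inj (by rw [map_mul, hu2, map_one])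
    rcases S.phi_invol_cases hx (fun h => hu1 (by rw [h, map_one])) with ⟨m, hm⟩ | ⟨m, hm⟩
    · exact ⟨m, Or.inl hm⟩
    · exact ⟨m, Or.inr (Or.inl hm)⟩
  · have hx : x * x = 1 := S.inj (by rw [map_one, ← S.t_phi_sq, hu2])
    have hxe : ∀ m, S.φ m * (S.t * S.φ x) * (S.φ m)⁻¹ = S.t * (S.φ m * S.φ x * (S.φ m)⁻¹) := fun m => by
      rw [← mul_assoc, S.comm]; group
    rcases S.phi_invol_cases hx (fun h => hut (by rw [h, map_one, mul_one])) with ⟨m, hm⟩ | ⟨m, hm⟩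
    · exact ⟨m, Or.inr (Or.inr (Or.inl (by rw [hxe, hm])))⟩
    · exact ⟨m, Or.inr (Or.inr (Or.inr (by rw [hxe, hm])))⟩

/-- If `t` fuses to `a`, it fuses to `t * z`. -/
theorem isConj_tz_of_isConj_a [Finite G] (h : IsConj S.t S.a) : IsConj S.t (S.t * S.z) := by
  classical
  haveI : Fact (Nat.Prime 2) := ⟨Nat.prime_two⟩
  obtain ⟨g, hg⟩ := isConj_iff.1 h
  set u := g⁻¹ * S.t * g with hu
  have hta : S.t * S.a = S.a * S.t := (S.comm_f 55).symm
  have hga : g⁻¹ * S.a * g = S.t := by rw [← hg]; group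
  have huc : u * S.t = S.t * u := by
    have e1 : g⁻¹ * S.t * g * (g⁻¹ * S.a * g) = g⁻¹ * S.a * g * (g⁻¹ * S.t * g) := by
      rw [show g⁻¹ * S.t * g * (g⁻¹ * S.a * g) = g⁻¹ * (S.t * S.a) * g by group, hta]
      group
    rwa [hga, ← hu] at e1
  have hu2 : u * u = 1 := by
    rw [hu, show g⁻¹ * S.t * g * (g⁻¹ * S.t * g) = g⁻¹ * (S.t * S.t) * g by group, S.t_sq]; group
  have hut : u ≠ S.t := fun e => S.ne_phi (elM 55) (by
    have h2 : g * u * g⁻¹ = S.t := by rw [hu]; group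
    rw [e] at h2
    exact hg.symm.trans h2)
  have hu1 : u ≠ 1 := fun e => S.t_ne_one (by
    rw [hu] at e
    have : S.t = g * 1 * g⁻¹ := by rw [← e]; group
    simpa using this)
  -- a conjugate of `cen` centralises `t` and `u`
  have hcenU : ∀ x ∈ S.cen, g⁻¹ * x * g * S.t = S.t * (g⁻¹ * x * g) ∧ g⁻¹ * x * g * u = u * (g⁻¹ * x * g) := by
    intro x hx
    constructor
    · rw [← hga, show g⁻¹ * x * g * (g⁻¹ * S.a * g) = g⁻¹ * (x * S.a) * g by group, (S.cen_comm hx).2]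
      group
    · rw [hu, show g⁻¹ * x * g * (g⁻¹ * S.t * g) = g⁻¹ * (x * S.t) * g by group, (S.cen_comm hx).1]
      group
  obtain ⟨m, hm⟩ := S.conj_a_cases huc hu2 hut hu1
  set k := S.φ m * g⁻¹ with hk
  have hka : k * S.a * k⁻¹ = S.t := by
    rw [hk, show S.φ m * g⁻¹ * S.a * (S.φ m * g⁻¹)⁻¹ = S.φ m * (g⁻¹ * S.a * g) * (S.φ m)⁻¹ by group, hga,
      S.conj_phi_t]
  have hkt : k * S.t * k⁻¹ = S.φ m * u * (S.φ m)⁻¹ := by rw [hk, hu]; group
  rw [← hkt] at hm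
  -- exclude the central class by the size of its centraliser
  have hkta : k * S.t * k⁻¹ = S.a ∨ k * S.t * k⁻¹ = S.t * S.a := by
    by_contra hne
    have hv : k * S.t * k⁻¹ = S.z ∨ k * S.t * k⁻¹ = S.t * S.z := by tauto
    have hb : ∀ x ∈ S.syl, x * (k * S.t * k⁻¹) = k * S.t * k⁻¹ * x := by
      intro x hx
      rcases hv with e | e <;> rw [e]
      · exact (S.syl_comm hx).2
      · rw [← mul_assoc, (S.syl_comm hx).1, mul_assoc, (S.syl_comm hx).2, mul_assoc]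
    have hle := S.card_le_of_comm_a (H := S.syl.map (MulAut.conj k⁻¹).toMonoidHom) (S.isPGroup_syl.map _) (by
      rintro _ ⟨x, hx, rfl⟩
      refine ⟨?_, ?_⟩
      · show k⁻¹ * x * k⁻¹⁻¹ * S.t = S.t * (k⁻¹ * x * k⁻¹⁻¹)
        rw [inv_inv, show k⁻¹ * x * k * S.t = k⁻¹ * (x * (k * S.t * k⁻¹)) * k by group, hb x hx]
        group
      · show k⁻¹ * x * k⁻¹⁻¹ * S.a = S.a * (k⁻¹ * x * k⁻¹⁻¹)
        rw [inv_inv, show k⁻¹ * x * k * S.a = k⁻¹ * (x * (k * S.a * k⁻¹)) * k by group, hka, (S.syl_comm hx).1, ← hka]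
        group)
    rw [Subgroup.card_map_of_injective (MulAut.conj k⁻¹).injective, S.card_syl] at hle
    omega
  -- move the conjugate of `cen` back inside the common centraliser
  let W : Subgroup G := Subgroup.centralizer ({S.t, S.a} : Set G)
  have hW : ∀ x : G, x ∈ W ↔ x * S.t = S.t * x ∧ x * S.a = S.a * x := by
    intro x
    simp only [W, Subgroup.mem_centralizer_iff, Set.mem_insert_iff, Set.mem_singleton_iff, forall_eq_or_imp,
      forall_eq]
    exact ⟨fun h => ⟨h.1.symm, h.2.symm⟩, fun h => ⟨h.1.symm, h.2.symm⟩⟩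
  have hkW : ∀ x ∈ S.cen, k * x * k⁻¹ ∈ W := by
    intro x hx
    have h1 : k * x * k⁻¹ * S.t = S.t * (k * x * k⁻¹) := by
      rw [← hka, show k * x * k⁻¹ * (k * S.a * k⁻¹) = k * (x * S.a) * k⁻¹ by group, (S.cen_comm hx).2]
      group
    refine (hW _).2 ⟨h1, ?_⟩
    have h2 : k * x * k⁻¹ * (k * S.t * k⁻¹) = k * S.t * k⁻¹ * (k * x * k⁻¹) := by
      rw [show k * x * k⁻¹ * (k * S.t * k⁻¹) = k * (x * S.t) * k⁻¹ by group, (S.cen_comm hx).1]
      group
    rcases hkta with e | e <;> rw [e] at h2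
    · exact h2
    · refine mul_left_cancel (a := S.t) ?_
      rw [← mul_assoc, ← h1, mul_assoc, h2, mul_assoc]
  set R := S.cen with hR
  set R' := S.cen.map (MulAut.conj k).toMonoidHom with hR'
  have hR'W : R' ≤ W := by rintro _ ⟨x, hx, rfl⟩; exact hkW x hx
  have hRW : R ≤ W := fun x hx => (hW x).2 (S.cen_comm hx)
  have toSyl : ∀ K : Subgroup G, K ≤ W → IsPGroup 2 K → Nat.card K = 32 →
      ∃ Q : Sylow 2 W, (Q : Subgroup W) = K.subgroupOf W := by
    intro K hKW hK h32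
    obtain ⟨Q, hQ⟩ := (hK.of_equiv (Subgroup.subgroupOfEquivOfLe hKW).symm).exists_le_sylow
    refine ⟨Q, (Subgroup.eq_of_le_of_card_ge hQ ?_).symm⟩
    have := S.card_le_of_comm_a (H := (Q : Subgroup W).map W.subtype) (Q.isPGroup'.map _) (by
      rintro _ ⟨x, -, rfl⟩
      exact (hW _).1 x.2)
    rw [Subgroup.card_map_of_injective W.subtype_injective] at this
    rw [Nat.card_congr (Subgroup.subgroupOfEquivOfLe hKW).toEquiv, h32]
    exact this
  obtain ⟨Q, hQ⟩ := toSyl R hRW S.isPGroup_cen S.card_cen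
  obtain ⟨Q', hQ'⟩ := toSyl R' hR'W (S.isPGroup_cen.map _)
    (by rw [hR', Subgroup.card_map_of_injective (MulAut.conj k).injective, S.card_cen])
  obtain ⟨l, hl⟩ := MulAction.exists_smul_eq W Q' Q
  set n := (l : G) * k with hn
  have hnR : ∀ x ∈ S.cen, n * x * n⁻¹ ∈ S.cen := by
    intro x hx
    have h1 : (⟨k * x * k⁻¹, hkW x hx⟩ : W) ∈ (Q' : Subgroup W) := by
      rw [hQ', Subgroup.mem_subgroupOf]; exact ⟨x, hx, rfl⟩
    have h2 : l * ⟨k * x * k⁻¹, hkW x hx⟩ * l⁻¹ ∈ (Q : Subgroup W) := by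
      rw [← hl, Sylow.coe_subgroup_smul, Subgroup.mem_smul_pointwise_iff_exists]
      exact ⟨_, h1, rfl⟩
    rw [hQ, Subgroup.mem_subgroupOf] at h2
    have e : n * x * n⁻¹ = (l : G) * (k * x * k⁻¹) * (l : G)⁻¹ := by rw [hn]; group
    rw [e]
    exact h2
  have hl' := (hW l).1 l.2
  have hna : n * S.a * n⁻¹ = S.t := by
    rw [hn, show (l : G) * k * S.a * ((l : G) * k)⁻¹ = (l : G) * (k * S.a * k⁻¹) * (l : G)⁻¹ by group, hka,
      hl'.1, mul_inv_cancel_right]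
  obtain ⟨x, y, hx, hy, hxy⟩ := cent_facts.2.2.2.2.1
  obtain ⟨i, j, hi, hj, e⟩ := S.comm_dblSet (hnR _ ⟨x, hx, Or.inl rfl⟩) (hnR _ ⟨y, hy, Or.inl rfl⟩)
  have hz : n * S.z * n⁻¹ = S.f (cComm i j) := by
    rw [← e, z, ← hxy, cComm, S.fmul, S.fmul, S.fmul, S.finv, S.finv]
    group
  have hnz : n * S.z * n⁻¹ = S.z := by
    rcases cent_comm_cases i hi j hj with e' | e' <;> rw [e'] at hz
    · rw [S.fone, conj_eq_one_iff] at hz
      exact absurd hz S.z_ne_one
    · exact hz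
  obtain ⟨w, hw⟩ := cent_facts.2.2.2.1
  have haz : IsConj S.a (S.a * S.z) := isConj_iff.2 ⟨S.f w, by
    rw [a, z, ← S.fconj, hw, S.fmul]⟩
  have h1 : IsConj (S.a * S.z) (S.t * S.z) := isConj_iff.2 ⟨n, by
    rw [show n * (S.a * S.z) * n⁻¹ = n * S.a * n⁻¹ * (n * S.z * n⁻¹) by group, hna, hnz]⟩
  exact h.trans (haz.trans h1)

/-- Transfer: if the Sylow subgroup of the centraliser is Sylow, `t` fuses into the copy of M12. -/
theorem fused_into_phi [Finite G] (hres : S.t ∈ Cfsg.pResidual 2 G) (P : Sylow 2 G)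
    (hP : (P : Subgroup G) = S.syl) : ∃ g : G, ∃ x, g * S.t * g⁻¹ = S.φ x := by
  classical
  haveI : Fact (Nat.Prime 2) := ⟨Nat.prime_two⟩
  haveI := Fintype.ofFinite (G ⧸ (P : Subgroup G))
  have hle : (P : Subgroup G) ≤ Subgroup.centralizer ({S.t} : Set G) := fun x hx => by
    rw [hP] at hx
    exact Subgroup.mem_centralizer_singleton_iff.2 (S.syl_comm hx).1
  let χ : (P : Subgroup G) →* ℤˣ := S.sgnHom.comp (Subgroup.inclusion hle)
  by_contra hcon
  push Not at hcon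
  have hV := Cfsg.Agent.Kondo.transfer_involution χ S.t S.t_sq (fun _ => -1) fun c _ hm => by
    symm
    obtain ⟨x, hx | hx⟩ := S.mem _ (Subgroup.mem_centralizer_singleton_iff.1 (hle hm))
    · exact absurd (by rw [inv_inv]; exact hx) (hcon c.out⁻¹ x)
    · exact S.sgn_tphi (x := x) hx
  have h1 : MonoidHom.transfer χ S.t = 1 := MonoidHom.mem_ker.1
    (Cfsg.Lib.Fusion.pResidual_le_ker (IsPGroup.of_card (p := 2) (n := 1)
      (by rw [Nat.card_eq_fintype_card, Fintype.card_units_int, pow_one])) _ hres)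
  rw [h1, Finset.prod_const] at hV
  have hodd : Odd (Finset.univ.filter fun c : G ⧸ (P : Subgroup G) => S.t • c = c).card := by
    have hz2 : IsPGroup 2 (Subgroup.zpowers S.t) := IsPGroup.of_card (n := 1) (by
      rw [Nat.card_zpowers, orderOf_eq_prime (by rw [sq, S.t_sq]) S.t_ne_one, pow_one])
    have hmod := hz2.card_modEq_card_fixedPoints (G ⧸ (P : Subgroup G))
    have hfix : MulAction.fixedPoints (Subgroup.zpowers S.t) (G ⧸ (P : Subgroup G)) =
        {c | S.t • c = c} := by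
      ext c
      refine ⟨fun h => h ⟨S.t, Subgroup.mem_zpowers _⟩, fun h => ?_⟩
      rintro ⟨_, j, rfl⟩
      show (S.t ^ j) • c = c
      have hst : S.t ∈ MulAction.stabilizer G c := h
      exact zpow_mem hst j
    rw [hfix, Nat.card_coe_set_eq, ← Subgroup.index_eq_card] at hmod
    have hni : ¬ 2 ∣ (P : Subgroup G).index := P.not_dvd_index
    rw [Nat.ModEq, Nat.two_dvd_ne_zero.1 hni] at hmod
    rw [Nat.odd_iff, hmod, ← Set.ncard_coe_finset]
    congr 2
    simp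
  rw [Odd.neg_one_pow hodd] at hV
  exact absurd hV (by decide)

/-- **The Sylow subgroup of the centraliser is not Sylow.** -/
theorem not_sylow [Finite G] (hres : S.t ∈ Cfsg.pResidual 2 G) (P : Sylow 2 G) :
    (P : Subgroup G) ≠ S.syl := by
  intro hP
  obtain ⟨hz, htz⟩ := S.not_fused P hP
  obtain ⟨g, x, hg⟩ := S.fused_into_phi hres P hP
  have hx : x * x = 1 := S.inj (by
    rw [map_mul, ← hg, show g * S.t * g⁻¹ * (g * S.t * g⁻¹) = g * (S.t * S.t) * g⁻¹ by group, S.t_sq, map_one]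
    group)
  have hx1 : x ≠ 1 := fun e => by
    rw [e, map_one, conj_eq_one_iff] at hg
    exact S.t_ne_one hg
  have hc : IsConj S.t (S.φ x) := isConj_iff.2 ⟨g, hg⟩
  rcases S.phi_invol_cases hx hx1 with ⟨m, hm⟩ | ⟨m, hm⟩
  · exact hz (hc.trans (isConj_iff.2 ⟨_, hm⟩))
  · exact htz (S.isConj_tz_of_isConj_a (hc.trans (isConj_iff.2 ⟨_, hm⟩)))

/-- The larger 2-subgroup normalising the Sylow subgroup of the centraliser. -/
theorem exists_mover [Finite G] (hres : S.t ∈ Cfsg.pResidual 2 G) :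
    ∃ n : G, n * S.t * n⁻¹ = S.t * S.z ∧ n * S.z * n⁻¹ = S.z ∧
      256 ∣ Nat.card (Subgroup.centralizer ({S.z} : Set G)) := by
  classical
  haveI : Fact (Nat.Prime 2) := ⟨Nat.prime_two⟩
  obtain ⟨P, hP⟩ := S.isPGroup_syl.exists_le_sylow
  set K := S.syl.subgroupOf (P : Subgroup G) with hK
  have hKne : K ≠ ⊤ := fun h => S.not_sylow hres P (le_antisymm (Subgroup.subgroupOf_eq_top.1 h) hP)
  have hlt : K < Subgroup.normalizer (K : Set (P : Subgroup G)) := by
    haveI := P.isPGroup'.isNilpotent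
    exact Group.normalizerCondition_of_isNilpotent K (lt_top_iff_ne_top.2 hKne)
  obtain ⟨n, hn, hnK⟩ := SetLike.exists_of_lt hlt
  have hnorm : ∀ g ∈ S.syl, (n : G) * g * (n : G)⁻¹ ∈ S.syl := fun g hg =>
    Subgroup.mem_subgroupOf.1 ((Subgroup.mem_normalizer_iff.1 hn ⟨g, hP hg⟩).1 (Subgroup.mem_subgroupOf.2 hg))
  have hz := S.z_fixed hnorm
  rcases S.conj_t_cases hnorm with h | h
  · exfalso
    have hle : S.syl ⊔ Subgroup.zpowers (n : G) ≤ (P : Subgroup G) ⊓ Subgroup.centralizer ({S.t} : Set G) := by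
      refine sup_le (le_inf hP fun x hx => Subgroup.mem_centralizer_singleton_iff.2 (S.syl_comm hx).1) ?_
      rw [Subgroup.zpowers_le]
      exact ⟨n.2, Subgroup.mem_centralizer_singleton_iff.2 (mul_inv_eq_iff_eq_mul.1 h)⟩
    have hb := S.card_le_of_comm_t (P.isPGroup'.to_le (hle.trans inf_le_left)) fun g hg =>
      Subgroup.mem_centralizer_singleton_iff.1 (hle hg).2
    have hss : S.syl < S.syl ⊔ Subgroup.zpowers (n : G) := lt_of_le_of_ne le_sup_left fun e =>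
      hnK (Subgroup.mem_subgroupOf.2 (e ▸ Subgroup.mem_sup_right (Subgroup.mem_zpowers _)))
    have := Set.ncard_lt_ncard (show (S.syl : Set G) ⊂ _ from hss) (Set.toFinite _)
    rw [← Nat.card_coe_set_eq, ← Nat.card_coe_set_eq] at this
    simp only [SetLike.coe_sort_coe, S.card_syl] at this
    omega
  · refine ⟨n, h, hz, ?_⟩
    set L := (P : Subgroup G) ⊓ Subgroup.centralizer ({S.z} : Set G) with hL
    obtain ⟨j, hj⟩ := IsPGroup.iff_card.1 (P.isPGroup'.to_le (inf_le_left : L ≤ _))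
    have hsub : S.syl ≤ L := le_inf hP fun x hx => Subgroup.mem_centralizer_singleton_iff.2 (S.syl_comm hx).2
    have hss : S.syl < L := lt_of_le_of_ne hsub fun e =>
      hnK (Subgroup.mem_subgroupOf.2 (e ▸ ⟨n.2, Subgroup.mem_centralizer_singleton_iff.2 (mul_inv_eq_iff_eq_mul.1 hz)⟩))
    have := Set.ncard_lt_ncard (show (S.syl : Set G) ⊂ _ from hss) (Set.toFinite _)
    rw [← Nat.card_coe_set_eq, ← Nat.card_coe_set_eq] at this
    simp only [SetLike.coe_sort_coe] at this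
    rw [S.card_syl, hj] at this
    have hj8 : 8 ≤ j := by
      by_contra hlt'
      have := Nat.pow_le_pow_right (show 1 ≤ 2 by norm_num) (show j ≤ 7 by omega)
      omega
    have h1 := (pow_dvd_pow 2 hj8).trans (hj ▸ Subgroup.card_dvd_of_le (inf_le_right : L ≤ _))
    exact h1

end Setup

end Cfsg.Lib.CoThreeM12
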