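import Cfsg.Agent.Lib.CoThreeM12.CzWord
import Cfsg.Agent.Lib.CoThreeM12.Fusion

/-!
# The rewriting steps and their soundness
-/

set_option autoImplicit false
set_option maxRecDepth 100000

namespace Cfsg.Lib.CoThreeM12

open Cfsg
open Cfsg.Lib.MTwelveRecog (stdTwelve stdGen el)

universe u

/-- A normal word: a code and pairs of an exponent and a code. -/
abbrev NWord := ℕ × List (ℕ × ℕ)

/-- The code of a word of letters. -/
def wordC : List ℕ → ℕ
  | [] => oneC
  | k :: w => mulC (letC k) (wordC w)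

/-- The codes of the six elements generating the common centraliser, and of their images under `g ^ e`. -/
def kerC : ℕ → ℕ → ℕ
  | 1, 0 => codeP false (el 55)
  | 1, 1 => codeP true (el 55)
  | 2, 0 => codeP true (el 55)
  | 2, 1 => codeP true 1
  | _, 0 => codeP true 1
  | _, 1 => codeP false (el 55)
  | _, 2 => codeP false (el Cfsg.Lib.MTwelveRecog.cT)
  | _, 3 => codeP false (el 44)
  | _, 4 => codeP false (fiveM : Equiv.Perm (Fin 12))
  | _, 5 => codeP true (el 166)
  | _, _ => oneC

/-- The code of a word in these elements. -/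
def kerW (e : ℕ) : List ℕ → ℕ
  | [] => oneC
  | k :: w => mulC (kerC e k) (kerW e w)

/-- Apply an operation at a position of a normal word. -/
def atPos : ℕ → (ℕ → List (ℕ × ℕ) → Option NWord) → NWord → Option NWord
  | 0, f, s => f s.1 s.2
  | _ + 1, _, (_, []) => none
  | k + 1, f, (c, (e, d) :: L) => (atPos k f (d, L)).map fun r => (c, (e, r.1) :: r.2)

/-- An elementary operation: drop, merge, pad, split, slide, insert a relator. -/
def opAt (rels : List (List (ℕ × ℕ))) (kind arg : ℕ) (w w' : List ℕ) (c : ℕ) (L : List (ℕ × ℕ)) :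
    Option NWord :=
  match kind, L with
  | 0, (0, d) :: L => some (mulC c d, L)
  | 1, (e, d) :: (f, d') :: L => bif Nat.beq d oneC then some (c, ((e + f) % 3, d') :: L) else none
  | 2, L => bif Nat.beq (mulC (wordC w) (wordC w')) oneC then some (mulC c (wordC w), (0, wordC w') :: L) else none
  | 3, (f, d) :: L => bif Nat.ble arg 3 then some (c, (arg, oneC) :: ((f + 3 - arg) % 3, d) :: L) else none
  | 4, (e, d) :: L =>
    bif (Nat.beq e 1 || Nat.beq e 2) && Nat.beq (mulC (kerW 0 w) (kerW 0 w')) oneC then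
      some (mulC c (kerW e w), (e, mulC (kerW 0 w') d) :: L)
    else none
  | 5, L =>
    bif Nat.blt arg rels.length && Nat.beq (mulC (wordC w) (wordC w')) oneC then
      some (mulC c (wordC w), rels.getD arg [] ++ (0, wordC w') :: L)
    else none
  | _, _ => none

/-- A step: position, kind and argument, two words. -/
abbrev DStep := ℕ × ℕ × List ℕ × List ℕ

/-- Run a list of steps. -/
def runD (rels : List (List (ℕ × ℕ))) : List DStep → NWord → Option NWord
  | [], s => some s
  | (p, k, w, w') :: r, s => match atPos p (opAt rels (k % 8) (k / 8) w w') s with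
    | some s' => runD rels r s'
    | none => none

/-- A normal word from words of letters. -/
def wordN (w : List ℕ) (L : List (ℕ × List ℕ)) : NWord := (wordC w, L.map fun p => (p.1, wordC p.2))

/-- The steps turn the word into the identity. -/
def derives (rels : List (List (ℕ × ℕ))) (st : List DStep) (s : NWord) : Bool :=
  match runD rels st s with
  | some (c, []) => Nat.beq c oneC
  | _ => false

namespace Setup

variable {G : Type u} [Group G] (S : Setup G)

/-- The value of the tail of a normal word. -/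
noncomputable def tlv (g : G) : List (ℕ × ℕ) → G
  | [] => 1
  | (e, d) :: L => g ^ e * S.cv d * tlv g L

/-- The value of a normal word. -/
noncomputable def nv (g : G) (s : NWord) : G := S.cv s.1 * S.tlv g s.2

end Setup

/-- All codes of a tail belong to the centraliser. -/
def GoodTl (L : List (ℕ × ℕ)) : Prop := ∀ p ∈ L, Setup.IsCode p.2

/-- All codes of a word belong to the centraliser. -/
def GoodW (s : NWord) : Prop := Setup.IsCode s.1 ∧ GoodTl s.2

theorem isCode_let (k : ℕ) : Setup.IsCode (letC k) := by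
  have h : ∀ k : Fin 4, letC k = codeP false (stdGen k) := by decide +kernel
  have h4 : letC 4 = codeP true 1 := by decide +kernel
  match k with
  | 0 => exact ⟨false, ⟨_, Cfsg.Lib.MTwelveRecog.stdGen_mem 0⟩, h 0⟩
  | 1 => exact ⟨false, ⟨_, Cfsg.Lib.MTwelveRecog.stdGen_mem 1⟩, h 1⟩
  | 2 => exact ⟨false, ⟨_, Cfsg.Lib.MTwelveRecog.stdGen_mem 2⟩, h 2⟩
  | 3 => exact ⟨false, ⟨_, Cfsg.Lib.MTwelveRecog.stdGen_mem 3⟩, h 3⟩
  | 4 => exact ⟨true, 1, h4⟩
  | _ + 5 => exact Setup.isCode_one

theorem isCode_ker (e k : ℕ) : Setup.IsCode (kerC e k) := by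
  have key : ∀ (b : Bool) (x : stdTwelve) (y : Equiv.Perm (Fin 12)), (x : Equiv.Perm (Fin 12)) = y →
      Setup.IsCode (codeP b y) := fun b x y h => ⟨b, x, by rw [h]⟩
  unfold kerC
  split
  · exact key _ (elM 55) _ rfl
  · exact key _ (elM 55) _ rfl
  · exact key _ (elM 55) _ rfl
  · exact key _ 1 _ rfl
  · exact key _ 1 _ rfl
  · exact key _ (elM 55) _ rfl
  · exact key _ (elM _) _ rfl
  · exact key _ (elM 44) _ rfl
  · exact key _ fiveM _ rfl
  · exact key _ (elM 166) _ rfl
  · exact Setup.isCode_one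

namespace Setup

variable {G : Type u} [Group G] (S : Setup G)

theorem wordC_good : ∀ w : List ℕ, IsCode (wordC w)
  | [] => isCode_one
  | k :: w => isCode_mulC (isCode_let k) (wordC_good w)

theorem kerW_good (e : ℕ) : ∀ w : List ℕ, IsCode (kerW e w)
  | [] => isCode_one
  | k :: w => isCode_mulC (isCode_ker e k) (kerW_good e w)

theorem tlv_append (g : G) : ∀ A B : List (ℕ × ℕ), S.tlv g (A ++ B) = S.tlv g A * S.tlv g B
  | [], B => (one_mul _).symm
  | (e, d) :: A, B => by rw [List.cons_append, tlv, tlv, tlv_append g A B]; group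

theorem atPos_sound (g : G) {f : ℕ → List (ℕ × ℕ) → Option NWord}
    (hf : ∀ c L r, GoodW (c, L) → f c L = some r → GoodW r ∧ S.nv g r = S.nv g (c, L)) :
    ∀ (k : ℕ) (s r : NWord), GoodW s → atPos k f s = some r → GoodW r ∧ S.nv g r = S.nv g s
  | 0, (c, L), r, hs, h => hf c L r hs h
  | k + 1, (c, []), r, _, h => by simp [atPos] at h
  | k + 1, (c, (e, d) :: L), r, ⟨hc, hL⟩, h => by
    simp only [atPos, Option.map_eq_some_iff] at h
    obtain ⟨r', hr', rfl⟩ := h
    have hd : GoodW (d, L) := ⟨hL _ (List.mem_cons_self ..), fun p hp => hL p (List.mem_cons_of_mem _ hp)⟩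
    obtain ⟨⟨g1, g2⟩, hv⟩ := atPos_sound g hf k (d, L) r' hd hr'
    refine ⟨⟨hc, fun p hp => ?_⟩, ?_⟩
    · rcases List.mem_cons.1 hp with rfl | hp
      exacts [g1, g2 p hp]
    · simp only [nv, tlv] at hv ⊢
      rw [mul_assoc (g ^ e), hv]
      group

end Setup

namespace Trans0

variable {G : Type u} [Group G] {S : Setup G} (T : Trans0 S)

theorem pow_mod (n : ℕ) : T.g ^ (n % 3) = T.g ^ n := by
  conv_rhs => rw [← Nat.div_add_mod n 3, pow_add, pow_mul,
    show T.g ^ 3 = 1 by rw [pow_succ, pow_two, T.cube], one_pow, one_mul]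

theorem g_ker {e k : ℕ} (he : e = 1 ∨ e = 2) : T.g ^ e * S.cv (kerC 0 k) = S.cv (kerC e k) * T.g ^ e := by
  have ht : S.cv (codeP true (1 : Equiv.Perm (Fin 12))) = S.t := by
    have h := S.cv_codeP true 1
    rw [map_one, mul_one] at h
    exact h
  have hf : ∀ i : Fin 192, S.cv (codeP false (el i)) = S.f i := fun i => by
    have h := S.cv_codeP false (elM i)
    rw [Setup.tb, if_neg Bool.false_ne_true, one_mul] at h
    exact h
  have htf : ∀ i : Fin 192, S.cv (codeP true (el i)) = S.t * S.f i := fun i => S.cv_codeP true (elM i)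
  have h5 : S.cv (codeP false (fiveM : Equiv.Perm (Fin 12))) = S.φ fiveM := by
    have h := S.cv_codeP false fiveM
    rwa [Setup.tb, if_neg Bool.false_ne_true, one_mul] at h
  have hat : S.t * S.a = S.a * S.t := (S.comm_f 55).symm
  have g_t : T.g * S.t = S.a * T.g := mul_inv_eq_iff_eq_mul.1 T.g_t
  have g_a : T.g * S.a = S.t * S.a * T.g := mul_inv_eq_iff_eq_mul.1 T.g_a
  have two_t : T.g ^ 2 * S.t = S.t * S.a * T.g ^ 2 := by
    rw [pow_two, mul_assoc, g_t, ← mul_assoc, g_a, mul_assoc]
  have two_a : T.g ^ 2 * S.a = S.t * T.g ^ 2 := by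
    rw [pow_two, mul_assoc, g_a, ← mul_assoc, ← mul_assoc, g_t, mul_assoc S.a, g_a, ← mul_assoc, ← mul_assoc,
      hat.symm, mul_assoc S.t, S.a_sq, mul_one, mul_assoc]
  have comm : ∀ {x : G}, Commute T.g x → T.g ^ e * x = x * T.g ^ e := fun h => (h.pow_left e).eq
  match k with
  | 0 =>
    rcases he with rfl | rfl
    · simp only [kerC, pow_one]; rw [ht, hf]; exact g_t
    · simp only [kerC]; rw [ht, htf]; exact two_t
  | 1 =>
    rcases he with rfl | rfl
    · simp only [kerC, pow_one]; rw [hf, htf]; exact g_a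
    · simp only [kerC]; rw [hf, ht]; exact two_a
  | 2 => simp only [kerC]; rw [hf]; exact comm T.g_z
  | 3 => simp only [kerC]; rw [hf]; exact comm T.g_f44
  | 4 => simp only [kerC]; rw [h5]; exact comm T.g_five
  | 5 => simp only [kerC]; rw [htf]; exact comm T.g_tau
  | _ + 6 => simp only [kerC]; rw [S.cv_one, mul_one, one_mul]

theorem g_kerW {e : ℕ} (he : e = 1 ∨ e = 2) : ∀ w : List ℕ,
    T.g ^ e * S.cv (kerW 0 w) = S.cv (kerW e w) * T.g ^ e
  | [] => by simp only [kerW]; rw [S.cv_one, mul_one, one_mul]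
  | k :: w => by
    simp only [kerW]
    rw [(S.cv_mulC (isCode_ker 0 k) (Setup.kerW_good 0 w)).2, (S.cv_mulC (isCode_ker e k) (Setup.kerW_good e w)).2,
      ← mul_assoc, T.g_ker he, mul_assoc, g_kerW he w, mul_assoc]

/-- The relators are trivial. -/
def RelsOK (rels : List (List (ℕ × ℕ))) : Prop := ∀ R ∈ rels, GoodTl R ∧ S.tlv T.g R = 1

theorem opAt_sound {rels : List (List (ℕ × ℕ))} (hR : T.RelsOK rels) (kind arg : ℕ) (w w' : List ℕ) :
    ∀ c L r, GoodW (c, L) → opAt rels kind arg w w' c L = some r → GoodW r ∧ S.nv T.g r = S.nv T.g (c, L) := by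
  rintro c L r ⟨hc, hL⟩ h
  have hw := Setup.wordC_good w
  have hw' := Setup.wordC_good w'
  have mono : ∀ {p : ℕ × ℕ} {M : List (ℕ × ℕ)}, GoodTl (p :: M) → Setup.IsCode p.2 ∧ GoodTl M := fun h =>
    ⟨h _ (List.mem_cons_self ..), fun q hq => h q (List.mem_cons_of_mem _ hq)⟩
  have cons : ∀ {p : ℕ × ℕ} {M : List (ℕ × ℕ)}, Setup.IsCode p.2 → GoodTl M → GoodTl (p :: M) := fun h h' q hq => by
    rcases List.mem_cons.1 hq with rfl | hq
    exacts [h, h' q hq]
  unfold opAt at h
  split at h
  · next d M =>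
    obtain ⟨hd, hM⟩ := mono hL
    cases h
    obtain ⟨g1, v1⟩ := S.cv_mulC hc hd
    exact ⟨⟨g1, hM⟩, by simp only [Setup.nv, Setup.tlv, v1, pow_zero]; group⟩
  · next e d f d' M =>
    obtain ⟨-, hM⟩ := mono hL
    obtain ⟨hd', hM⟩ := mono hM
    cases hb : Nat.beq d oneC <;> rw [hb] at h
    · simp at h
    · cases h
      have hd1 : d = oneC := Nat.eq_of_beq_eq_true hb
      refine ⟨⟨hc, cons hd' hM⟩, ?_⟩
      simp only [Setup.nv, Setup.tlv, T.pow_mod, pow_add, hd1, S.cv_one, mul_one, mul_assoc]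
  · cases hb : Nat.beq (mulC (wordC w) (wordC w')) oneC <;> rw [hb] at h
    · simp at h
    · cases h
      obtain ⟨g1, v1⟩ := S.cv_mulC hc hw
      refine ⟨⟨g1, cons hw' hL⟩, ?_⟩
      simp only [Setup.nv, Setup.tlv, v1, pow_zero, one_mul, S.cv_inv hw hw' (Nat.eq_of_beq_eq_true hb)]
      group
  · next f d M =>
    obtain ⟨hd, hM⟩ := mono hL
    cases hb : Nat.ble arg 3 <;> rw [hb] at h
    · simp at h
    · cases h
      refine ⟨⟨hc, cons Setup.isCode_one (cons hd hM)⟩, ?_⟩
      have ha : arg ≤ 3 := Nat.le_of_ble_eq_true hb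
      have e : T.g ^ arg * T.g ^ ((f + 3 - arg) % 3) = T.g ^ f := by
        rw [T.pow_mod, ← pow_add, show arg + (f + 3 - arg) = f + 3 by omega, pow_add, pow_succ (n := 2), pow_two,
          T.cube, mul_one]
      simp only [Setup.nv, Setup.tlv, S.cv_one, mul_one]
      rw [← e]
      group
  · next e d M =>
    obtain ⟨hd, hM⟩ := mono hL
    cases hb : (Nat.beq e 1 || Nat.beq e 2) && Nat.beq (mulC (kerW 0 w) (kerW 0 w')) oneC <;> rw [hb] at h
    · simp at h
    · cases h
      simp only [Bool.and_eq_true, Bool.or_eq_true] at hb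
      have he : e = 1 ∨ e = 2 := hb.1.imp Nat.eq_of_beq_eq_true Nat.eq_of_beq_eq_true
      obtain ⟨g1, v1⟩ := S.cv_mulC hc (Setup.kerW_good e w)
      obtain ⟨g2, v2⟩ := S.cv_mulC (Setup.kerW_good 0 w') hd
      refine ⟨⟨g1, cons g2 hM⟩, ?_⟩
      have hk := T.g_kerW he w
      simp only [Setup.nv, Setup.tlv, v1, v2,
        S.cv_inv (Setup.kerW_good 0 w) (Setup.kerW_good 0 w') (Nat.eq_of_beq_eq_true hb.2)]
      rw [show S.cv c * S.cv (kerW e w) * (T.g ^ e * ((S.cv (kerW 0 w))⁻¹ * S.cv d) * S.tlv T.g M) =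
        S.cv c * (S.cv (kerW e w) * T.g ^ e) * (S.cv (kerW 0 w))⁻¹ * (S.cv d * S.tlv T.g M) by group, ← hk]
      group
  · cases hb : Nat.blt arg rels.length && Nat.beq (mulC (wordC w) (wordC w')) oneC <;> rw [hb] at h
    · simp at h
    · cases h
      simp only [Bool.and_eq_true, Nat.blt_eq] at hb
      obtain ⟨gR, vR⟩ := hR _ (List.getD_eq_getElem rels [] hb.1 ▸ List.getElem_mem hb.1)
      obtain ⟨g1, v1⟩ := S.cv_mulC hc hw
      refine ⟨⟨g1, fun q hq => ?_⟩, ?_⟩
      · rcases List.mem_append.1 hq with hq | hq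
        exacts [gR q hq, cons hw' hL q hq]
      · simp only [Setup.nv, S.tlv_append, Setup.tlv, v1, vR, pow_zero, one_mul,
          S.cv_inv hw hw' (Nat.eq_of_beq_eq_true hb.2)]
        group
  · simp at h

theorem runD_sound {rels : List (List (ℕ × ℕ))} (hR : T.RelsOK rels) :
    ∀ (st : List DStep) (s r : NWord), GoodW s → runD rels st s = some r → GoodW r ∧ S.nv T.g r = S.nv T.g s
  | [], s, r, hs, h => by cases h; exact ⟨hs, rfl⟩
  | (p, k, w, w') :: st, s, r, hs, h => by
    simp only [runD] at h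
    split at h
    · next s' e =>
      obtain ⟨hs', hv⟩ := S.atPos_sound T.g (T.opAt_sound hR _ _ w w') p s s' hs e
      obtain ⟨hr, hv'⟩ := runD_sound hR st s' r hs' h
      exact ⟨hr, hv'.trans hv⟩
    · simp at h

theorem wordN_good (w : List ℕ) (L : List (ℕ × List ℕ)) : GoodW (wordN w L) := ⟨Setup.wordC_good w, fun p hp => by
  obtain ⟨q, -, rfl⟩ := List.mem_map.1 hp
  exact Setup.wordC_good q.2⟩

/-- A checked derivation gives a relation in the group. -/
theorem derives_sound {rels : List (List (ℕ × ℕ))} (hR : T.RelsOK rels) {st : List DStep} {s : NWord}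
    (hs : GoodW s) (h : derives rels st s = true) : S.nv T.g s = 1 := by
  unfold derives at h
  split at h
  · next c e =>
    obtain ⟨-, hv⟩ := T.runD_sound hR st s _ hs e
    rw [← hv, Setup.nv, Setup.tlv, Nat.eq_of_beq_eq_true h, S.cv_one, mul_one]
  · simp at h

end Trans0

end Cfsg.Lib.CoThreeM12
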