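import Cfsg.Agent.Lib.CoThreeM12.CzDerive

/-!
# Data: derivations of the relators of the six generators

The letters of the six generators of the part of the centraliser of `z` are given as normal words, a letter `2k` for
the `k`th, `2k + 1` for its inverse.
-/

set_option autoImplicit false
set_option maxRecDepth 100000
set_option linter.style.longLine false

namespace Cfsg.Lib.CoThreeM12

/-- Derivation 0 -/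
def invSt0 : List DStep :=
  []

/-- Derivation 1 -/
def invSt1 : List DStep :=
  []

/-- Derivation 2 -/
def invSt2 : List DStep :=
  []

/-- Derivation 3 -/
def invSt3 : List DStep :=
  [(0, 1, [], []),
    (0, 0, [], [])]

/-- Derivation 4 -/
def invSt4 : List DStep :=
  [(1, 1, [], []),
    (1, 0, [], []),
    (0, 1, [], []),
    (0, 0, [], [])]

/-- Derivation 5 -/
def invSt5 : List DStep :=
  [(1, 1, [], []),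
    (1, 0, [], []),
    (0, 1, [], []),
    (0, 0, [], [])]

/-- Derivation -/
def invSt : List (List DStep) :=
  [invSt0, invSt1, invSt2, invSt3, invSt4, invSt5]

/-- Derivation 0 -/
def commSt0 : List DStep :=
  []

/-- Derivation 1 -/
def commSt1 : List DStep :=
  []

/-- Derivation 2 -/
def commSt2 : List DStep :=
  []

/-- Derivation 3 -/
def commSt3 : List DStep :=
  [(0, 4, [2], [2]),
    (0, 1, [], []),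
    (0, 0, [], [])]

/-- Derivation 4 -/
def commSt4 : List DStep :=
  [(0, 2, [1, 1, 3, 0], [0, 1, 0, 0, 0, 3]),
    (0, 19, [], []),
    (1, 4, [4, 3, 5, 4], [4, 3, 5, 4]),
    (2, 4, [1, 4, 4, 2], [1, 2, 4, 4, 4]),
    (1, 93, [2, 0, 3, 0, 1, 2, 1, 0, 2, 0], [2, 0, 3, 0, 1, 2, 1, 0, 2, 0]),
    (4, 0, [], []),
    (3, 1, [], []),
    (3, 0, [], []),
    (2, 1, [], []),
    (2, 0, [], []),
    (1, 4, [4, 3, 5, 4], [4, 3, 5, 4]),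
    (2, 4, [3, 4, 5], [5, 3, 4]),
    (1, 69, [2, 0, 3, 0, 1, 2, 1, 0, 2, 0], [2, 0, 3, 0, 1, 2, 1, 0, 2, 0]),
    (4, 0, [], []),
    (3, 1, [], []),
    (3, 0, [], []),
    (2, 1, [], []),
    (2, 0, [], []),
    (1, 4, [4, 2, 3, 4, 4], [2, 4, 3, 5, 4, 5]),
    (2, 4, [0, 3, 5, 4], [0, 3, 4, 2, 5]),
    (1, 93, [2, 0, 3, 0, 1, 2, 1, 0, 2, 0], [2, 0, 3, 0, 1, 2, 1, 0, 2, 0]),
    (4, 0, [], []),
    (3, 1, [], []),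
    (3, 0, [], []),
    (2, 1, [], []),
    (2, 0, [], []),
    (0, 4, [1, 2, 4, 2, 3, 4, 4], [1, 4, 4, 2, 3, 4]),
    (0, 1, [], []),
    (0, 4, [0, 3, 4, 5, 4], [0, 2, 5, 4, 2]),
    (0, 1, [], []),
    (0, 0, [], [])]

/-- Derivation 5 -/
def commSt5 : List DStep :=
  [(1, 4, [2], [2]),
    (1, 1, [], []),
    (1, 0, [], []),
    (0, 4, [2], [2]),
    (0, 1, [], []),
    (0, 0, [], [])]

/-- Derivation -/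
def commSt : List (List DStep) :=
  [commSt0, commSt1, commSt2, commSt3, commSt4, commSt5]

/-- Derivation 0 -/
def genSt0 : List DStep :=
  []

/-- Derivation 1 -/
def genSt1 : List DStep :=
  []

/-- Derivation 2 -/
def genSt2 : List DStep :=
  []

/-- Derivation 3 -/
def genSt3 : List DStep :=
  []

/-- Derivation 4 -/
def genSt4 : List DStep :=
  []

/-- Derivation 5 -/
def genSt5 : List DStep :=
  []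

/-- Derivation 6 -/
def genSt6 : List DStep :=
  []

/-- Derivation 7 -/
def genSt7 : List DStep :=
  []

/-- Derivation 8 -/
def genSt8 : List DStep :=
  []

/-- Derivation 9 -/
def genSt9 : List DStep :=
  []

/-- Derivation 10 -/
def genSt10 : List DStep :=
  []

/-- Derivation 11 -/
def genSt11 : List DStep :=
  []

/-- Derivation 12 -/
def genSt12 : List DStep :=
  [(1, 4, [0, 3], [0, 3]),
    (0, 13, [0, 2, 2, 3, 2, 0, 2, 2, 1], [1, 0, 2, 1, 0, 3, 0, 2, 1, 0]),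
    (3, 0, [], []),
    (2, 1, [], []),
    (2, 0, [], []),
    (1, 1, [], []),
    (1, 0, [], []),
    (0, 4, [0, 1, 2, 5], [0, 1, 2, 5]),
    (0, 1, [], []),
    (0, 0, [], [])]

/-- Derivation 13 -/
def genSt13 : List DStep :=
  [(0, 4, [3], [3]),
    (1, 4, [2], [2]),
    (0, 13, [0, 2, 2, 3, 2, 0, 2, 2, 1], [1, 0, 2, 1, 0, 3, 0, 2, 1, 0]),
    (3, 0, [], []),
    (2, 1, [], []),
    (2, 0, [], []),
    (1, 1, [], []),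
    (1, 0, [], []),
    (0, 4, [0, 1, 2, 3], [0, 1, 2, 3]),
    (0, 1, [], []),
    (0, 0, [], [])]

/-- Derivation 14 -/
def genSt14 : List DStep :=
  [(0, 4, [3], [3]),
    (1, 4, [2], [2]),
    (0, 53, [1, 0, 2, 1, 0, 3, 0, 2, 1, 0], [0, 2, 2, 3, 2, 0, 2, 2, 1]),
    (3, 0, [], []),
    (2, 1, [], []),
    (2, 0, [], []),
    (1, 1, [], []),
    (1, 0, [], []),
    (0, 4, [4, 3, 5, 4], [4, 3, 5, 4]),
    (1, 4, [0, 1, 4, 3, 5, 4], [0, 1, 4, 3, 5, 4]),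
    (0, 93, [2, 0, 3, 0, 1, 2, 1, 0, 2, 0], [2, 0, 3, 0, 1, 2, 1, 0, 2, 0]),
    (3, 0, [], []),
    (2, 1, [], []),
    (2, 0, [], []),
    (1, 1, [], []),
    (1, 0, [], []),
    (0, 4, [0, 1, 2, 4, 4, 2, 3, 4], [0, 1, 4, 2, 4, 4, 4]),
    (0, 1, [], []),
    (0, 0, [], [])]

/-- Derivation 15 -/
def genSt15 : List DStep :=
  [(2, 4, [5, 3], [3, 5]),
    (1, 37, [0, 2, 2, 3, 2, 0, 2, 2, 1], [1, 0, 2, 1, 0, 3, 0, 2, 1, 0]),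
    (4, 0, [], []),
    (3, 1, [], []),
    (3, 0, [], []),
    (2, 1, [], []),
    (2, 0, [], []),
    (0, 4, [3], [3]),
    (1, 4, [2, 3], [2, 3]),
    (0, 5, [1, 0, 2, 1, 0, 3, 0, 2, 1, 0], [0, 2, 2, 3, 2, 0, 2, 2, 1]),
    (3, 0, [], []),
    (2, 1, [], []),
    (2, 0, [], []),
    (1, 1, [], []),
    (1, 0, [], []),
    (0, 4, [5], [5]),
    (0, 1, [], []),
    (0, 0, [], [])]

/-- Derivation 16 -/
def genSt16 : List DStep :=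
  [(1, 4, [3], [3]),
    (2, 4, [1], [1]),
    (1, 13, [0, 2, 2, 3, 2, 0, 2, 2, 1], [1, 0, 2, 1, 0, 3, 0, 2, 1, 0]),
    (4, 0, [], []),
    (3, 1, [], []),
    (3, 0, [], []),
    (2, 1, [], []),
    (2, 0, [], []),
    (1, 4, [2, 3], [2, 3]),
    (0, 29, [0, 2, 2, 3, 2, 0, 2, 2, 1], [1, 0, 2, 1, 0, 3, 0, 2, 1, 0]),
    (3, 0, [], []),
    (2, 1, [], []),
    (2, 0, [], []),
    (1, 1, [], []),
    (1, 0, [], []),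
    (0, 4, [1, 2, 3], [1, 2, 3]),
    (0, 1, [], []),
    (0, 0, [], [])]

/-- Derivation 17 -/
def genSt17 : List DStep :=
  []

/-- Derivation 18 -/
def genSt18 : List DStep :=
  [(0, 4, [5, 3], [3, 5]),
    (0, 1, [], []),
    (0, 0, [], [])]

/-- Derivation 19 -/
def genSt19 : List DStep :=
  [(1, 1, [], []),
    (1, 0, [], []),
    (0, 93, [2, 0, 3, 0, 1, 2, 1, 0, 2, 0], [2, 0, 3, 0, 1, 2, 1, 0, 2, 0]),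
    (3, 0, [], []),
    (2, 1, [], []),
    (2, 0, [], []),
    (1, 1, [], []),
    (1, 0, [], []),
    (0, 4, [0, 5, 3], [0, 3, 5]),
    (0, 1, [], []),
    (0, 0, [], [])]

/-- Derivation 20 -/
def genSt20 : List DStep :=
  []

/-- Derivation 21 -/
def genSt21 : List DStep :=
  [(0, 4, [3], [3]),
    (1, 4, [0, 5], [0, 5]),
    (0, 37, [0, 2, 2, 3, 2, 0, 2, 2, 1], [1, 0, 2, 1, 0, 3, 0, 2, 1, 0]),
    (3, 0, [], []),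
    (2, 1, [], []),
    (2, 0, [], []),
    (1, 1, [], []),
    (1, 0, [], []),
    (0, 4, [3], [3]),
    (1, 4, [1, 3, 5], [1, 5, 3]),
    (0, 21, [1, 0, 2, 1, 0, 3, 0, 2, 1, 0], [0, 2, 2, 3, 2, 0, 2, 2, 1]),
    (3, 0, [], []),
    (2, 1, [], []),
    (2, 0, [], []),
    (1, 1, [], []),
    (1, 0, [], []),
    (0, 4, [0, 5], [0, 5]),
    (0, 1, [], []),
    (0, 0, [], [])]

/-- Derivation 22 -/
def genSt22 : List DStep :=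
  [(1, 1, [], []),
    (1, 4, [1, 3, 5], [1, 5, 3]),
    (0, 69, [2, 0, 3, 0, 1, 2, 1, 0, 2, 0], [2, 0, 3, 0, 1, 2, 1, 0, 2, 0]),
    (3, 0, [], []),
    (2, 1, [], []),
    (2, 0, [], []),
    (1, 1, [], []),
    (1, 0, [], []),
    (0, 4, [1, 3, 5], [1, 5, 3]),
    (0, 1, [], []),
    (0, 0, [], [])]

/-- Derivation 23 -/
def genSt23 : List DStep :=
  [(1, 4, [0, 1, 2, 5], [0, 1, 2, 5]),
    (0, 13, [0, 2, 2, 3, 2, 0, 2, 2, 1], [1, 0, 2, 1, 0, 3, 0, 2, 1, 0]),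
    (3, 0, [], []),
    (2, 1, [], []),
    (2, 0, [], []),
    (1, 1, [], []),
    (1, 0, [], []),
    (0, 4, [0, 2, 3], [0, 2, 3]),
    (0, 1, [], []),
    (0, 0, [], [])]

/-- Derivation 24 -/
def genSt24 : List DStep :=
  [(1, 4, [3], [3]),
    (2, 4, [1, 3, 5], [1, 5, 3]),
    (1, 13, [0, 2, 2, 3, 2, 0, 2, 2, 1], [1, 0, 2, 1, 0, 3, 0, 2, 1, 0]),
    (4, 0, [], []),
    (3, 1, [], []),
    (3, 0, [], []),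
    (2, 1, [], []),
    (2, 0, [], []),
    (1, 4, [2, 3], [2, 3]),
    (0, 29, [0, 2, 2, 3, 2, 0, 2, 2, 1], [1, 0, 2, 1, 0, 3, 0, 2, 1, 0]),
    (3, 0, [], []),
    (2, 1, [], []),
    (2, 0, [], []),
    (1, 1, [], []),
    (1, 0, [], []),
    (0, 4, [1, 5], [1, 5]),
    (0, 1, [], []),
    (0, 0, [], [])]

/-- Derivation 25 -/
def genSt25 : List DStep :=
  [(0, 4, [0, 1, 5], [0, 1, 5]),
    (0, 1, [], []),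
    (0, 0, [], [])]

/-- Derivation 26 -/
def genSt26 : List DStep :=
  [(0, 2, [0, 1, 2, 3, 0, 2, 2, 1], [0, 1, 2, 3, 0, 2, 2, 3, 2]),
    (0, 19, [], []),
    (1, 4, [4, 2, 3, 4, 4], [2, 4, 3, 5, 4, 5]),
    (2, 4, [0, 1, 4, 3, 5, 4, 2], [0, 1, 2, 4, 3, 5, 4]),
    (1, 93, [2, 0, 3, 0, 1, 2, 1, 0, 2, 0], [2, 0, 3, 0, 1, 2, 1, 0, 2, 0]),
    (4, 0, [], []),
    (3, 1, [], []),
    (3, 0, [], []),
    (2, 1, [], []),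
    (2, 0, [], []),
    (1, 4, [4, 2, 3, 4, 4], [2, 4, 3, 5, 4, 5]),
    (2, 4, [1, 2, 4, 4, 5, 3, 4], [1, 4, 5, 4, 4, 4]),
    (1, 69, [2, 0, 3, 0, 1, 2, 1, 0, 2, 0], [2, 0, 3, 0, 1, 2, 1, 0, 2, 0]),
    (4, 0, [], []),
    (3, 1, [], []),
    (3, 0, [], []),
    (2, 1, [], []),
    (2, 0, [], []),
    (1, 4, [4, 3, 5, 4], [4, 3, 5, 4]),
    (2, 4, [0, 4, 4, 2, 3, 4], [0, 2, 4, 2, 3, 4, 4]),
    (1, 93, [2, 0, 3, 0, 1, 2, 1, 0, 2, 0], [2, 0, 3, 0, 1, 2, 1, 0, 2, 0]),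
    (4, 0, [], []),
    (3, 1, [], []),
    (3, 0, [], []),
    (2, 1, [], []),
    (2, 0, [], []),
    (0, 4, [4, 3, 5, 4], [4, 3, 5, 4]),
    (1, 4, [2, 4, 4, 2, 3, 4], [4, 2, 4, 4, 4]),
    (0, 69, [2, 0, 3, 0, 1, 2, 1, 0, 2, 0], [2, 0, 3, 0, 1, 2, 1, 0, 2, 0]),
    (3, 0, [], []),
    (2, 1, [], []),
    (2, 0, [], []),
    (1, 1, [], []),
    (1, 0, [], []),
    (0, 4, [0, 1, 4, 3, 5, 4, 5], [0, 1, 5, 4, 3, 5, 4]),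
    (0, 1, [], []),
    (0, 0, [], [])]

/-- Derivation 27 -/
def genSt27 : List DStep :=
  []

/-- Derivation 28 -/
def genSt28 : List DStep :=
  []

/-- Derivation 29 -/
def genSt29 : List DStep :=
  [(0, 2, [0, 1, 2, 3, 0, 2, 2, 1], [0, 1, 2, 3, 0, 2, 2, 3, 2]),
    (0, 19, [], []),
    (1, 4, [4, 2, 3, 4, 4], [2, 4, 3, 5, 4, 5]),
    (2, 4, [0, 1, 4, 3, 5, 4, 2], [0, 1, 2, 4, 3, 5, 4]),
    (1, 93, [2, 0, 3, 0, 1, 2, 1, 0, 2, 0], [2, 0, 3, 0, 1, 2, 1, 0, 2, 0]),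
    (4, 0, [], []),
    (3, 1, [], []),
    (3, 0, [], []),
    (2, 1, [], []),
    (2, 0, [], []),
    (1, 4, [4, 2, 3, 4, 4], [2, 4, 3, 5, 4, 5]),
    (2, 4, [1, 2, 4, 4, 5, 3, 4], [1, 4, 5, 4, 4, 4]),
    (1, 69, [2, 0, 3, 0, 1, 2, 1, 0, 2, 0], [2, 0, 3, 0, 1, 2, 1, 0, 2, 0]),
    (4, 0, [], []),
    (3, 1, [], []),
    (3, 0, [], []),
    (2, 1, [], []),
    (2, 0, [], []),
    (1, 4, [2, 4, 3], [4, 2, 3]),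
    (2, 4, [4, 4, 5, 3], [2, 4, 4, 3, 5]),
    (1, 61, [0, 2, 2, 3, 2, 0, 2, 2, 1], [1, 0, 2, 1, 0, 3, 0, 2, 1, 0]),
    (4, 0, [], []),
    (3, 1, [], []),
    (3, 0, [], []),
    (2, 1, [], []),
    (2, 0, [], []),
    (1, 4, [1, 2, 5, 4, 4], [1, 4, 5, 4, 4]),
    (0, 53, [1, 0, 2, 1, 0, 3, 0, 2, 1, 0], [0, 2, 2, 3, 2, 0, 2, 2, 1]),
    (3, 0, [], []),
    (2, 1, [], []),
    (2, 0, [], []),
    (1, 1, [], []),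
    (1, 0, [], []),
    (0, 4, [0, 1, 2, 5], [0, 1, 2, 5]),
    (0, 1, [], []),
    (0, 0, [], [])]

/-- Derivation 30 -/
def genSt30 : List DStep :=
  []

/-- Derivation 31 -/
def genSt31 : List DStep :=
  []

/-- Derivation 32 -/
def genSt32 : List DStep :=
  [(0, 2, [1, 1, 3, 0], [0, 1, 0, 0, 0, 3]),
    (0, 19, [], []),
    (1, 4, [4, 3, 5, 4], [4, 3, 5, 4]),
    (2, 4, [1, 4, 4, 2], [1, 2, 4, 4, 4]),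
    (1, 93, [2, 0, 3, 0, 1, 2, 1, 0, 2, 0], [2, 0, 3, 0, 1, 2, 1, 0, 2, 0]),
    (4, 0, [], []),
    (3, 1, [], []),
    (3, 0, [], []),
    (2, 1, [], []),
    (2, 0, [], []),
    (1, 4, [4, 3, 5, 4], [4, 3, 5, 4]),
    (2, 4, [3, 4, 5], [5, 3, 4]),
    (1, 69, [2, 0, 3, 0, 1, 2, 1, 0, 2, 0], [2, 0, 3, 0, 1, 2, 1, 0, 2, 0]),
    (4, 0, [], []),
    (3, 1, [], []),
    (3, 0, [], []),
    (2, 1, [], []),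
    (2, 0, [], []),
    (1, 4, [4, 3, 5, 4], [4, 3, 5, 4]),
    (2, 4, [0, 1, 4, 4], [0, 1, 4, 4, 4]),
    (1, 93, [2, 0, 3, 0, 1, 2, 1, 0, 2, 0], [2, 0, 3, 0, 1, 2, 1, 0, 2, 0]),
    (4, 0, [], []),
    (3, 1, [], []),
    (3, 0, [], []),
    (2, 1, [], []),
    (2, 0, [], []),
    (1, 4, [2, 4, 3, 5, 4], [4, 3, 5, 4, 2]),
    (0, 69, [2, 0, 3, 0, 1, 2, 1, 0, 2, 0], [2, 0, 3, 0, 1, 2, 1, 0, 2, 0]),
    (3, 0, [], []),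
    (2, 1, [], []),
    (2, 0, [], []),
    (1, 1, [], []),
    (1, 0, [], []),
    (0, 4, [0, 3, 5, 4], [0, 3, 4, 2, 5]),
    (0, 1, [], []),
    (0, 0, [], [])]

/-- Derivation 33 -/
def genSt33 : List DStep :=
  []

/-- Derivation 34 -/
def genSt34 : List DStep :=
  [(2, 4, [0], [0]),
    (1, 13, [0, 2, 2, 3, 2, 0, 2, 2, 1], [1, 0, 2, 1, 0, 3, 0, 2, 1, 0]),
    (4, 0, [], []),
    (3, 1, [], []),
    (3, 0, [], []),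
    (2, 1, [], []),
    (2, 0, [], []),
    (0, 4, [3], [3]),
    (1, 4, [2, 3], [2, 3]),
    (0, 29, [0, 2, 2, 3, 2, 0, 2, 2, 1], [1, 0, 2, 1, 0, 3, 0, 2, 1, 0]),
    (3, 0, [], []),
    (2, 1, [], []),
    (2, 0, [], []),
    (1, 1, [], []),
    (1, 0, [], []),
    (0, 4, [0, 3], [0, 3]),
    (0, 1, [], []),
    (0, 0, [], [])]

/-- Derivation 35 -/
def genSt35 : List DStep :=
  [(0, 4, [0, 1, 2, 3], [0, 1, 2, 3]),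
    (0, 1, [], []),
    (0, 0, [], [])]

/-- Derivation 36 -/
def genSt36 : List DStep :=
  []

/-- Derivation 37 -/
def genSt37 : List DStep :=
  [(5, 2, [2, 3, 0, 2, 1, 0, 0, 1], [0, 2, 0, 1, 2, 1, 0, 3]),
    (5, 19, [], []),
    (6, 4, [2, 4, 3], [4, 2, 3]),
    (7, 4, [3, 4, 3], [4]),
    (6, 29, [0, 2, 2, 3, 2, 0, 2, 2, 1], [1, 0, 2, 1, 0, 3, 0, 2, 1, 0]),
    (9, 0, [], []),
    (8, 1, [], []),
    (8, 0, [], []),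
    (7, 1, [], []),
    (7, 0, [], []),
    (6, 4, [3, 4, 4], [3, 4, 4]),
    (7, 4, [2, 3, 4, 4], [3, 4, 4, 2]),
    (6, 93, [2, 0, 3, 0, 1, 2, 1, 0, 2, 0], [2, 0, 3, 0, 1, 2, 1, 0, 2, 0]),
    (9, 0, [], []),
    (8, 1, [], []),
    (8, 0, [], []),
    (7, 1, [], []),
    (7, 0, [], []),
    (6, 4, [2, 4], [2, 4, 2, 4]),
    (7, 4, [4, 3], [4, 3]),
    (6, 13, [0, 2, 2, 3, 2, 0, 2, 2, 1], [1, 0, 2, 1, 0, 3, 0, 2, 1, 0]),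
    (9, 0, [], []),
    (8, 1, [], []),
    (8, 0, [], []),
    (7, 1, [], []),
    (7, 0, [], []),
    (9, 2, [2, 0, 0, 2, 1, 0, 1, 3, 0], [0, 1, 2, 0, 2, 2, 1, 0, 2, 3]),
    (9, 11, [], []),
    (10, 4, [2, 4], [2, 4, 2, 4]),
    (11, 4, [1, 4, 3, 5, 4], [1, 4, 3, 5, 4]),
    (10, 13, [0, 2, 2, 3, 2, 0, 2, 2, 1], [1, 0, 2, 1, 0, 3, 0, 2, 1, 0]),
    (13, 0, [], []),
    (12, 1, [], []),
    (12, 0, [], []),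
    (11, 1, [], []),
    (11, 0, [], []),
    (10, 4, [3, 4], [3, 4]),
    (11, 4, [0, 1, 2, 3, 4, 2, 5], [0, 1, 3, 5, 4, 2]),
    (10, 45, [1, 0, 2, 1, 0, 3, 0, 2, 1, 0], [0, 2, 2, 3, 2, 0, 2, 2, 1]),
    (13, 0, [], []),
    (12, 1, [], []),
    (12, 0, [], []),
    (11, 1, [], []),
    (11, 0, [], []),
    (8, 2, [2, 3, 0, 2, 1, 0, 0, 1], [0, 2, 0, 1, 2, 1, 0, 3]),
    (8, 11, [], []),
    (9, 4, [2, 4, 3], [4, 2, 3]),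
    (10, 4, [3, 4, 3], [4]),
    (9, 13, [0, 2, 2, 3, 2, 0, 2, 2, 1], [1, 0, 2, 1, 0, 3, 0, 2, 1, 0]),
    (12, 0, [], []),
    (11, 1, [], []),
    (11, 0, [], []),
    (10, 1, [], []),
    (10, 0, [], []),
    (9, 4, [4, 3], [4, 3]),
    (10, 4, [1, 4, 5, 3, 4], [1, 2, 4, 4, 5]),
    (9, 37, [0, 2, 2, 3, 2, 0, 2, 2, 1], [1, 0, 2, 1, 0, 3, 0, 2, 1, 0]),
    (12, 0, [], []),
    (11, 1, [], []),
    (11, 0, [], []),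
    (10, 1, [], []),
    (10, 0, [], []),
    (9, 4, [3], [3]),
    (10, 4, [0, 1, 5, 4, 4], [0, 1, 4, 4, 4, 5]),
    (9, 21, [1, 0, 2, 1, 0, 3, 0, 2, 1, 0], [0, 2, 2, 3, 2, 0, 2, 2, 1]),
    (12, 0, [], []),
    (11, 1, [], []),
    (11, 0, [], []),
    (10, 1, [], []),
    (10, 0, [], []),
    (6, 2, [2, 0, 3, 0, 1, 2, 1, 0, 2, 0], [2, 0, 3, 0, 1, 2, 1, 0, 2, 0]),
    (6, 11, [], []),
    (8, 4, [2], [2]),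
    (7, 69, [2, 0, 3, 0, 1, 2, 1, 0, 2, 0], [2, 0, 3, 0, 1, 2, 1, 0, 2, 0]),
    (10, 0, [], []),
    (9, 1, [], []),
    (9, 0, [], []),
    (8, 1, [], []),
    (8, 0, [], []),
    (7, 4, [3, 4], [3, 4]),
    (8, 4, [2, 4, 4, 2, 3, 4], [4, 2, 4, 4, 4]),
    (7, 21, [1, 0, 2, 1, 0, 3, 0, 2, 1, 0], [0, 2, 2, 3, 2, 0, 2, 2, 1]),
    (10, 0, [], []),
    (9, 1, [], []),
    (9, 0, [], []),
    (8, 1, [], []),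
    (8, 0, [], []),
    (7, 2, [2, 1, 0, 1, 2, 0, 3, 2], [0, 1, 2, 2, 3, 0, 3, 0, 2, 3, 0]),
    (7, 11, [], []),
    (9, 4, [0, 5, 4, 2, 3], [0, 2, 4, 3, 5]),
    (8, 53, [1, 0, 2, 1, 0, 3, 0, 2, 1, 0], [0, 2, 2, 3, 2, 0, 2, 2, 1]),
    (11, 0, [], []),
    (10, 1, [], []),
    (10, 0, [], []),
    (9, 1, [], []),
    (9, 0, [], []),
    (8, 4, [5, 4], [3, 4, 3, 5]),
    (9, 4, [0, 4, 2], [0, 2, 3, 4, 3]),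
    (8, 93, [2, 0, 3, 0, 1, 2, 1, 0, 2, 0], [2, 0, 3, 0, 1, 2, 1, 0, 2, 0]),
    (11, 0, [], []),
    (10, 1, [], []),
    (10, 0, [], []),
    (9, 1, [], []),
    (9, 0, [], []),
    (6, 2, [0, 1, 0, 3, 0, 2, 3, 0, 0, 2], [0, 0, 2, 2, 0, 0, 2, 3, 2, 0]),
    (6, 11, [], []),
    (8, 4, [0, 2, 5, 4, 5], [0, 3, 5, 4, 5, 4]),
    (7, 37, [0, 2, 2, 3, 2, 0, 2, 2, 1], [1, 0, 2, 1, 0, 3, 0, 2, 1, 0]),
    (10, 0, [], []),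
    (9, 1, [], []),
    (9, 0, [], []),
    (8, 1, [], []),
    (8, 0, [], []),
    (7, 4, [2, 5, 4], [3, 4, 5, 3]),
    (8, 4, [0, 5, 4, 5, 3], [0, 4, 2, 4, 4]),
    (7, 93, [2, 0, 3, 0, 1, 2, 1, 0, 2, 0], [2, 0, 3, 0, 1, 2, 1, 0, 2, 0]),
    (10, 0, [], []),
    (9, 1, [], []),
    (9, 0, [], []),
    (8, 1, [], []),
    (8, 0, [], []),
    (7, 4, [2, 5, 4, 3], [4, 5, 3]),
    (8, 4, [0, 2, 3, 4, 3], [0, 4, 2]),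
    (7, 53, [1, 0, 2, 1, 0, 3, 0, 2, 1, 0], [0, 2, 2, 3, 2, 0, 2, 2, 1]),
    (10, 0, [], []),
    (9, 1, [], []),
    (9, 0, [], []),
    (8, 1, [], []),
    (8, 0, [], []),
    (5, 2, [2, 1, 0, 1, 2, 0, 3, 2], [0, 1, 2, 2, 3, 0, 3, 0, 2, 3, 0]),
    (5, 19, [], []),
    (7, 4, [0, 5, 4, 2, 3], [0, 2, 4, 3, 5]),
    (6, 29, [0, 2, 2, 3, 2, 0, 2, 2, 1], [1, 0, 2, 1, 0, 3, 0, 2, 1, 0]),
    (9, 0, [], []),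
    (8, 1, [], []),
    (8, 0, [], []),
    (7, 1, [], []),
    (7, 0, [], []),
    (6, 4, [4], [3, 4, 3]),
    (7, 4, [0, 4, 2, 5, 4, 5], [0, 3, 5, 4, 5]),
    (6, 93, [2, 0, 3, 0, 1, 2, 1, 0, 2, 0], [2, 0, 3, 0, 1, 2, 1, 0, 2, 0]),
    (9, 0, [], []),
    (8, 1, [], []),
    (8, 0, [], []),
    (7, 1, [], []),
    (7, 0, [], []),
    (4, 2, [0, 3, 0, 2, 2, 0, 1, 0, 0, 3, 2], [0, 1, 1, 3, 0, 0, 2, 2]),
    (4, 19, [], []),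
    (5, 4, [4, 3, 5, 4], [4, 3, 5, 4]),
    (6, 4, [0, 2, 4, 4, 5, 3], [0, 2, 4, 4, 5, 3]),
    (5, 93, [2, 0, 3, 0, 1, 2, 1, 0, 2, 0], [2, 0, 3, 0, 1, 2, 1, 0, 2, 0]),
    (8, 0, [], []),
    (7, 1, [], []),
    (7, 0, [], []),
    (6, 1, [], []),
    (6, 0, [], []),
    (5, 4, [2, 3, 4], [3, 4, 2]),
    (6, 4, [4, 3], [4, 3]),
    (5, 69, [2, 0, 3, 0, 1, 2, 1, 0, 2, 0], [2, 0, 3, 0, 1, 2, 1, 0, 2, 0]),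
    (8, 0, [], []),
    (7, 1, [], []),
    (7, 0, [], []),
    (6, 1, [], []),
    (6, 0, [], []),
    (5, 4, [2, 4, 3], [4, 2, 3]),
    (6, 4, [1, 3, 4, 3, 5], [1, 5, 4]),
    (5, 21, [1, 0, 2, 1, 0, 3, 0, 2, 1, 0], [0, 2, 2, 3, 2, 0, 2, 2, 1]),
    (8, 0, [], []),
    (7, 1, [], []),
    (7, 0, [], []),
    (6, 1, [], []),
    (6, 0, [], []),
    (2, 2, [0, 2, 2, 0, 2, 0, 3, 0, 0], [3, 0, 0, 3, 0, 2, 0, 1]),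
    (2, 11, [], []),
    (3, 4, [2, 3, 4], [3, 4, 2]),
    (4, 4, [0, 3, 5, 4, 2, 5], [0, 3, 5, 4, 2, 5]),
    (3, 13, [0, 2, 2, 3, 2, 0, 2, 2, 1], [1, 0, 2, 1, 0, 3, 0, 2, 1, 0]),
    (6, 0, [], []),
    (5, 1, [], []),
    (5, 0, [], []),
    (4, 1, [], []),
    (4, 0, [], []),
    (3, 4, [3], [3]),
    (4, 4, [1, 5, 4, 5, 4], [1, 5, 4, 5, 4]),
    (3, 45, [1, 0, 2, 1, 0, 3, 0, 2, 1, 0], [0, 2, 2, 3, 2, 0, 2, 2, 1]),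
    (6, 0, [], []),
    (5, 1, [], []),
    (5, 0, [], []),
    (4, 1, [], []),
    (4, 0, [], []),
    (3, 4, [2, 4, 3], [4, 2, 3]),
    (4, 4, [1, 5], [1, 5]),
    (3, 53, [1, 0, 2, 1, 0, 3, 0, 2, 1, 0], [0, 2, 2, 3, 2, 0, 2, 2, 1]),
    (6, 0, [], []),
    (5, 1, [], []),
    (5, 0, [], []),
    (4, 1, [], []),
    (4, 0, [], []),
    (3, 2, [2, 2, 2, 0, 2, 0, 1, 3, 0, 2], [0, 1, 3, 0, 2, 0, 2, 3]),
    (3, 19, [], []),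
    (4, 4, [4], [3, 4, 3]),
    (5, 4, [5, 4, 5], [2, 4, 2, 3, 4]),
    (4, 61, [0, 2, 2, 3, 2, 0, 2, 2, 1], [1, 0, 2, 1, 0, 3, 0, 2, 1, 0]),
    (7, 0, [], []),
    (6, 1, [], []),
    (6, 0, [], []),
    (5, 1, [], []),
    (5, 0, [], []),
    (4, 4, [3, 5, 4], [3, 4, 2, 5]),
    (5, 4, [0, 1, 3, 4, 5, 3], [0, 1, 2, 5, 4]),
    (4, 69, [2, 0, 3, 0, 1, 2, 1, 0, 2, 0], [2, 0, 3, 0, 1, 2, 1, 0, 2, 0]),
    (7, 0, [], []),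
    (6, 1, [], []),
    (6, 0, [], []),
    (5, 1, [], []),
    (5, 0, [], []),
    (4, 4, [2, 3, 4], [3, 4, 2]),
    (5, 4, [0, 1, 5, 4, 4, 4], [0, 1, 4, 4, 5]),
    (4, 61, [0, 2, 2, 3, 2, 0, 2, 2, 1], [1, 0, 2, 1, 0, 3, 0, 2, 1, 0]),
    (7, 0, [], []),
    (6, 1, [], []),
    (6, 0, [], []),
    (5, 1, [], []),
    (5, 0, [], []),
    (0, 2, [2, 2, 0, 2, 2, 1, 2, 0, 3, 0], [2, 1, 2, 2, 0, 2, 0, 3, 0, 1, 3]),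
    (0, 11, [], []),
    (1, 4, [2, 3, 4], [3, 4, 2]),
    (2, 4, [1, 2, 4, 4, 5], [1, 4, 5, 3, 4]),
    (1, 37, [0, 2, 2, 3, 2, 0, 2, 2, 1], [1, 0, 2, 1, 0, 3, 0, 2, 1, 0]),
    (4, 0, [], []),
    (3, 1, [], []),
    (3, 0, [], []),
    (2, 1, [], []),
    (2, 0, [], []),
    (1, 4, [2, 3, 4], [3, 4, 2]),
    (2, 4, [0, 1, 3, 5, 4, 3], [0, 1, 4, 2, 5]),
    (1, 21, [1, 0, 2, 1, 0, 3, 0, 2, 1, 0], [0, 2, 2, 3, 2, 0, 2, 2, 1]),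
    (4, 0, [], []),
    (3, 1, [], []),
    (3, 0, [], []),
    (2, 1, [], []),
    (2, 0, [], []),
    (1, 2, [0, 1, 2, 0, 2, 0, 3, 2, 2, 0], [3, 0, 0, 1, 2, 2, 0, 3, 2, 2, 2]),
    (1, 19, [], []),
    (2, 4, [3], [3]),
    (3, 4, [0, 1, 2, 4, 2, 3], [0, 1, 2, 4, 2, 3]),
    (2, 29, [0, 2, 2, 3, 2, 0, 2, 2, 1], [1, 0, 2, 1, 0, 3, 0, 2, 1, 0]),
    (5, 0, [], []),
    (4, 1, [], []),
    (4, 0, [], []),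
    (3, 1, [], []),
    (3, 0, [], []),
    (2, 4, [2, 4, 3], [4, 2, 3]),
    (3, 4, [0, 2, 4, 2, 4], [0, 2, 4]),
    (2, 61, [0, 2, 2, 3, 2, 0, 2, 2, 1], [1, 0, 2, 1, 0, 3, 0, 2, 1, 0]),
    (5, 0, [], []),
    (4, 1, [], []),
    (4, 0, [], []),
    (3, 1, [], []),
    (3, 0, [], []),
    (2, 4, [2, 3, 4], [3, 4, 2]),
    (3, 4, [0, 1, 3, 4, 5, 3], [0, 1, 2, 5, 4]),
    (2, 69, [2, 0, 3, 0, 1, 2, 1, 0, 2, 0], [2, 0, 3, 0, 1, 2, 1, 0, 2, 0]),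
    (5, 0, [], []),
    (4, 1, [], []),
    (4, 0, [], []),
    (3, 1, [], []),
    (3, 0, [], []),
    (0, 2, [2, 0, 3, 0, 2, 1, 0, 0], [2, 2, 3, 0, 2, 1, 0, 2]),
    (0, 11, [], []),
    (1, 4, [3], [3]),
    (2, 4, [0, 3], [0, 3]),
    (1, 13, [0, 2, 2, 3, 2, 0, 2, 2, 1], [1, 0, 2, 1, 0, 3, 0, 2, 1, 0]),
    (4, 0, [], []),
    (3, 1, [], []),
    (3, 0, [], []),
    (2, 1, [], []),
    (2, 0, [], []),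
    (1, 4, [4], [3, 4, 3]),
    (2, 4, [4, 5, 4, 4, 4], [2, 4, 4, 5, 3, 4]),
    (1, 69, [2, 0, 3, 0, 1, 2, 1, 0, 2, 0], [2, 0, 3, 0, 1, 2, 1, 0, 2, 0]),
    (4, 0, [], []),
    (3, 1, [], []),
    (3, 0, [], []),
    (2, 1, [], []),
    (2, 0, [], []),
    (1, 4, [2, 3, 4], [3, 4, 2]),
    (2, 4, [2, 4, 4, 5], [4, 5, 3, 4]),
    (1, 93, [2, 0, 3, 0, 1, 2, 1, 0, 2, 0], [2, 0, 3, 0, 1, 2, 1, 0, 2, 0]),
    (4, 0, [], []),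
    (3, 1, [], []),
    (3, 0, [], []),
    (2, 1, [], []),
    (2, 0, [], []),
    (1, 4, [2, 3, 4], [3, 4, 2]),
    (2, 4, [0, 1, 2, 5, 4, 5], [0, 1, 3, 5, 4, 5, 4]),
    (1, 53, [1, 0, 2, 1, 0, 3, 0, 2, 1, 0], [0, 2, 2, 3, 2, 0, 2, 2, 1]),
    (4, 0, [], []),
    (3, 1, [], []),
    (3, 0, [], []),
    (2, 1, [], []),
    (2, 0, [], []),
    (0, 4, [2, 5, 4, 3], [4, 5, 3]),
    (1, 4, [0, 1, 5, 4, 3, 5], [0, 1, 5, 4, 3, 5]),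
    (0, 5, [1, 0, 2, 1, 0, 3, 0, 2, 1, 0], [0, 2, 2, 3, 2, 0, 2, 2, 1]),
    (3, 0, [], []),
    (2, 1, [], []),
    (2, 0, [], []),
    (1, 1, [], []),
    (1, 0, [], []),
    (0, 4, [0, 2, 5, 4, 2, 4], [0, 2, 4, 5]),
    (0, 1, [], []),
    (0, 0, [], [])]

/-- Derivation 38 -/
def genSt38 : List DStep :=
  []

/-- Derivation 39 -/
def genSt39 : List DStep :=
  []

/-- Derivation 40 -/
def genSt40 : List DStep :=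
  [(0, 2, [1, 1, 3, 0], [0, 1, 0, 0, 0, 3]),
    (0, 19, [], []),
    (1, 4, [4, 3, 5, 4], [4, 3, 5, 4]),
    (2, 4, [1, 4, 4, 2], [1, 2, 4, 4, 4]),
    (1, 93, [2, 0, 3, 0, 1, 2, 1, 0, 2, 0], [2, 0, 3, 0, 1, 2, 1, 0, 2, 0]),
    (4, 0, [], []),
    (3, 1, [], []),
    (3, 0, [], []),
    (2, 1, [], []),
    (2, 0, [], []),
    (1, 4, [4, 3, 5, 4], [4, 3, 5, 4]),
    (2, 4, [3, 4, 5], [5, 3, 4]),
    (1, 69, [2, 0, 3, 0, 1, 2, 1, 0, 2, 0], [2, 0, 3, 0, 1, 2, 1, 0, 2, 0]),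
    (4, 0, [], []),
    (3, 1, [], []),
    (3, 0, [], []),
    (2, 1, [], []),
    (2, 0, [], []),
    (1, 4, [4, 2, 3, 4, 4], [2, 4, 3, 5, 4, 5]),
    (2, 4, [1, 3, 5, 4, 2], [1, 2, 3, 4, 2, 5]),
    (1, 93, [2, 0, 3, 0, 1, 2, 1, 0, 2, 0], [2, 0, 3, 0, 1, 2, 1, 0, 2, 0]),
    (4, 0, [], []),
    (3, 1, [], []),
    (3, 0, [], []),
    (2, 1, [], []),
    (2, 0, [], []),
    (0, 4, [1, 2, 4, 2, 3, 4, 4], [1, 4, 4, 2, 3, 4]),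
    (0, 1, [], []),
    (0, 4, [1, 3, 4, 5, 4], [1, 2, 5, 4, 2]),
    (0, 1, [], []),
    (0, 0, [], [])]

/-- Derivation 41 -/
def genSt41 : List DStep :=
  [(3, 2, [0, 1, 2, 3, 0, 2, 0, 0, 2, 0], [0, 1, 3, 0, 3, 0, 2, 3, 0, 2]),
    (3, 19, [], []),
    (4, 4, [4, 3, 5, 4], [4, 3, 5, 4]),
    (5, 4, [0, 1, 2, 4, 4, 4], [0, 1, 4, 4, 2]),
    (4, 93, [2, 0, 3, 0, 1, 2, 1, 0, 2, 0], [2, 0, 3, 0, 1, 2, 1, 0, 2, 0]),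
    (7, 0, [], []),
    (6, 1, [], []),
    (6, 0, [], []),
    (5, 1, [], []),
    (5, 0, [], []),
    (4, 4, [4, 3, 5, 4], [4, 3, 5, 4]),
    (5, 4, [1, 2, 4, 2, 5], [1, 5, 4, 2, 4]),
    (4, 69, [2, 0, 3, 0, 1, 2, 1, 0, 2, 0], [2, 0, 3, 0, 1, 2, 1, 0, 2, 0]),
    (7, 0, [], []),
    (6, 1, [], []),
    (6, 0, [], []),
    (5, 1, [], []),
    (5, 0, [], []),
    (4, 4, [5, 4, 3], [4, 3, 5]),
    (5, 4, [0, 2, 3, 4, 3], [0, 4, 2]),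
    (4, 61, [0, 2, 2, 3, 2, 0, 2, 2, 1], [1, 0, 2, 1, 0, 3, 0, 2, 1, 0]),
    (7, 0, [], []),
    (6, 1, [], []),
    (6, 0, [], []),
    (5, 1, [], []),
    (5, 0, [], []),
    (3, 2, [2, 0, 3, 0, 1, 2, 1, 0, 2, 0], [2, 0, 3, 0, 1, 2, 1, 0, 2, 0]),
    (3, 11, [], []),
    (5, 4, [2], [2]),
    (4, 69, [2, 0, 3, 0, 1, 2, 1, 0, 2, 0], [2, 0, 3, 0, 1, 2, 1, 0, 2, 0]),
    (7, 0, [], []),
    (6, 1, [], []),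
    (6, 0, [], []),
    (5, 1, [], []),
    (5, 0, [], []),
    (4, 4, [2, 5, 4, 3], [4, 5, 3]),
    (5, 4, [3, 5, 4, 2, 5], [3, 5, 4, 2, 5]),
    (4, 29, [0, 2, 2, 3, 2, 0, 2, 2, 1], [1, 0, 2, 1, 0, 3, 0, 2, 1, 0]),
    (7, 0, [], []),
    (6, 1, [], []),
    (6, 0, [], []),
    (5, 1, [], []),
    (5, 0, [], []),
    (4, 4, [4], [3, 4, 3]),
    (5, 4, [2, 5, 4], [3, 4, 5, 3]),
    (4, 93, [2, 0, 3, 0, 1, 2, 1, 0, 2, 0], [2, 0, 3, 0, 1, 2, 1, 0, 2, 0]),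
    (7, 0, [], []),
    (6, 1, [], []),
    (6, 0, [], []),
    (5, 1, [], []),
    (5, 0, [], []),
    (3, 4, [5, 4, 3], [4, 3, 5]),
    (4, 4, [1, 3, 4, 3, 5], [1, 5, 4]),
    (3, 21, [1, 0, 2, 1, 0, 3, 0, 2, 1, 0], [0, 2, 2, 3, 2, 0, 2, 2, 1]),
    (6, 0, [], []),
    (5, 1, [], []),
    (5, 0, [], []),
    (4, 1, [], []),
    (4, 0, [], []),
    (4, 4, [0, 1, 2, 4, 2], [0, 1, 4, 2, 4]),
    (3, 45, [1, 0, 2, 1, 0, 3, 0, 2, 1, 0], [0, 2, 2, 3, 2, 0, 2, 2, 1]),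
    (6, 0, [], []),
    (5, 1, [], []),
    (5, 0, [], []),
    (4, 1, [], []),
    (4, 0, [], []),
    (2, 4, [3], [3]),
    (3, 4, [0, 4, 3, 5], [0, 5, 4, 3]),
    (2, 45, [1, 0, 2, 1, 0, 3, 0, 2, 1, 0], [0, 2, 2, 3, 2, 0, 2, 2, 1]),
    (5, 0, [], []),
    (4, 1, [], []),
    (4, 0, [], []),
    (3, 1, [], []),
    (3, 0, [], []),
    (1, 4, [3, 4], [3, 4]),
    (2, 4, [5, 4, 2, 4], [2, 4, 2, 5]),
    (1, 53, [1, 0, 2, 1, 0, 3, 0, 2, 1, 0], [0, 2, 2, 3, 2, 0, 2, 2, 1]),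
    (4, 0, [], []),
    (3, 1, [], []),
    (3, 0, [], []),
    (2, 1, [], []),
    (2, 0, [], []),
    (0, 2, [2, 2, 2, 0, 2, 0, 1, 3, 0, 2], [0, 1, 3, 0, 2, 0, 2, 3]),
    (0, 11, [], []),
    (1, 4, [4], [3, 4, 3]),
    (2, 4, [5, 4, 5], [2, 4, 2, 3, 4]),
    (1, 37, [0, 2, 2, 3, 2, 0, 2, 2, 1], [1, 0, 2, 1, 0, 3, 0, 2, 1, 0]),
    (4, 0, [], []),
    (3, 1, [], []),
    (3, 0, [], []),
    (2, 1, [], []),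
    (2, 0, [], []),
    (1, 4, [2, 4], [2, 4, 2, 4]),
    (2, 4, [0, 2, 4, 2, 3], [0, 2, 4, 2, 3]),
    (1, 93, [2, 0, 3, 0, 1, 2, 1, 0, 2, 0], [2, 0, 3, 0, 1, 2, 1, 0, 2, 0]),
    (4, 0, [], []),
    (3, 1, [], []),
    (3, 0, [], []),
    (2, 1, [], []),
    (2, 0, [], []),
    (1, 4, [2, 4, 3], [4, 2, 3]),
    (2, 4, [0, 1, 3, 4, 3, 5], [0, 1, 5, 4]),
    (1, 13, [0, 2, 2, 3, 2, 0, 2, 2, 1], [1, 0, 2, 1, 0, 3, 0, 2, 1, 0]),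
    (4, 0, [], []),
    (3, 1, [], []),
    (3, 0, [], []),
    (2, 1, [], []),
    (2, 0, [], []),
    (0, 2, [2, 1, 0, 1, 2, 0, 3, 2], [0, 1, 2, 2, 3, 0, 3, 0, 2, 3, 0]),
    (0, 19, [], []),
    (2, 4, [1, 5, 4, 2, 3], [1, 2, 4, 3, 5]),
    (1, 5, [1, 0, 2, 1, 0, 3, 0, 2, 1, 0], [0, 2, 2, 3, 2, 0, 2, 2, 1]),
    (4, 0, [], []),
    (3, 1, [], []),
    (3, 0, [], []),
    (2, 1, [], []),
    (2, 0, [], []),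
    (1, 4, [2, 3, 4], [3, 4, 2]),
    (2, 4, [0, 3, 4, 4], [0, 3, 4, 4]),
    (1, 29, [0, 2, 2, 3, 2, 0, 2, 2, 1], [1, 0, 2, 1, 0, 3, 0, 2, 1, 0]),
    (4, 0, [], []),
    (3, 1, [], []),
    (3, 0, [], []),
    (2, 1, [], []),
    (2, 0, [], []),
    (1, 4, [3, 4], [3, 4]),
    (2, 4, [0, 3, 5, 4, 4], [0, 3, 5, 4, 4]),
    (1, 5, [1, 0, 2, 1, 0, 3, 0, 2, 1, 0], [0, 2, 2, 3, 2, 0, 2, 2, 1]),
    (4, 0, [], []),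
    (3, 1, [], []),
    (3, 0, [], []),
    (2, 1, [], []),
    (2, 0, [], []),
    (0, 4, [2, 3, 4], [3, 4, 2]),
    (1, 4, [3, 4], [3, 4]),
    (0, 37, [0, 2, 2, 3, 2, 0, 2, 2, 1], [1, 0, 2, 1, 0, 3, 0, 2, 1, 0]),
    (3, 0, [], []),
    (2, 1, [], []),
    (2, 0, [], []),
    (1, 1, [], []),
    (1, 0, [], []),
    (0, 4, [0, 4, 5, 4, 4], [0, 2, 5, 4, 4]),
    (0, 1, [], []),
    (0, 0, [], [])]

/-- Derivation 42 -/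
def genSt42 : List DStep :=
  [(0, 2, [], []),
    (0, 19, [], []),
    (1, 1, [], []),
    (1, 4, [3, 5, 4], [3, 4, 2, 5]),
    (2, 4, [2, 5, 4, 2], [3, 4, 5, 4]),
    (1, 69, [2, 0, 3, 0, 1, 2, 1, 0, 2, 0], [2, 0, 3, 0, 1, 2, 1, 0, 2, 0]),
    (4, 0, [], []),
    (3, 1, [], []),
    (3, 0, [], []),
    (2, 1, [], []),
    (2, 0, [], []),
    (1, 4, [4, 3], [4, 3]),
    (2, 4, [0, 3, 4, 2, 5], [0, 3, 5, 4]),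
    (1, 5, [1, 0, 2, 1, 0, 3, 0, 2, 1, 0], [0, 2, 2, 3, 2, 0, 2, 2, 1]),
    (4, 0, [], []),
    (3, 1, [], []),
    (3, 0, [], []),
    (2, 1, [], []),
    (2, 0, [], []),
    (0, 2, [0, 2, 0, 0, 1, 2, 2, 0, 1, 0], [0, 2, 0, 2, 2, 2, 0, 0]),
    (0, 11, [], []),
    (1, 4, [3], [3]),
    (2, 4, [5, 4, 5], [2, 4, 2, 3, 4]),
    (1, 53, [1, 0, 2, 1, 0, 3, 0, 2, 1, 0], [0, 2, 2, 3, 2, 0, 2, 2, 1]),
    (4, 0, [], []),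
    (3, 1, [], []),
    (3, 0, [], []),
    (2, 1, [], []),
    (2, 0, [], []),
    (1, 4, [2, 5, 4], [3, 4, 5, 3]),
    (2, 4, [1, 5, 4, 2], [1, 2, 3, 4, 3, 5]),
    (1, 93, [2, 0, 3, 0, 1, 2, 1, 0, 2, 0], [2, 0, 3, 0, 1, 2, 1, 0, 2, 0]),
    (4, 0, [], []),
    (3, 1, [], []),
    (3, 0, [], []),
    (2, 1, [], []),
    (2, 0, [], []),
    (1, 4, [2, 4, 3], [4, 2, 3]),
    (2, 4, [0, 4, 4, 4], [0, 4, 4]),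
    (1, 45, [1, 0, 2, 1, 0, 3, 0, 2, 1, 0], [0, 2, 2, 3, 2, 0, 2, 2, 1]),
    (4, 0, [], []),
    (3, 1, [], []),
    (3, 0, [], []),
    (2, 1, [], []),
    (2, 0, [], []),
    (0, 2, [3, 0, 2, 1, 1, 0, 0, 1], [1, 0, 2, 2, 2, 0, 0, 3]),
    (0, 19, [], []),
    (1, 4, [2, 3, 4, 4], [3, 4, 4, 2]),
    (2, 4, [1, 3, 4, 4, 5], [1, 5, 3, 4, 4]),
    (1, 93, [2, 0, 3, 0, 1, 2, 1, 0, 2, 0], [2, 0, 3, 0, 1, 2, 1, 0, 2, 0]),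
    (4, 0, [], []),
    (3, 1, [], []),
    (3, 0, [], []),
    (2, 1, [], []),
    (2, 0, [], []),
    (1, 4, [4, 2, 3, 4, 4], [2, 4, 3, 5, 4, 5]),
    (2, 4, [0, 4, 3, 5], [0, 5, 4, 3]),
    (1, 69, [2, 0, 3, 0, 1, 2, 1, 0, 2, 0], [2, 0, 3, 0, 1, 2, 1, 0, 2, 0]),
    (4, 0, [], []),
    (3, 1, [], []),
    (3, 0, [], []),
    (2, 1, [], []),
    (2, 0, [], []),
    (1, 4, [4, 3], [4, 3]),
    (2, 4, [0, 1, 2, 4, 4, 4, 2], [0, 1, 2, 4, 4, 2]),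
    (1, 61, [0, 2, 2, 3, 2, 0, 2, 2, 1], [1, 0, 2, 1, 0, 3, 0, 2, 1, 0]),
    (4, 0, [], []),
    (3, 1, [], []),
    (3, 0, [], []),
    (2, 1, [], []),
    (2, 0, [], []),
    (0, 4, [3, 4], [3, 4]),
    (1, 4, [1, 2, 4, 4, 5], [1, 4, 5, 3, 4]),
    (0, 53, [1, 0, 2, 1, 0, 3, 0, 2, 1, 0], [0, 2, 2, 3, 2, 0, 2, 2, 1]),
    (3, 0, [], []),
    (2, 1, [], []),
    (2, 0, [], []),
    (1, 1, [], []),
    (1, 0, [], []),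
    (0, 4, [3], [3]),
    (0, 1, [], []),
    (0, 0, [], [])]

/-- Derivation 43 -/
def genSt43 : List DStep :=
  [(5, 4, [2, 4], [2, 4, 2, 4]),
    (6, 4, [4, 5, 3], [2, 5, 4, 3]),
    (5, 37, [0, 2, 2, 3, 2, 0, 2, 2, 1], [1, 0, 2, 1, 0, 3, 0, 2, 1, 0]),
    (8, 0, [], []),
    (7, 1, [], []),
    (7, 0, [], []),
    (6, 1, [], []),
    (6, 0, [], []),
    (1, 2, [0, 1, 2, 3, 0, 2, 0, 0, 2, 0], [0, 1, 3, 0, 3, 0, 2, 3, 0, 2]),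
    (1, 19, [], []),
    (2, 4, [4, 3, 5, 4], [4, 3, 5, 4]),
    (3, 4, [0, 1, 2, 4, 4, 4], [0, 1, 4, 4, 2]),
    (2, 93, [2, 0, 3, 0, 1, 2, 1, 0, 2, 0], [2, 0, 3, 0, 1, 2, 1, 0, 2, 0]),
    (5, 0, [], []),
    (4, 1, [], []),
    (4, 0, [], []),
    (3, 1, [], []),
    (3, 0, [], []),
    (2, 4, [4, 3, 5, 4], [4, 3, 5, 4]),
    (3, 4, [1, 2, 4, 2, 5], [1, 5, 4, 2, 4]),
    (2, 69, [2, 0, 3, 0, 1, 2, 1, 0, 2, 0], [2, 0, 3, 0, 1, 2, 1, 0, 2, 0]),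
    (5, 0, [], []),
    (4, 1, [], []),
    (4, 0, [], []),
    (3, 1, [], []),
    (3, 0, [], []),
    (2, 4, [5, 4, 3], [4, 3, 5]),
    (3, 4, [0, 1, 2, 3, 4, 3], [0, 1, 4, 2]),
    (2, 21, [1, 0, 2, 1, 0, 3, 0, 2, 1, 0], [0, 2, 2, 3, 2, 0, 2, 2, 1]),
    (5, 0, [], []),
    (4, 1, [], []),
    (4, 0, [], []),
    (3, 1, [], []),
    (3, 0, [], []),
    (1, 2, [3, 0, 0, 3], [3, 0, 1, 3]),
    (1, 19, [], []),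
    (2, 4, [3], [3]),
    (3, 4, [0, 1, 2, 4, 2, 3, 4], [0, 1, 5, 4, 5]),
    (2, 21, [1, 0, 2, 1, 0, 3, 0, 2, 1, 0], [0, 2, 2, 3, 2, 0, 2, 2, 1]),
    (5, 0, [], []),
    (4, 1, [], []),
    (4, 0, [], []),
    (3, 1, [], []),
    (3, 0, [], []),
    (2, 4, [4], [3, 4, 3]),
    (3, 4, [0, 5, 4, 2], [0, 2, 3, 4, 3, 5]),
    (2, 69, [2, 0, 3, 0, 1, 2, 1, 0, 2, 0], [2, 0, 3, 0, 1, 2, 1, 0, 2, 0]),
    (5, 0, [], []),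
    (4, 1, [], []),
    (4, 0, [], []),
    (3, 1, [], []),
    (3, 0, [], []),
    (2, 4, [4, 2, 3, 4, 4], [2, 4, 3, 5, 4, 5]),
    (3, 4, [4, 4, 3, 5], [4, 4, 3, 5]),
    (2, 93, [2, 0, 3, 0, 1, 2, 1, 0, 2, 0], [2, 0, 3, 0, 1, 2, 1, 0, 2, 0]),
    (5, 0, [], []),
    (4, 1, [], []),
    (4, 0, [], []),
    (3, 1, [], []),
    (3, 0, [], []),
    (0, 2, [0, 0, 2, 2, 0, 1, 0, 0, 3], [1, 3, 0, 2, 1, 2, 0, 0, 1, 0]),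
    (0, 11, [], []),
    (2, 4, [0, 5], [0, 5]),
    (1, 45, [1, 0, 2, 1, 0, 3, 0, 2, 1, 0], [0, 2, 2, 3, 2, 0, 2, 2, 1]),
    (4, 0, [], []),
    (3, 1, [], []),
    (3, 0, [], []),
    (2, 1, [], []),
    (2, 0, [], []),
    (1, 4, [5, 4, 3], [4, 3, 5]),
    (2, 4, [2, 4, 2], [4, 2, 4]),
    (1, 45, [1, 0, 2, 1, 0, 3, 0, 2, 1, 0], [0, 2, 2, 3, 2, 0, 2, 2, 1]),
    (4, 0, [], []),
    (3, 1, [], []),
    (3, 0, [], []),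
    (2, 1, [], []),
    (2, 0, [], []),
    (1, 4, [4], [3, 4, 3]),
    (2, 4, [2, 4, 4, 2, 3, 4], [4, 2, 4, 4, 4]),
    (1, 69, [2, 0, 3, 0, 1, 2, 1, 0, 2, 0], [2, 0, 3, 0, 1, 2, 1, 0, 2, 0]),
    (4, 0, [], []),
    (3, 1, [], []),
    (3, 0, [], []),
    (2, 1, [], []),
    (2, 0, [], []),
    (1, 4, [2, 4, 3], [4, 2, 3]),
    (2, 4, [0, 4, 2, 5, 4], [0, 2, 3, 4, 5]),
    (1, 5, [1, 0, 2, 1, 0, 3, 0, 2, 1, 0], [0, 2, 2, 3, 2, 0, 2, 2, 1]),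
    (4, 0, [], []),
    (3, 1, [], []),
    (3, 0, [], []),
    (2, 1, [], []),
    (2, 0, [], []),
    (0, 4, [3], [3]),
    (1, 4, [0, 1, 5, 4, 3, 5], [0, 1, 5, 4, 3, 5]),
    (0, 61, [0, 2, 2, 3, 2, 0, 2, 2, 1], [1, 0, 2, 1, 0, 3, 0, 2, 1, 0]),
    (3, 0, [], []),
    (2, 1, [], []),
    (2, 0, [], []),
    (1, 1, [], []),
    (1, 0, [], []),
    (0, 4, [0, 2, 3], [0, 2, 3]),
    (0, 1, [], []),
    (0, 0, [], [])]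

/-- Derivation 44 -/
def genSt44 : List DStep :=
  []

/-- Derivation 45 -/
def genSt45 : List DStep :=
  []

/-- Derivation 46 -/
def genSt46 : List DStep :=
  [(1, 1, [], []),
    (1, 4, [1, 5, 3], [1, 3, 5]),
    (0, 69, [2, 0, 3, 0, 1, 2, 1, 0, 2, 0], [2, 0, 3, 0, 1, 2, 1, 0, 2, 0]),
    (3, 0, [], []),
    (2, 1, [], []),
    (2, 0, [], []),
    (1, 1, [], []),
    (1, 0, [], []),
    (0, 4, [1, 5, 3], [1, 3, 5]),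
    (0, 1, [], []),
    (0, 0, [], [])]

/-- Derivation 47 -/
def genSt47 : List DStep :=
  []

/-- Derivation 48 -/
def genSt48 : List DStep :=
  [(8, 4, [3], [3]),
    (9, 4, [1, 4, 2, 5, 4, 5], [1, 3, 5, 4, 5]),
    (8, 13, [0, 2, 2, 3, 2, 0, 2, 2, 1], [1, 0, 2, 1, 0, 3, 0, 2, 1, 0]),
    (11, 0, [], []),
    (10, 1, [], []),
    (10, 0, [], []),
    (9, 1, [], []),
    (9, 0, [], []),
    (4, 2, [0, 1, 2, 1, 3, 0, 3, 2, 0, 2], [1, 3, 0, 2, 2, 0, 3, 2, 0, 1]),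
    (4, 11, [], []),
    (5, 4, [3, 4], [3, 4]),
    (6, 4, [1, 2, 4, 4, 5, 3, 4], [1, 4, 5, 4, 4, 4]),
    (5, 37, [0, 2, 2, 3, 2, 0, 2, 2, 1], [1, 0, 2, 1, 0, 3, 0, 2, 1, 0]),
    (8, 0, [], []),
    (7, 1, [], []),
    (7, 0, [], []),
    (6, 1, [], []),
    (6, 0, [], []),
    (5, 4, [4, 2, 3, 4, 4], [2, 4, 3, 5, 4, 5]),
    (6, 4, [2, 4, 5], [2, 5, 4, 2, 4]),
    (5, 93, [2, 0, 3, 0, 1, 2, 1, 0, 2, 0], [2, 0, 3, 0, 1, 2, 1, 0, 2, 0]),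
    (8, 0, [], []),
    (7, 1, [], []),
    (7, 0, [], []),
    (6, 1, [], []),
    (6, 0, [], []),
    (5, 4, [4, 3, 5, 4], [4, 3, 5, 4]),
    (6, 4, [0, 1, 2, 3, 4, 4, 2], [0, 1, 2, 3, 4, 4, 2]),
    (5, 69, [2, 0, 3, 0, 1, 2, 1, 0, 2, 0], [2, 0, 3, 0, 1, 2, 1, 0, 2, 0]),
    (8, 0, [], []),
    (7, 1, [], []),
    (7, 0, [], []),
    (6, 1, [], []),
    (6, 0, [], []),
    (3, 2, [2, 1, 0, 1, 2, 0, 3, 2], [0, 1, 2, 2, 3, 0, 3, 0, 2, 3, 0]),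
    (3, 19, [], []),
    (5, 4, [0, 5, 4, 2, 3], [0, 2, 4, 3, 5]),
    (4, 29, [0, 2, 2, 3, 2, 0, 2, 2, 1], [1, 0, 2, 1, 0, 3, 0, 2, 1, 0]),
    (7, 0, [], []),
    (6, 1, [], []),
    (6, 0, [], []),
    (5, 1, [], []),
    (5, 0, [], []),
    (4, 4, [2, 3, 4], [3, 4, 2]),
    (5, 4, [1, 4, 3], [1, 4, 3]),
    (4, 93, [2, 0, 3, 0, 1, 2, 1, 0, 2, 0], [2, 0, 3, 0, 1, 2, 1, 0, 2, 0]),
    (7, 0, [], []),
    (6, 1, [], []),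
    (6, 0, [], []),
    (5, 1, [], []),
    (5, 0, [], []),
    (4, 2, [2, 2, 2, 0, 2, 0, 1, 3, 0, 2], [0, 1, 3, 0, 2, 0, 2, 3]),
    (4, 11, [], []),
    (5, 4, [4], [3, 4, 3]),
    (6, 4, [5, 4, 5], [2, 4, 2, 3, 4]),
    (5, 45, [1, 0, 2, 1, 0, 3, 0, 2, 1, 0], [0, 2, 2, 3, 2, 0, 2, 2, 1]),
    (8, 0, [], []),
    (7, 1, [], []),
    (7, 0, [], []),
    (6, 1, [], []),
    (6, 0, [], []),
    (5, 4, [4, 3], [4, 3]),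
    (6, 4, [0, 1, 5, 4, 5, 3], [0, 1, 4, 2, 4, 4]),
    (5, 37, [0, 2, 2, 3, 2, 0, 2, 2, 1], [1, 0, 2, 1, 0, 3, 0, 2, 1, 0]),
    (8, 0, [], []),
    (7, 1, [], []),
    (7, 0, [], []),
    (6, 1, [], []),
    (6, 0, [], []),
    (5, 2, [3, 0, 2, 1, 1, 0, 0, 1], [1, 0, 2, 2, 2, 0, 0, 3]),
    (5, 19, [], []),
    (6, 4, [2, 3, 4, 4], [3, 4, 4, 2]),
    (7, 4, [1, 3, 4, 4, 5], [1, 5, 3, 4, 4]),
    (6, 93, [2, 0, 3, 0, 1, 2, 1, 0, 2, 0], [2, 0, 3, 0, 1, 2, 1, 0, 2, 0]),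
    (9, 0, [], []),
    (8, 1, [], []),
    (8, 0, [], []),
    (7, 1, [], []),
    (7, 0, [], []),
    (6, 4, [5, 4, 3], [4, 3, 5]),
    (7, 4, [1, 2, 4, 4, 5], [1, 4, 5, 3, 4]),
    (6, 37, [0, 2, 2, 3, 2, 0, 2, 2, 1], [1, 0, 2, 1, 0, 3, 0, 2, 1, 0]),
    (9, 0, [], []),
    (8, 1, [], []),
    (8, 0, [], []),
    (7, 1, [], []),
    (7, 0, [], []),
    (4, 2, [0, 0, 2, 2, 0, 1, 0, 0, 3], [1, 3, 0, 2, 1, 2, 0, 0, 1, 0]),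
    (4, 11, [], []),
    (6, 4, [1, 5], [1, 5]),
    (5, 37, [0, 2, 2, 3, 2, 0, 2, 2, 1], [1, 0, 2, 1, 0, 3, 0, 2, 1, 0]),
    (8, 0, [], []),
    (7, 1, [], []),
    (7, 0, [], []),
    (6, 1, [], []),
    (6, 0, [], []),
    (5, 4, [5, 4, 3], [4, 3, 5]),
    (6, 4, [0, 5, 3, 4], [0, 3, 4, 5]),
    (5, 29, [0, 2, 2, 3, 2, 0, 2, 2, 1], [1, 0, 2, 1, 0, 3, 0, 2, 1, 0]),
    (8, 0, [], []),
    (7, 1, [], []),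
    (7, 0, [], []),
    (6, 1, [], []),
    (6, 0, [], []),
    (5, 4, [5, 4], [3, 4, 3, 5]),
    (6, 4, [4, 3], [4, 3]),
    (5, 93, [2, 0, 3, 0, 1, 2, 1, 0, 2, 0], [2, 0, 3, 0, 1, 2, 1, 0, 2, 0]),
    (8, 0, [], []),
    (7, 1, [], []),
    (7, 0, [], []),
    (6, 1, [], []),
    (6, 0, [], []),
    (3, 2, [0, 2, 2, 0, 2, 0, 3, 0, 3], [0, 2, 1, 0, 3, 0, 3, 0, 0]),
    (3, 19, [], []),
    (4, 4, [3, 4], [3, 4]),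
    (5, 4, [4, 4], [4, 4, 4]),
    (4, 21, [1, 0, 2, 1, 0, 3, 0, 2, 1, 0], [0, 2, 2, 3, 2, 0, 2, 2, 1]),
    (7, 0, [], []),
    (6, 1, [], []),
    (6, 0, [], []),
    (5, 1, [], []),
    (5, 0, [], []),
    (4, 4, [2, 5, 4, 3], [4, 5, 3]),
    (5, 4, [0, 4, 3, 5], [0, 5, 4, 3]),
    (4, 13, [0, 2, 2, 3, 2, 0, 2, 2, 1], [1, 0, 2, 1, 0, 3, 0, 2, 1, 0]),
    (7, 0, [], []),
    (6, 1, [], []),
    (6, 0, [], []),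
    (5, 1, [], []),
    (5, 0, [], []),
    (4, 2, [0, 1, 0, 3, 0, 2, 3, 0, 0, 2], [0, 0, 2, 2, 0, 0, 2, 3, 2, 0]),
    (4, 11, [], []),
    (6, 4, [0, 1, 2, 5, 4, 5], [0, 1, 3, 5, 4, 5, 4]),
    (5, 45, [1, 0, 2, 1, 0, 3, 0, 2, 1, 0], [0, 2, 2, 3, 2, 0, 2, 2, 1]),
    (8, 0, [], []),
    (7, 1, [], []),
    (7, 0, [], []),
    (6, 1, [], []),
    (6, 0, [], []),
    (5, 4, [5, 3, 4], [3, 4, 5]),
    (6, 4, [0, 3, 4, 4, 5], [0, 5, 3, 4, 4]),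
    (5, 69, [2, 0, 3, 0, 1, 2, 1, 0, 2, 0], [2, 0, 3, 0, 1, 2, 1, 0, 2, 0]),
    (8, 0, [], []),
    (7, 1, [], []),
    (7, 0, [], []),
    (6, 1, [], []),
    (6, 0, [], []),
    (5, 2, [0, 1, 0, 2, 0, 2, 0], [1, 0, 1, 2, 0, 2, 1, 0]),
    (5, 19, [], []),
    (6, 4, [2, 4, 3], [4, 2, 3]),
    (7, 4, [1, 3, 5, 4, 3], [1, 4, 2, 5]),
    (6, 61, [0, 2, 2, 3, 2, 0, 2, 2, 1], [1, 0, 2, 1, 0, 3, 0, 2, 1, 0]),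
    (9, 0, [], []),
    (8, 1, [], []),
    (8, 0, [], []),
    (7, 1, [], []),
    (7, 0, [], []),
    (6, 4, [5, 4, 3], [4, 3, 5]),
    (7, 4, [0, 2], [0, 2]),
    (6, 45, [1, 0, 2, 1, 0, 3, 0, 2, 1, 0], [0, 2, 2, 3, 2, 0, 2, 2, 1]),
    (9, 0, [], []),
    (8, 1, [], []),
    (8, 0, [], []),
    (7, 1, [], []),
    (7, 0, [], []),
    (6, 4, [2, 5, 4], [3, 4, 5, 3]),
    (7, 4, [0, 5, 4, 2, 4], [0, 2, 4, 2, 5]),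
    (6, 69, [2, 0, 3, 0, 1, 2, 1, 0, 2, 0], [2, 0, 3, 0, 1, 2, 1, 0, 2, 0]),
    (9, 0, [], []),
    (8, 1, [], []),
    (8, 0, [], []),
    (7, 1, [], []),
    (7, 0, [], []),
    (2, 2, [2, 2, 0, 2, 2, 1, 2, 0, 3, 0], [2, 1, 2, 2, 0, 2, 0, 3, 0, 1, 3]),
    (2, 11, [], []),
    (3, 4, [2, 3, 4], [3, 4, 2]),
    (4, 4, [1, 2, 4, 4, 5], [1, 4, 5, 3, 4]),
    (3, 37, [0, 2, 2, 3, 2, 0, 2, 2, 1], [1, 0, 2, 1, 0, 3, 0, 2, 1, 0]),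
    (6, 0, [], []),
    (5, 1, [], []),
    (5, 0, [], []),
    (4, 1, [], []),
    (4, 0, [], []),
    (3, 4, [2, 5, 4, 3], [4, 5, 3]),
    (4, 4, [0, 1, 4, 2, 5, 4, 5], [0, 1, 3, 5, 4, 5]),
    (3, 21, [1, 0, 2, 1, 0, 3, 0, 2, 1, 0], [0, 2, 2, 3, 2, 0, 2, 2, 1]),
    (6, 0, [], []),
    (5, 1, [], []),
    (5, 0, [], []),
    (4, 1, [], []),
    (4, 0, [], []),
    (3, 2, [2, 3, 0, 2, 1, 0, 0, 1], [0, 2, 0, 1, 2, 1, 0, 3]),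
    (3, 19, [], []),
    (4, 4, [2, 4, 3], [4, 2, 3]),
    (5, 4, [3, 4, 3], [4]),
    (4, 29, [0, 2, 2, 3, 2, 0, 2, 2, 1], [1, 0, 2, 1, 0, 3, 0, 2, 1, 0]),
    (7, 0, [], []),
    (6, 1, [], []),
    (6, 0, [], []),
    (5, 1, [], []),
    (5, 0, [], []),
    (4, 4, [5, 4, 3], [4, 3, 5]),
    (5, 4, [1, 3, 5, 4, 5, 3], [1, 2, 5, 4, 2, 5]),
    (4, 61, [0, 2, 2, 3, 2, 0, 2, 2, 1], [1, 0, 2, 1, 0, 3, 0, 2, 1, 0]),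
    (7, 0, [], []),
    (6, 1, [], []),
    (6, 0, [], []),
    (5, 1, [], []),
    (5, 0, [], []),
    (4, 4, [2, 4], [2, 4, 2, 4]),
    (5, 4, [2, 5, 4, 2, 3], [4, 5, 4]),
    (4, 45, [1, 0, 2, 1, 0, 3, 0, 2, 1, 0], [0, 2, 2, 3, 2, 0, 2, 2, 1]),
    (7, 0, [], []),
    (6, 1, [], []),
    (6, 0, [], []),
    (5, 1, [], []),
    (5, 0, [], []),
    (1, 2, [2, 1, 0, 1, 2, 0, 3, 2], [0, 1, 2, 2, 3, 0, 3, 0, 2, 3, 0]),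
    (1, 19, [], []),
    (3, 4, [0, 5, 4, 2, 3], [0, 2, 4, 3, 5]),
    (2, 29, [0, 2, 2, 3, 2, 0, 2, 2, 1], [1, 0, 2, 1, 0, 3, 0, 2, 1, 0]),
    (5, 0, [], []),
    (4, 1, [], []),
    (4, 0, [], []),
    (3, 1, [], []),
    (3, 0, [], []),
    (2, 4, [2, 4], [2, 4, 2, 4]),
    (3, 4, [3, 4, 3, 5, 4], [3, 4, 3, 5, 4]),
    (2, 61, [0, 2, 2, 3, 2, 0, 2, 2, 1], [1, 0, 2, 1, 0, 3, 0, 2, 1, 0]),
    (5, 0, [], []),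
    (4, 1, [], []),
    (4, 0, [], []),
    (3, 1, [], []),
    (3, 0, [], []),
    (2, 4, [4, 2, 3, 4, 4], [2, 4, 3, 5, 4, 5]),
    (3, 4, [0, 5, 4, 4], [0, 4, 4, 4, 5]),
    (2, 69, [2, 0, 3, 0, 1, 2, 1, 0, 2, 0], [2, 0, 3, 0, 1, 2, 1, 0, 2, 0]),
    (5, 0, [], []),
    (4, 1, [], []),
    (4, 0, [], []),
    (3, 1, [], []),
    (3, 0, [], []),
    (0, 2, [0, 1, 0, 2, 0, 2, 0], [1, 0, 1, 2, 0, 2, 1, 0]),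
    (0, 19, [], []),
    (1, 4, [2, 4, 3], [4, 2, 3]),
    (2, 4, [1, 3, 5, 4, 3], [1, 4, 2, 5]),
    (1, 61, [0, 2, 2, 3, 2, 0, 2, 2, 1], [1, 0, 2, 1, 0, 3, 0, 2, 1, 0]),
    (4, 0, [], []),
    (3, 1, [], []),
    (3, 0, [], []),
    (2, 1, [], []),
    (2, 0, [], []),
    (1, 4, [3, 4, 4], [3, 4, 4]),
    (2, 4, [1, 4, 4, 2, 3], [1, 2, 4, 4, 3]),
    (1, 69, [2, 0, 3, 0, 1, 2, 1, 0, 2, 0], [2, 0, 3, 0, 1, 2, 1, 0, 2, 0]),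
    (4, 0, [], []),
    (3, 1, [], []),
    (3, 0, [], []),
    (2, 1, [], []),
    (2, 0, [], []),
    (1, 2, [2, 2, 0, 2, 2, 1, 2, 0, 3, 0], [2, 1, 2, 2, 0, 2, 0, 3, 0, 1, 3]),
    (1, 19, [], []),
    (2, 4, [2, 3, 4], [3, 4, 2]),
    (3, 4, [1, 2, 4, 4, 5], [1, 4, 5, 3, 4]),
    (2, 61, [0, 2, 2, 3, 2, 0, 2, 2, 1], [1, 0, 2, 1, 0, 3, 0, 2, 1, 0]),
    (5, 0, [], []),
    (4, 1, [], []),
    (4, 0, [], []),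
    (3, 1, [], []),
    (3, 0, [], []),
    (2, 4, [4], [3, 4, 3]),
    (3, 4, [2, 3, 4, 2, 5], [3, 5, 4, 2]),
    (2, 13, [0, 2, 2, 3, 2, 0, 2, 2, 1], [1, 0, 2, 1, 0, 3, 0, 2, 1, 0]),
    (5, 0, [], []),
    (4, 1, [], []),
    (4, 0, [], []),
    (3, 1, [], []),
    (3, 0, [], []),
    (2, 4, [5, 4, 3], [4, 3, 5]),
    (3, 4, [1, 2, 3], [1, 2, 3]),
    (2, 53, [1, 0, 2, 1, 0, 3, 0, 2, 1, 0], [0, 2, 2, 3, 2, 0, 2, 2, 1]),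
    (5, 0, [], []),
    (4, 1, [], []),
    (4, 0, [], []),
    (3, 1, [], []),
    (3, 0, [], []),
    (0, 2, [1, 0, 2, 0, 0, 0, 3, 2, 2, 2], [0, 0, 0, 3, 0, 0, 0, 0, 3, 0]),
    (0, 11, [], []),
    (2, 4, [2, 3], [2, 3]),
    (1, 45, [1, 0, 2, 1, 0, 3, 0, 2, 1, 0], [0, 2, 2, 3, 2, 0, 2, 2, 1]),
    (4, 0, [], []),
    (3, 1, [], []),
    (3, 0, [], []),
    (2, 1, [], []),
    (2, 0, [], []),
    (1, 4, [2, 5, 4], [3, 4, 5, 3]),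
    (2, 4, [5, 3, 4], [3, 4, 5]),
    (1, 69, [2, 0, 3, 0, 1, 2, 1, 0, 2, 0], [2, 0, 3, 0, 1, 2, 1, 0, 2, 0]),
    (4, 0, [], []),
    (3, 1, [], []),
    (3, 0, [], []),
    (2, 1, [], []),
    (2, 0, [], []),
    (1, 4, [2, 4, 3], [4, 2, 3]),
    (2, 4, [5, 4, 5, 3], [4, 2, 4, 4]),
    (1, 5, [1, 0, 2, 1, 0, 3, 0, 2, 1, 0], [0, 2, 2, 3, 2, 0, 2, 2, 1]),
    (4, 0, [], []),
    (3, 1, [], []),
    (3, 0, [], []),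
    (2, 1, [], []),
    (2, 0, [], []),
    (0, 4, [2, 5, 4], [3, 4, 5, 3]),
    (1, 4, [1, 5, 4, 2, 3], [1, 2, 4, 3, 5]),
    (0, 93, [2, 0, 3, 0, 1, 2, 1, 0, 2, 0], [2, 0, 3, 0, 1, 2, 1, 0, 2, 0]),
    (3, 0, [], []),
    (2, 1, [], []),
    (2, 0, [], []),
    (1, 1, [], []),
    (1, 0, [], []),
    (0, 4, [1, 4, 2], [1, 2, 3, 4, 3]),
    (0, 1, [], []),
    (0, 0, [], [])]

/-- Derivation -/
def genSt : List (List DStep) :=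
  [genSt0, genSt1, genSt2, genSt3, genSt4, genSt5, genSt6, genSt7, genSt8, genSt9, genSt10, genSt11, genSt12, genSt13, genSt14, genSt15, genSt16, genSt17, genSt18, genSt19, genSt20, genSt21, genSt22, genSt23, genSt24, genSt25, genSt26, genSt27, genSt28, genSt29, genSt30, genSt31, genSt32, genSt33, genSt34, genSt35, genSt36, genSt37, genSt38, genSt39, genSt40, genSt41, genSt42, genSt43, genSt44, genSt45, genSt46, genSt47, genSt48]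

end Cfsg.Lib.CoThreeM12
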