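import Cfsg.Agent.Lib.CoThreeM12.CzData
import Cfsg.Agent.Lib.CoThreeM12.CzStepData
import Cfsg.Agent.Lib.J3Type.Enum

/-!
# The relators hold in the group

From `rel` of the transporter data: the relators of both types of triangles, and those of six generators of the
centraliser of `z`.
-/

set_option autoImplicit false
set_option maxRecDepth 100000

namespace Cfsg.Lib.CoThreeM12

open Cfsg
open Cfsg.Lib.MTwelveRecog (stdTwelve)
open Cfsg.Lib.J3Type (wval lval)

universe u

/-- A list of tails from words. -/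
def tailsC (Ls : List (List (ℕ × List ℕ))) : List (List (ℕ × ℕ)) := Ls.map fun L => (wordN [] L).2

/-- The basic relators as codes. -/
def relBase : List (List (ℕ × ℕ)) := tailsC relBaseW

/-- The basic relators with their inverses. -/
def relInv : List (List (ℕ × ℕ)) := tailsC (relBaseW ++ relInvW)

/-- The relators of the second type of triangles. -/
def relTwo : List (List (ℕ × ℕ)) := tailsC relTwoW

/-- The relators of both types of triangles. -/
def relTri : List (List (ℕ × ℕ)) := tailsC (relTwoW ++ relOneW)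

/-- All words of a list are derived. -/
def allDerived (rels : List (List (ℕ × ℕ))) (Ls : List (List (ℕ × List ℕ))) (sts : List (List DStep)) : Bool :=
  (List.range Ls.length).all fun i => derives rels (sts.getD i []) (wordN [] (Ls.getD i []))

/-- Concatenation of normal words. -/
def joinN : NWord → NWord → NWord
  | (c, []), (c', L') => (mulC c c', L')
  | (c, (e, d) :: L), s => (c, (e, (joinN (d, L) s).1) :: (joinN (d, L) s).2)
termination_by s => s.2.length

/-- The normal word of a letter. -/
def letN (l : ℕ) : NWord := wordN (letW.getD l ([], [])).1 (letW.getD l ([], [])).2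

/-- The normal word of a word of letters. -/
def lettersN : List ℕ → NWord
  | [] => (oneC, [])
  | l :: w => joinN (letN l) (lettersN w)

/-- The code of `z`. -/
def zC : ℕ := codeP false (Cfsg.Lib.MTwelveRecog.el Cfsg.Lib.MTwelveRecog.cT)

theorem relInv_ok : allDerived relBase relInvW relInvSt = true := by decide +kernel

theorem relTwo_ok : allDerived relInv relTwoW relTwoSt = true := by decide +kernel

theorem relOne_ok : allDerived relTwo relOneW relOneSt = true := by decide +kernel

theorem inv_ok : ((List.range 6).all fun k =>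
    derives relTri (invSt.getD k []) (joinN (letN (2 * k)) (letN (2 * k + 1)))) = true := by decide +kernel

theorem comm_ok : ((List.range 6).all fun k => derives relTri (commSt.getD k [])
    (joinN (joinN (joinN (letN (2 * k)) (zC, [])) (letN (2 * k + 1))) (zC, []))) = true := by decide +kernel

theorem gen_lt : (genRels.all fun r => r.all fun l => Nat.blt l 12) = true := by decide +kernel

theorem gen_ok : ((List.range genRels.length).all fun i =>
    derives relTri (genSt.getD i []) (lettersN (genRels.getD i []))) = true := by decide +kernel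

theorem joinN_spec {G : Type u} [Group G] (S : Setup G) (g : G) :
    ∀ (a b : NWord), GoodW a → GoodW b → GoodW (joinN a b) ∧ S.nv g (joinN a b) = S.nv g a * S.nv g b
  | (c, []), (c', L'), ha, hb => by
    rw [joinN]
    obtain ⟨g1, v1⟩ := S.cv_mulC ha.1 hb.1
    refine ⟨⟨g1, hb.2⟩, ?_⟩
    simp only [Setup.nv, Setup.tlv, v1]
    group
  | (c, (e, d) :: L), b, ha, hb => by
    rw [joinN]
    have hd : GoodW (d, L) := ⟨ha.2 _ (List.mem_cons_self ..), fun p hp => ha.2 p (List.mem_cons_of_mem _ hp)⟩
    obtain ⟨⟨g1, g2⟩, hv⟩ := joinN_spec S g (d, L) b hd hb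
    refine ⟨⟨ha.1, fun p hp => ?_⟩, ?_⟩
    · rcases List.mem_cons.1 hp with rfl | hp
      exacts [g1, g2 p hp]
    · simp only [Setup.nv, Setup.tlv] at hv ⊢
      rw [mul_assoc (g ^ e), hv]
      group
termination_by a => a.2.length

namespace Trans

variable {G : Type u} [Group G] {S : Setup G} (T : Trans S)

/-- The six generators. -/
noncomputable def xg (k : ℕ) : G := S.nv T.g (letN (2 * k))

theorem letN_good (l : ℕ) : GoodW (letN l) := Trans0.wordN_good _ _

theorem rot_cube : S.φ rotM * S.φ rotM * S.φ rotM = 1 := by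
  rw [← map_mul, ← map_mul, show rotM * rotM * rotM = 1 from Subtype.ext (Equiv.ext (by decide +kernel)), map_one]

/-- The two basic relators. -/
theorem rel_facts : T.g * (S.φ rotM * S.φ rotM) * (T.g ^ 2 * S.φ rotM * (T.g ^ 2 * S.φ rotM)) = 1 ∧
    T.g * S.φ rotM * (T.g * S.φ rotM * (T.g * S.φ rotM)) = 1 := by
  set g := T.g
  set r := S.φ rotM
  have hr : r * r * r = 1 := rot_cube
  have hri : r⁻¹ = r * r := inv_eq_of_mul_eq_one_right (by rw [← mul_assoc, hr])
  have hgi : g⁻¹ = g ^ 2 := inv_eq_of_mul_eq_one_right (by rw [pow_two, ← mul_assoc, T.cube])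
  set X := g * r * r with hX
  have h : r * X * r⁻¹ = X * X := T.rel
  have hXi : X⁻¹ = r * g ^ 2 := by
    rw [hX, mul_assoc, mul_inv_rev, hgi, ← hri, inv_inv]
  have h1 : X * r⁻¹ * X⁻¹ * X⁻¹ * r = 1 := by
    calc X * r⁻¹ * X⁻¹ * X⁻¹ * r = r⁻¹ * (r * X * r⁻¹) * (X * X)⁻¹ * r := by group
      _ = 1 := by rw [h]; group
  constructor
  · rw [hXi] at h1
    rw [hX, hri] at h1
    calc g * (r * r) * (g ^ 2 * r * (g ^ 2 * r))
        = g * (r * r) * (r * r * r) * (g ^ 2 * r * (g ^ 2 * r)) := by rw [hr, mul_one]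
      _ = g * r * r * (r * r) * (r * g ^ 2) * (r * g ^ 2) * r := by group
      _ = 1 := h1
  · set P := X * X with hP
    have h2 : r * r * X * (r * r)⁻¹ = P * P := by
      calc r * r * X * (r * r)⁻¹ = r * (r * X * r⁻¹) * r⁻¹ := by simp only [mul_inv_rev, mul_assoc]
        _ = r * (X * X) * r⁻¹ := by rw [h]
        _ = (r * X * r⁻¹) * (r * X * r⁻¹) := by simp only [mul_assoc, inv_mul_cancel_left]
        _ = P * P := by rw [h]
    have e8 : (P * P) * (P * P) = X := by
      calc (P * P) * (P * P) = (r * X * r⁻¹) * (r * X * r⁻¹) * ((r * X * r⁻¹) * (r * X * r⁻¹)) := by rw [h]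
        _ = r * (P * P) * r⁻¹ := by simp only [hP, mul_assoc, inv_mul_cancel_left]
        _ = (r * r * r) * X * (r * r * r)⁻¹ := by
          rw [← h2]; simp only [mul_inv_rev, mul_assoc]
        _ = X := by rw [hr, one_mul, inv_one, mul_one]
    have h7 : X * ((P * P) * P) = 1 := by
      refine mul_left_cancel (a := X) ?_
      rw [mul_one]
      calc X * (X * ((P * P) * P)) = (P * P) * (P * P) := by simp only [hP, mul_assoc]
        _ = X := e8
    have hgr : g * r = X * (r * r) := by
      calc g * r = g * (r * r * r) * r := by rw [hr, mul_one]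
        _ = X * (r * r) := by rw [hX]; simp only [mul_assoc]
    rw [hgr]
    calc X * (r * r) * (X * (r * r) * (X * (r * r)))
        = X * (r * r * X * (r * r)⁻¹) * (r * r * r) * (r * X * r⁻¹) * (r * r * r) := by
          simp only [mul_inv_rev, mul_assoc, inv_mul_cancel_left]
      _ = X * ((r * r * X * (r * r)⁻¹) * (r * X * r⁻¹)) := by rw [hr]; simp only [mul_one, mul_assoc]
      _ = 1 := by rw [h2, h]; exact h7

theorem relBase_ok : T.RelsOK relBase := by
  intro R hR
  refine ⟨fun p hp => ?_, ?_⟩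
  · obtain ⟨L, -, rfl⟩ := List.mem_map.1 hR
    exact (Trans0.wordN_good [] L).2 p hp
  · have hc : relBase = [[(1, mulC (codeP false (rotM : Equiv.Perm (Fin 12))) (codeP false (rotM : Equiv.Perm (Fin 12)))),
        (2, codeP false (rotM : Equiv.Perm (Fin 12))), (2, codeP false (rotM : Equiv.Perm (Fin 12)))],
        [(1, codeP false (rotM : Equiv.Perm (Fin 12))), (1, codeP false (rotM : Equiv.Perm (Fin 12))),
        (1, codeP false (rotM : Equiv.Perm (Fin 12)))]] := by decide +kernel
    have hi : Setup.IsCode (codeP false (rotM : Equiv.Perm (Fin 12))) := ⟨_, rotM, rfl⟩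
    have hv : S.cv (codeP false (rotM : Equiv.Perm (Fin 12))) = S.φ rotM := by
      rw [S.cv_codeP, Setup.tb, if_neg Bool.false_ne_true, one_mul]
    rw [hc] at hR
    obtain ⟨hA, hB⟩ := T.rel_facts
    rcases List.mem_cons.1 hR with rfl | hR
    · simp only [Setup.tlv, (S.cv_mulC hi hi).2, hv, pow_one, mul_one]
      exact hA
    · rw [List.mem_singleton.1 hR]
      simp only [Setup.tlv, hv, pow_one, mul_one]
      exact hB

theorem derived_ok {rels : List (List (ℕ × ℕ))} (hR : T.RelsOK rels) {Ls : List (List (ℕ × List ℕ))}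
    {sts : List (List DStep)} (h : allDerived rels Ls sts = true) : T.RelsOK (tailsC Ls) := by
  intro R hR'
  obtain ⟨L, hL, rfl⟩ := List.mem_map.1 hR'
  refine ⟨(Trans0.wordN_good [] L).2, ?_⟩
  obtain ⟨i, hi, rfl⟩ := List.mem_iff_getElem.1 hL
  have hd := List.all_eq_true.1 h i (List.mem_range.2 hi)
  rw [List.getD_eq_getElem _ _ hi] at hd
  have hv := T.derives_sound hR (Trans0.wordN_good [] Ls[i]) hd
  rwa [Setup.nv, show (wordN [] Ls[i]).1 = oneC from rfl, S.cv_one, one_mul] at hv

theorem rels_append {A B : List (List (ℕ × List ℕ))} (hA : T.RelsOK (tailsC A)) (hB : T.RelsOK (tailsC B)) :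
    T.RelsOK (tailsC (A ++ B)) := by
  intro R hR
  rw [tailsC, List.map_append, List.mem_append] at hR
  exact hR.elim (hA R) (hB R)

theorem relTri_ok : T.RelsOK relTri := by
  have h1 : T.RelsOK relInv := T.rels_append T.relBase_ok (T.derived_ok T.relBase_ok relInv_ok)
  have h2 : T.RelsOK relTwo := T.derived_ok h1 relTwo_ok
  exact T.rels_append h2 (T.derived_ok h2 relOne_ok)

theorem let_inv {k : ℕ} (hk : k < 6) : S.nv T.g (letN (2 * k + 1)) = (T.xg k)⁻¹ := by
  obtain ⟨hg, hv⟩ := joinN_spec S T.g _ _ (letN_good (2 * k)) (letN_good (2 * k + 1))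
  have h := T.derives_sound T.relTri_ok hg (List.all_eq_true.1 inv_ok k (List.mem_range.2 hk))
  rw [hv] at h
  exact eq_inv_of_mul_eq_one_right h

theorem lettersN_spec : ∀ {w : List ℕ}, (∀ l ∈ w, l < 12) →
    GoodW (lettersN w) ∧ S.nv T.g (lettersN w) = wval T.xg w
  | [], _ => by
    refine ⟨⟨Setup.isCode_one, fun p hp => by simp [lettersN] at hp⟩, ?_⟩
    rw [lettersN, Setup.nv, Setup.tlv, S.cv_one, mul_one, Cfsg.Lib.J3Type.wval_nil]
  | l :: w, h => by
    obtain ⟨g1, v1⟩ := lettersN_spec (w := w) fun x hx => h x (List.mem_cons_of_mem _ hx)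
    obtain ⟨g2, v2⟩ := joinN_spec S T.g _ _ (letN_good l) g1
    refine ⟨g2, ?_⟩
    have hl := h l (List.mem_cons_self ..)
    rw [lettersN, v2, v1, Cfsg.Lib.J3Type.wval_cons]
    congr 1
    rw [lval, Cfsg.Lib.J3Type.idL, if_neg (by omega)]
    rcases Nat.mod_two_eq_zero_or_one l with e | e
    · rw [if_pos e]; unfold xg; rw [show 2 * (l / 2) = l by omega]
    · rw [if_neg (by omega), ← T.let_inv (k := l / 2) (by omega), show 2 * (l / 2) + 1 = l by omega]

/-- The relators of the generators hold. -/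
theorem genRels_val : ∀ r ∈ genRels, wval T.xg r = 1 := by
  intro r hr
  obtain ⟨i, hi, rfl⟩ := List.mem_iff_getElem.1 hr
  have hlt : ∀ l ∈ genRels[i], l < 12 := fun l hl => by
    simpa [Nat.blt_eq] using List.all_eq_true.1 (List.all_eq_true.1 gen_lt _ (List.getElem_mem hi)) l hl
  obtain ⟨hg, hv⟩ := T.lettersN_spec hlt
  have h := List.all_eq_true.1 gen_ok i (List.mem_range.2 hi)
  rw [List.getD_eq_getElem _ _ hi] at h
  rw [← hv]
  exact T.derives_sound T.relTri_ok hg h

/-- The generators centralise `z`. -/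
theorem xg_comm_z {k : ℕ} (hk : k < 6) : T.xg k * S.z = S.z * T.xg k := by
  have hzc : Setup.IsCode zC := ⟨_, elM _, rfl⟩
  have hz : GoodW (zC, ([] : List (ℕ × ℕ))) := ⟨hzc, fun p hp => by simp at hp⟩
  have hzv : S.nv T.g (zC, []) = S.z := by
    rw [Setup.nv, Setup.tlv, mul_one, zC]
    show S.cv (codeP false (elM _ : Equiv.Perm (Fin 12))) = _
    rw [S.cv_codeP, Setup.tb, if_neg Bool.false_ne_true, one_mul]
    rfl
  obtain ⟨g1, v1⟩ := joinN_spec S T.g _ _ (letN_good (2 * k)) hz
  obtain ⟨g2, v2⟩ := joinN_spec S T.g _ _ g1 (letN_good (2 * k + 1))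
  obtain ⟨g3, v3⟩ := joinN_spec S T.g _ _ g2 hz
  have h := T.derives_sound T.relTri_ok g3 (List.all_eq_true.1 comm_ok k (List.mem_range.2 hk))
  rw [v3, v2, v1, hzv, T.let_inv hk] at h
  have h' : T.xg k * S.z * (T.xg k)⁻¹ * S.z = 1 := h
  have hzz : S.z⁻¹ = S.z := inv_eq_of_mul_eq_one_right S.z_sq
  rw [mul_eq_one_iff_eq_inv, hzz, mul_inv_eq_iff_eq_mul] at h'
  exact h'

end Trans

end Cfsg.Lib.CoThreeM12
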