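import Cfsg.Agent.Lib.CoThreeM12.CzHom
import Cfsg.Agent.Lib.CoThreeM12.CzRules
import Cfsg.Agent.Lib.CoThreeM12.CzCertChecks
import Cfsg.Agent.Lib.J3Type.Table
import Cfsg.Agent.Lib.CoThreeType.CoverModel
import Cfsg.Agent.S0270

/-!
# The six generators give a copy of the model in the centraliser of `z`

The pairs of a generator and its permutation in the model generate at most `135 * 56 * 384` elements by the three
coset enumerations, and their second components generate the model, of order 2903040.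
-/

set_option autoImplicit false
set_option maxRecDepth 100000
set_option linter.style.haveILetI false

namespace Cfsg.Lib.CoThreeM12

open Cfsg Subgroup
open Cfsg.Lib.MTwelveRecog (stdTwelve stdGen el el_gen genWord el_zero stdGen_mem)
open Cfsg.Lib.J3Type (Cert wval lval invW freeRed invL idL wval_map wval_append wval_freeRed wval_invW wval_cons
  wval_nil Valid card_closure_le)
open Cfsg.Lib.PermAut (toP sameB invPairOk rep_of_invPairOk eq_of_sameB Rep)
open Cfsg.Lib.CoThreeType (P276 Cm tC tP tTab cm_valid card_Cm centSub t_spec cm_double_cover)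

universe u

/-! ### The rules -/

/-- Two words agree up to rotation and free reduction. -/
def rotEq (f r : List ℕ) : Bool :=
  (List.range (f.length + 1)).any fun k => freeRed (f.drop k ++ f.take k) == freeRed r

theorem wval_rotEq {G : Type u} [Group G] {g : ℕ → G} {f r : List ℕ} (hf : wval g f = 1)
    (h : rotEq f r = true) : wval g r = 1 := by
  obtain ⟨k, -, h⟩ := List.any_eq_true.1 h
  rw [beq_iff_eq] at h
  rw [← wval_freeRed r, ← h, wval_freeRed, wval_append]
  have h1 : wval g (f.take k) * wval g (f.drop k) = 1 := by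
    rw [← wval_append, List.take_append_drop]; exact hf
  exact mul_eq_one_comm.1 h1

/-- The rules of a certificate follow from the relators. -/
def rulesIn (C : Cert) : Bool :=
  C.rules.all fun ws => ws.all fun w =>
    (freeRed w).isEmpty || genRels.any fun f => rotEq f w || rotEq (invW f) w

set_option maxHeartbeats 4000000 in
theorem rules_in : rulesIn dCert = true ∧ rulesIn pCert = true ∧ rulesIn xCert = true := by
  refine ⟨?_, ?_, ?_⟩ <;> decide +kernel

theorem subs_in : dCert.subs = [] ∧ pCert.subs = dCert.gens ∧ xCert.subs = pCert.gens ∧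
    dCert.gens = [0, 2, 4] ∧ pCert.gens = [0, 2, 4, 6, 10] ∧ xCert.gens = [0, 2, 4, 6, 8, 10] :=
  ⟨rfl, rfl, rfl, rfl, rfl, rfl⟩

theorem rulesIn_val {G : Type u} [Group G] {g : ℕ → G} (hg : ∀ r ∈ genRels, wval g r = 1) {C : Cert}
    (h : rulesIn C = true) : ∀ ws ∈ C.rules, ∀ w ∈ ws, wval g w = 1 := by
  intro ws hws w hw
  have h' := List.all_eq_true.1 (List.all_eq_true.1 h ws hws) w hw
  rw [Bool.or_eq_true] at h'
  rcases h' with h' | h'
  · rw [← wval_freeRed w, List.isEmpty_iff.1 h', wval_nil]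
  · obtain ⟨f, hf, h''⟩ := List.any_eq_true.1 h'
    rw [Bool.or_eq_true] at h''
    rcases h'' with h'' | h''
    · exact wval_rotEq (hg f hf) h''
    · exact wval_rotEq (by rw [wval_invW, hg f hf, inv_one]) h''

/-! ### The letters in the model -/

/-- The table of a letter. -/
def xTab (l : ℕ) : ℕ := xTabs.getD l 0

/-- A generator in the model. -/
noncomputable def xP (k : ℕ) : P276 := toP 9 276 (xTab (2 * k))

theorem xTab_pairs : ((List.range 6).all fun k => invPairOk 9 276 (xTab (2 * k)) (xTab (2 * k + 1))) = true := by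
  decide +kernel

theorem xTab_spec {l : ℕ} (hl : l < 12) :
    Rep 9 (toP 9 276 (xTab l)) (xTab l) ∧ toP 9 276 (xTab l) = lval xP l := by
  obtain ⟨h1, h2, h3⟩ := rep_of_invPairOk (N := 276)
    (List.all_eq_true.1 xTab_pairs (l / 2) (List.mem_range.2 (by omega)))
  rw [lval, idL, if_neg (by omega)]
  rcases Nat.mod_two_eq_zero_or_one l with e | e
  · rw [if_pos e, xP, show 2 * (l / 2) = l by omega]
    rw [show 2 * (l / 2) = l by omega] at h1
    exact ⟨h1, rfl⟩
  · rw [if_neg (by omega), xP, ← h3, show 2 * (l / 2) + 1 = l by omega]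
    rw [show 2 * (l / 2) + 1 = l by omega] at h2
    exact ⟨h2, rfl⟩

/-- The letters of a word are below twelve. -/
def okX (w : List ℕ) : Bool := w.all fun l => Nat.blt l 12

theorem okX_lt {w : List ℕ} (h : okX w = true) : ∀ l ∈ w, l < 12 := fun l hl =>
  Nat.lt_of_succ_le (Nat.le_of_ble_eq_true (List.all_eq_true.1 h l hl))

theorem xTab_word : ∀ {w : List ℕ}, (∀ l ∈ w, l < 12) →
    (∀ T ∈ w.map xTab, Rep 9 (toP 9 276 T) T) ∧ ((w.map xTab).map (toP 9 276)).prod = wval xP w
  | [], _ => ⟨by simp, rfl⟩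
  | l :: w, h => by
    obtain ⟨h1, h2⟩ := xTab_spec (h l (List.mem_cons_self ..))
    obtain ⟨i1, i2⟩ := xTab_word (w := w) fun x hx => h x (List.mem_cons_of_mem _ hx)
    refine ⟨fun T hT => ?_, ?_⟩
    · rcases List.mem_cons.1 hT with rfl | hT
      exacts [h1, i1 T hT]
    · rw [wval_cons, ← h2, ← i2]
      rfl

theorem model_rels : (genRels.all fun r => okX r && sameB 9 276 (r.map xTab) []) = true := by decide +kernel

theorem xP_rels : ∀ r ∈ genRels, wval xP r = 1 := by
  intro r hr
  have h := List.all_eq_true.1 model_rels r hr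
  rw [Bool.and_eq_true] at h
  obtain ⟨r1, r2⟩ := xTab_word (okX_lt h.1)
  rw [← r2]
  simpa using eq_of_sameB r1 (by simp) h.2

/-- The targets of the four words of the model. -/
def modelTarget : List ℕ := [centSub.g0, centSub.g1, tTab, vertTab]

theorem model_words : ((List.range 4).all fun i => okX (modelWords.getD i []) &&
    sameB 9 276 ((modelWords.getD i []).map xTab) [modelTarget.getD i 0]) = true := by decide +kernel

theorem vert_pair : invPairOk 9 276 vertTab vertTab = true := by decide +kernel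

theorem model_val {i : ℕ} (hi : i < 4) :
    okX (modelWords.getD i []) = true ∧ wval xP (modelWords.getD i []) = toP 9 276 (modelTarget.getD i 0) := by
  have h := List.all_eq_true.1 model_words i (List.mem_range.2 hi)
  rw [Bool.and_eq_true] at h
  refine ⟨h.1, ?_⟩
  obtain ⟨r1, r2⟩ := xTab_word (okX_lt h.1)
  rw [← r2]
  have hR : Rep 9 (toP 9 276 (modelTarget.getD i 0)) (modelTarget.getD i 0) := by
    interval_cases i
    · exact cm_valid.g0
    · exact cm_valid.g1
    · exact t_spec.1
    · exact (rep_of_invPairOk vert_pair).1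
  simpa using eq_of_sameB r1 (by simpa using hR) h.2

theorem swap_word : okX [10, 0, 4, 3, 11] = true ∧ okX [0, 4, 3, 0, 0, 0, 0] = true ∧
    sameB 9 276 ([10, 0, 4, 3, 11].map xTab) ([0, 4, 3, 0, 0, 0, 0].map xTab) = true := by
  refine ⟨?_, ?_, ?_⟩ <;> decide +kernel

theorem d_words : lettersN [0, 0, 0, 0] = (zC, []) ∧ lettersN [0, 4, 3] = (codeP true 1, []) ∧
    lettersN [3, 5] = (codeP false ((genWord 1).map stdGen).prod, []) ∧
    lettersN [1, 1, 2, 1] = (codeP false ((genWord 2).map stdGen).prod, []) ∧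
    modelWords.getD 2 [] = [0, 0, 0, 0] ∧ modelWords.getD 3 [] = [0, 4, 3] := by
  refine ⟨?_, ?_, ?_, ?_, ?_, ?_⟩ <;> decide +kernel

namespace Trans

variable {G : Type u} [Group G] {S : Setup G} (T : Trans S)

/-- A generator with its permutation. -/
noncomputable def xW (k : ℕ) : G × P276 := (T.xg k, xP k)

theorem wval_xW (w : List ℕ) : wval T.xW w = (wval T.xg w, wval xP w) :=
  Prod.ext (wval_map (MonoidHom.fst G P276) T.xW w) (wval_map (MonoidHom.snd G P276) T.xW w)

/-- The group of the letters of a certificate. -/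
noncomputable def gset (gens : List ℕ) : Subgroup (G × P276) :=
  closure {y | ∃ j < gens.length, lval T.xW (gens.getD j idL) = y}

theorem gset_step [Finite G] {C : Cert} (hr : rulesIn C = true) {n : ℕ}
    (hok : (∀ i < C.nFacts, Cfsg.Lib.J3Type.factOK C i = true) ∧
      (∀ c < C.nLive, Cfsg.Lib.J3Type.rowOK C c = true) ∧ C.live.get 15 0 = 0 ∧ C.nLive = n) (hn : 0 < n)
    {H : Subgroup (G × P276)} (hs : ∀ s ∈ C.subs, lval T.xW s ∈ H) :
    Nat.card (T.gset C.gens) ≤ n * Nat.card H := by
  have hrel : ∀ r ∈ genRels, wval T.xW r = 1 := fun r h => by rw [T.wval_xW, T.genRels_val r h, xP_rels r h]; rfl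
  have h := card_closure_le (C := C) (g := T.xW) (H := H) ⟨rulesIn_val hrel hr, hs⟩ hok.1 hok.2.2.1 hok.2.1
    (by omega)
  rwa [hok.2.2.2] at h

theorem subs_mem {gens : List ℕ} : ∀ s ∈ gens, lval T.xW s ∈ T.gset gens := fun s hs => by
  obtain ⟨j, hj, rfl⟩ := List.mem_iff_getElem.1 hs
  exact subset_closure ⟨j, hj, by rw [List.getD_eq_getElem _ _ hj]⟩

theorem card_gset [Finite G] : Nat.card (T.gset [0, 2, 4, 6, 8, 10]) ≤ 2903040 := by
  obtain ⟨s1, s2, s3, -, -, g6⟩ := subs_in
  have h1 : Nat.card (T.gset dCert.gens) ≤ 384 * Nat.card (⊥ : Subgroup (G × P276)) :=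
    T.gset_step rules_in.1 dCert_ok (by norm_num) (by rw [s1]; simp)
  have h2 : Nat.card (T.gset pCert.gens) ≤ 56 * Nat.card (T.gset dCert.gens) :=
    T.gset_step rules_in.2.1 pCert_ok (by norm_num) (by rw [s2]; exact T.subs_mem)
  have h3 : Nat.card (T.gset xCert.gens) ≤ 135 * Nat.card (T.gset pCert.gens) :=
    T.gset_step rules_in.2.2 xCert_ok (by norm_num) (by rw [s3]; exact T.subs_mem)
  rw [g6] at h3
  rw [Subgroup.card_bot] at h1
  omega

/-- The group of the pairs. -/
noncomputable def pairs : Subgroup (G × P276) := T.gset [0, 2, 4, 6, 8, 10]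

theorem xW_mem {k : ℕ} (hk : k < 6) : T.xW k ∈ T.pairs :=
  subset_closure ⟨k, hk, by
    rw [lval]; interval_cases k <;> rfl⟩

theorem wval_mem : ∀ {w : List ℕ}, (∀ l ∈ w, l < 12) → wval T.xW w ∈ T.pairs
  | [], _ => by rw [wval_nil]; exact one_mem _
  | l :: w, h => by
    have hl := h l (List.mem_cons_self ..)
    rw [wval_cons]
    refine mul_mem ?_ (wval_mem fun x hx => h x (List.mem_cons_of_mem _ hx))
    rw [lval, idL, if_neg (by omega)]
    split
    · exact T.xW_mem (by omega)
    · exact inv_mem (T.xW_mem (by omega))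

theorem fst_comm {w : G × P276} (hw : w ∈ T.pairs) : w.1 * S.z = S.z * w.1 := by
  have hle : T.pairs ≤ (centralizer ({S.z} : Set G)).comap (MonoidHom.fst G P276) := by
    rw [pairs, gset, closure_le]
    rintro _ ⟨j, hj, rfl⟩
    refine mem_centralizer_singleton_iff.2 ?_
    simp only [List.length_cons, List.length_nil] at hj
    have e : lval T.xW ([0, 2, 4, 6, 8, 10].getD j idL) = T.xW j := by interval_cases j <;> rfl
    rw [e]
    exact T.xg_comm_z (by omega)
  exact mem_centralizer_singleton_iff.1 (hle hw)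

theorem snd_injective [Finite G] :
    Function.Injective ((MonoidHom.snd G P276).comp T.pairs.subtype) ∧
      ((MonoidHom.snd G P276).comp T.pairs.subtype).range = Cm := by
  set p := (MonoidHom.snd G P276).comp T.pairs.subtype
  have hle : Cm ≤ p.range := by
    rw [show Cm = centSub.grp 9 276 from rfl, Cfsg.Lib.PermAut.Sub.grp, closure_le]
    rintro x (rfl | rfl)
    · obtain ⟨h, e⟩ := model_val (i := 0) (by norm_num)
      exact ⟨⟨_, T.wval_mem (okX_lt h)⟩, (congrArg Prod.snd (T.wval_xW _)).trans e⟩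
    · obtain ⟨h, e⟩ := model_val (i := 1) (by norm_num)
      exact ⟨⟨_, T.wval_mem (okX_lt h)⟩, (congrArg Prod.snd (T.wval_xW _)).trans e⟩
  have h1 : Nat.card p.range ≤ Nat.card T.pairs :=
    Nat.card_le_card_of_surjective p.rangeRestrict p.rangeRestrict_surjective
  have h2 : Nat.card T.pairs ≤ 2903040 := T.card_gset
  have h3 : 2903040 ≤ Nat.card p.range := card_Cm ▸ Subgroup.card_le_of_le hle
  have hr : p.range = Cm := (eq_of_le_of_card_ge hle (by rw [card_Cm]; omega)).symm
  refine ⟨?_, hr⟩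
  have hb : Function.Bijective p.rangeRestrict :=
    (Nat.bijective_iff_surjective_and_card _).2 ⟨p.rangeRestrict_surjective, by omega⟩
  exact fun a b e => hb.1 (Subtype.ext e)

/-- The pairs as the model. -/
noncomputable def pairsEquiv [Finite G] : T.pairs ≃* Cm :=
  (MonoidHom.ofInjective T.snd_injective.1).trans (MulEquiv.subgroupCongr T.snd_injective.2)

theorem pairsEquiv_val [Finite G] (w : T.pairs) : ((T.pairsEquiv w : Cm) : P276) = (w : G × P276).2 := rfl

/-- The homomorphism from the model. -/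
noncomputable def xpsi [Finite G] : Cm →* G :=
  ((MonoidHom.fst G P276).comp T.pairs.subtype).comp T.pairsEquiv.symm.toMonoidHom

theorem xpsi_word [Finite G] {w : List ℕ} (hw : okX w = true) (h : wval xP w ∈ Cm) :
    T.xpsi ⟨wval xP w, h⟩ = wval T.xg w := by
  have e : T.pairsEquiv ⟨_, T.wval_mem (okX_lt hw)⟩ = ⟨wval xP w, h⟩ :=
    Subtype.ext ((T.pairsEquiv_val _).trans (congrArg Prod.snd (T.wval_xW w)))
  show ((T.pairsEquiv.symm ⟨wval xP w, h⟩ : T.pairs) : G × P276).1 = _
  rw [← e, MulEquiv.symm_apply_apply]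
  exact congrArg Prod.fst (T.wval_xW w)

theorem wval_code {w : List ℕ} (hw : okX w = true) {c : ℕ} (h : lettersN w = (c, [])) :
    wval T.xg w = S.cv c := by
  obtain ⟨-, hv⟩ := T.lettersN_spec (okX_lt hw)
  rw [← hv, h, Setup.nv, Setup.tlv, mul_one]

theorem wval_mem_range [Finite G] {w : List ℕ} (hw : okX w = true) : wval T.xg w ∈ T.xpsi.range := by
  have h : wval xP w ∈ Cm := by
    rw [← T.snd_injective.2]
    exact ⟨⟨_, T.wval_mem (okX_lt hw)⟩, congrArg Prod.snd (T.wval_xW w)⟩
  exact ⟨⟨_, h⟩, T.xpsi_word hw h⟩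

include T in
/-- The copy of the model in the centraliser of `z`. -/
theorem exists_xhom [Finite G] : Nonempty (XHom S) := by
  obtain ⟨dz, dt, da, db, wz, wt⟩ := d_words
  obtain ⟨okz, vz⟩ := model_val (i := 2) (by norm_num)
  obtain ⟨okt, vt⟩ := model_val (i := 3) (by norm_num)
  rw [wz] at okz vz
  rw [wt] at okt vt
  have cvt : S.cv (codeP true (1 : Equiv.Perm (Fin 12))) = S.t := by
    have h := S.cv_codeP true 1
    rw [map_one, mul_one] at h
    exact h
  have cvz : S.cv zC = S.z := by
    rw [zC]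
    show S.cv (codeP false (elM _ : Equiv.Perm (Fin 12))) = _
    rw [S.cv_codeP, Setup.tb, if_neg Bool.false_ne_true, one_mul]
    rfl
  have gz : wval T.xg [0, 0, 0, 0] = S.z := (T.wval_code okz dz).trans cvz
  have gt : wval T.xg [0, 4, 3] = S.t := (T.wval_code okt dt).trans cvt
  have hzP : wval xP [0, 0, 0, 0] = tP := vz
  have htP : wval xP [0, 4, 3] = vertP := vt
  have hzmem : wval xP [0, 0, 0, 0] ∈ Cm := hzP.symm ▸ t_spec.2.2.2.1
  have htmem : wval xP [0, 4, 3] ∈ Cm := by
    rw [← T.snd_injective.2]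
    exact ⟨⟨_, T.wval_mem (okX_lt okt)⟩, congrArg Prod.snd (T.wval_xW _)⟩
  have map_z : T.xpsi tC = S.z := by
    rw [show tC = (⟨_, hzmem⟩ : Cm) from Subtype.ext hzP.symm, T.xpsi_word okz hzmem, gz]
  have inj : Function.Injective T.xpsi := by
    obtain ⟨hc2, ⟨e⟩, hns⟩ := cm_double_cover
    haveI : Finite Cm := Nat.finite_of_card_ne_zero (by rw [card_Cm]; norm_num)
    haveI hsim : IsSimpleGroup Cfsg.Lib.SpSix.SpGrp := by
      have hs := Cfsg.Agent.S0270.result (F := ZMod 2) 3 (by norm_num) (by norm_num)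
      exact (MulEquiv.trans (QuotientGroup.quotientBot (G := Cfsg.Lib.SpSix.SpGrp)).symm
        (QuotientGroup.quotientMulEquivOfEq Cfsg.Lib.SpSix.center_Sp.symm)).isSimpleGroup
    haveI : IsSimpleGroup (Cm ⧸ center Cm) := e.isSimpleGroup
    have htc : tC ∈ center Cm := mem_center_iff.2 fun g => Subtype.ext (t_spec.2.2.2.2 _ g.2)
    have ht1 : (tC : Cm) ≠ 1 := fun h => t_spec.2.1 (congrArg Subtype.val h)
    have htk : tC ∉ T.xpsi.ker := fun h => S.z_ne_one (map_z ▸ h)
    have hinf : center Cm ⊓ T.xpsi.ker = ⊥ := by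
      refine eq_bot_iff.2 fun x hx => ?_
      by_contra hx1
      have hd := Subgroup.card_dvd_of_le (inf_le_left : center Cm ⊓ T.xpsi.ker ≤ center Cm)
      rw [hc2] at hd
      rcases (Nat.dvd_prime Nat.prime_two).1 hd with h1 | h1
      · rw [Subgroup.card_eq_one] at h1; exact hx1 (h1 ▸ hx)
      · have he := eq_of_le_of_card_ge (inf_le_left : center Cm ⊓ T.xpsi.ker ≤ center Cm) (by rw [h1, hc2])
        exact htk (inf_eq_left.1 he htc)
    have hn : (T.xpsi.ker.map (QuotientGroup.mk' (center Cm))).Normal :=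
      Subgroup.Normal.map inferInstance _ (QuotientGroup.mk'_surjective _)
    rcases IsSimpleGroup.eq_bot_or_eq_top_of_normal _ hn with h | h
    · rw [← MonoidHom.ker_eq_bot_iff]
      rw [Subgroup.map_eq_bot_iff, QuotientGroup.ker_mk'] at h
      rw [← hinf]
      exact le_antisymm (le_inf h le_rfl) inf_le_right
    · exfalso
      refine hns T.xpsi.ker (Subgroup.isComplement'_of_disjoint_and_mul_eq_univ (disjoint_iff.2 hinf) ?_)
      refine Set.eq_univ_of_forall fun x => ?_
      have hx : (x : Cm ⧸ center Cm) ∈ T.xpsi.ker.map (QuotientGroup.mk' (center Cm)) := h ▸ Subgroup.mem_top _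
      obtain ⟨k, hk, hke⟩ := hx
      have hxk : x * k⁻¹ ∈ center Cm := by
        rw [← QuotientGroup.eq_one_iff, QuotientGroup.mk_mul, QuotientGroup.mk_inv]
        rw [show (k : Cm ⧸ center Cm) = (x : Cm ⧸ center Cm) from hke, mul_inv_cancel]
      exact ⟨x * k⁻¹, hxk, k, hk, inv_mul_cancel_right x k⟩
  have tmem : S.t ∈ T.xpsi.range := gt ▸ T.wval_mem_range okt
  have fmem : ∀ i : Fin 192, S.f i ∈ T.xpsi.range := by
    have hgen : ∀ k, S.φ (wordM (genWord k)) ∈ T.xpsi.range := by
      have key : ∀ {w : List ℕ} {k : ℕ}, okX w = true →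
          lettersN w = (codeP false ((genWord k).map stdGen).prod, []) → S.φ (wordM (genWord k)) ∈ T.xpsi.range := by
        intro w k hw h
        have hv := T.wval_code hw h
        have e : S.cv (codeP false ((genWord k).map stdGen).prod) = S.φ (wordM (genWord k)) := by
          show S.cv (codeP false (wordM (genWord k) : Equiv.Perm (Fin 12))) = _
          rw [S.cv_codeP, Setup.tb, if_neg Bool.false_ne_true, one_mul]
        rw [← e, ← hv]
        exact T.wval_mem_range hw
      intro k
      match k with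
      | 1 => exact key (by decide +kernel) da
      | 2 => exact key (by decide +kernel) db
      | 0 => rw [show wordM (genWord 0) = 1 from rfl, map_one]; exact one_mem _
      | k + 3 => rw [show wordM (genWord (k + 3)) = 1 from rfl, map_one]; exact one_mem _
    intro i
    obtain ⟨n, hn⟩ := i
    induction n using Nat.strong_induction_on with
    | _ n ih =>
      by_cases h0 : (⟨n, hn⟩ : Fin 192) = 0
      · rw [h0, S.fone]; exact one_mem _
      · have h := fun p => (el_gen ⟨n, hn⟩ p).resolve_left h0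
        set kk := Cfsg.Lib.MTwelveRecog.byteAt Cfsg.Lib.MTwelveRecog.Table.parGenN (⟨n, hn⟩ : Fin 192)
        set j : Fin 192 := ⟨Cfsg.Lib.MTwelveRecog.byteAt Cfsg.Lib.MTwelveRecog.Table.parPrevN
          (⟨n, hn⟩ : Fin 192) % 192, Nat.mod_lt _ (by norm_num)⟩
        have e : elM ⟨n, hn⟩ = wordM (genWord kk) * elM j := Subtype.ext (Equiv.ext fun p => (h p).2).symm
        rw [Setup.f_eq, e, map_mul]
        exact mul_mem (hgen kk) (ih _ (lt_of_le_of_lt (Nat.mod_le _ _) (h 0).1) _)
  refine ⟨{
    ψ := T.xpsi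
    inj := inj
    map_z := map_z
    comm_z := fun x => T.fst_comm (T.pairsEquiv.symm x).2
    cent_tz := fun g h1 h2 => ?_
    vert := ⟨htP ▸ htmem, ?_⟩
    swap := ?_ }⟩
  · obtain ⟨i, rfl | rfl⟩ := (S.mem_iff_tz g).1 ⟨h1, h2⟩
    · exact fmem i
    · exact mul_mem tmem (fmem i)
  · rw [show (⟨vertP, htP ▸ htmem⟩ : Cm) = ⟨_, htmem⟩ from Subtype.ext htP.symm, T.xpsi_word okt htmem, gt]
  · obtain ⟨s1, s2, s3⟩ := swap_word
    obtain ⟨r1, v1⟩ := xTab_word (okX_lt s1)
    obtain ⟨r2, v2⟩ := xTab_word (okX_lt s2)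
    have hP : wval xP [10, 0, 4, 3, 11] = wval xP [0, 4, 3, 0, 0, 0, 0] := by
      rw [← v1, ← v2]; exact eq_of_sameB r1 r2 s3
    have hW : wval T.xW [10, 0, 4, 3, 11] = wval T.xW [0, 4, 3, 0, 0, 0, 0] := by
      have := T.snd_injective.1 (a₁ := ⟨_, T.wval_mem (okX_lt s1)⟩) (a₂ := ⟨_, T.wval_mem (okX_lt s2)⟩)
        (by show (wval T.xW _).2 = (wval T.xW _).2; rw [T.wval_xW, T.wval_xW]; exact hP)
      exact congrArg Subtype.val this
    have hG := congrArg Prod.fst hW
    rw [T.wval_xW, T.wval_xW] at hG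
    have h5 : T.xg 5 ∈ T.xpsi.range := by
      have := T.wval_mem_range (w := [10]) (by decide +kernel)
      simpa [wval, lval, idL] using this
    obtain ⟨x, hx⟩ := h5
    refine ⟨x, ?_⟩
    rw [hx, ← gt, ← gz]
    simpa [wval, lval, idL, mul_assoc] using hG

end Trans

end Cfsg.Lib.CoThreeM12
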