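import Cfsg.Agent.Lib.CoThreeM12.CzDefs
import Cfsg.Agent.Lib.CoThreeM12.CzModelData
import Cfsg.Agent.Lib.CoThreeType.Model

/-!
# The model of `2.Sp6(2)` inside the centraliser of `z`

`XHom S` is a copy of the model of `2.Sp6(2)` in the centraliser of `z`, containing `t`, the common centraliser of
`t` and `z`, and an element exchanging `t` and `t * z`.
-/

set_option autoImplicit false
set_option maxRecDepth 100000

namespace Cfsg.Lib.CoThreeM12

open Cfsg.Lib.PermAut (toP sameB)
open Cfsg.Lib.CoThreeType (Cm tC)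

universe u

/-- The element of the model corresponding to `t`. -/
noncomputable def vertP : Cfsg.Lib.CoThreeType.P276 := toP 9 276 vertTab

/-- A copy of the model in the centraliser of `z`. -/
structure XHom {G : Type u} [Group G] (S : Setup G) where
  /-- the embedding -/
  ψ : Cm →* G
  inj : Function.Injective ψ
  map_z : ψ tC = S.z
  comm_z : ∀ x, ψ x * S.z = S.z * ψ x
  cent_tz : ∀ g : G, g * S.t = S.t * g → g * S.z = S.z * g → g ∈ ψ.range
  vert : ∃ h : vertP ∈ Cm, ψ ⟨vertP, h⟩ = S.t
  swap : ∃ x : Cm, ψ x * S.t * (ψ x)⁻¹ = S.t * S.z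

end Cfsg.Lib.CoThreeM12
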