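import Cfsg.Agent.Lib.CoThreeM12.Transporter

/-!
# The gauge of the element permuting `t`, `a`, `t * a`

`d = g r r` acts on `E = <t, a, el 166>` with order 7, so `d ^ 7 = 1` and `r d r⁻¹ = e d d` with `e` in `E`;
`g ^ 3 = 1` leaves `e = 1` and `e = a`, which are exchanged by `g ↦ t g`.
-/

set_option autoImplicit false
set_option linter.style.haveILetI false
set_option linter.unusedSectionVars false
set_option maxRecDepth 100000

namespace Cfsg.Lib.CoThreeM12

open Cfsg Cfsg.Lib.MTwelveRecog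

universe u

/-- The addition of the indices of `E`. -/
def exor (i j : Fin 8) : Fin 8 := ⟨Nat.xor i.val j.val % 8, Nat.mod_lt _ (by norm_num)⟩

/-- The index in the table of the part of an element of `E` in the copy of M12. -/
def eIdx : Fin 8 → Fin 192 := ![0, 0, 55, 55, 166, 166, 76, 76]

/-- The action of the element of order 7 on `E`. -/
def eD : Fin 8 → Fin 8 := ![0, 2, 4, 6, 3, 1, 7, 5]

/-- The action of `rotM` on `E`. -/
def eR : Fin 8 → Fin 8 := ![0, 1, 4, 5, 6, 7, 2, 3]

theorem eIdx_mul : ∀ i j : Fin 8, cMul (eIdx i) (eIdx j) = eIdx (exor i j) := by decide +kernel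

theorem exor_split : ∀ i : Fin 8, ∃ a b c : Bool,
    i = exor (exor (if a then 1 else 0) (if b then 2 else 0)) (if c then 4 else 0) ∧
    eD i = exor (exor (if a then 2 else 0) (if b then 4 else 0)) (if c then 3 else 0) ∧
    eR i = exor (exor (if a then 1 else 0) (if b then 4 else 0)) (if c then 6 else 0) := by decide +kernel

theorem eD_facts : ∀ i : Fin 8, (eD i = i → i = 0) ∧ eD (eD (eD (eD (eD (eD (eD i)))))) = i ∧
    eR (eR (eR i)) = i ∧ eR (eD (eR (eR i))) = eD (eD i) ∧ ∃ j, eD (eD j) = i := by decide +kernel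

theorem gauge_two : ∀ i : Fin 8,
    exor (eD i) (eD (eD (eD (exor (eR i) (exor i (eD (eD i))))))) = 0 →
      i = 0 ∨ i = 2 := by decide +kernel

theorem exor_eq_zero : ∀ i j : Fin 8, exor i j = 0 → i = j := by decide +kernel

namespace Setup

variable {G : Type u} [Group G] (S : Setup G)

/-- The elements of `E`. -/
noncomputable def eM (i : Fin 8) : G := (bif Nat.beq (i.val % 2) 1 then S.t else 1) * S.f (eIdx i)

theorem eM_mul (i j : Fin 8) : S.eM i * S.eM j = S.eM (exor i j) := by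
  have e : (bif Nat.beq (i.val % 2) 1 then S.t else 1) * (bif Nat.beq (j.val % 2) 1 then S.t else 1) =
      (bif Nat.beq ((exor i j).val % 2) 1 then S.t else 1) := by
    have h : ∀ i j : Fin 8, Nat.beq ((exor i j).val % 2) 1 = xor (Nat.beq (i.val % 2) 1) (Nat.beq (j.val % 2) 1) := by
      decide +kernel
    rw [h]
    cases Nat.beq (i.val % 2) 1 <;> cases Nat.beq (j.val % 2) 1 <;> simp [S.t_sq]
  have c : S.f (eIdx i) * (bif Nat.beq (j.val % 2) 1 then S.t else 1) =
      (bif Nat.beq (j.val % 2) 1 then S.t else 1) * S.f (eIdx i) := by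
    cases Nat.beq (j.val % 2) 1
    · simp
    · exact S.comm_f _
  rw [eM, eM, eM, ← e, ← eIdx_mul, S.fmul]
  rw [mul_assoc, ← mul_assoc (S.f (eIdx i)), c]
  simp only [mul_assoc]

theorem eM_zero : S.eM 0 = 1 := by
  show (1 : G) * S.f 0 = 1
  rw [S.fone, one_mul]

theorem eM_gen : S.eM 1 = S.t ∧ S.eM 2 = S.a ∧ S.eM 3 = S.t * S.a ∧ S.eM 4 = S.f 166 ∧
    S.eM 6 = S.a * S.f 166 := by
  have h : S.f 76 = S.a * S.f 166 := by rw [a, ← S.fmul, show cMul 55 166 = 76 by decide +kernel]
  refine ⟨?_, ?_, ?_, ?_, ?_⟩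
  · show S.t * S.f 0 = S.t
    rw [S.fone, mul_one]
  · show (1 : G) * S.f 55 = S.a
    rw [one_mul]; rfl
  · rfl
  · show (1 : G) * S.f 166 = S.f 166
    rw [one_mul]
  · show (1 : G) * S.f 76 = S.a * S.f 166
    rw [one_mul, h]

theorem eM_inj {i : Fin 8} (h : S.eM i = 1) : i = 0 := by
  have h0 : ∀ i : Fin 8, Nat.beq (i.val % 2) 1 = false → eIdx i = 0 → i = 0 := by decide +kernel
  rw [eM] at h
  cases hb : Nat.beq (i.val % 2) 1 <;> rw [hb] at h
  · exact h0 i hb (S.f_eq_one_iff.1 (by simpa using h))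
  · exact absurd (h.trans S.fone.symm) (S.tf_ne_f _ 0)

/-- An automorphism moving the generators of `E` moves all of `E`. -/
theorem eM_map (F : G →* G) {D : Fin 8 → Fin 8} {p q w : Fin 8}
    (hD : ∀ i : Fin 8, ∃ a b c : Bool, i = exor (exor (if a then 1 else 0) (if b then 2 else 0)) (if c then 4 else 0) ∧
      D i = exor (exor (if a then p else 0) (if b then q else 0)) (if c then w else 0))
    (h1 : F (S.eM 1) = S.eM p) (h2 : F (S.eM 2) = S.eM q) (h4 : F (S.eM 4) = S.eM w) (i : Fin 8) :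
    F (S.eM i) = S.eM (D i) := by
  obtain ⟨a, b, c, e, e'⟩ := hD i
  rw [e', e]
  simp only [← eM_mul, map_mul]
  cases a <;> cases b <;> cases c <;>
    simp only [if_true, if_false, Bool.false_eq_true, h1, h2, h4, eM_zero, map_one]

/-- The elements centralising `E`, `z` and the element of order 3. -/
theorem mem_eM {v : G} (hE : ∀ i, Commute v (S.eM i)) (hz : Commute v S.z) (hs : Commute v (S.φ threeM)) :
    ∃ i, v = S.eM i := by
  obtain ⟨h1, h2, -, h4, -⟩ := S.eM_gen
  have ct : v * S.t = S.t * v := by have := (hE 1).eq; rwa [h1] at this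
  obtain ⟨x, hx⟩ := S.mem v ct
  have hc : ∀ y : stdTwelve, Commute v (S.φ y) → x * y = y * x := by
    intro y hy
    have e := hy.eq
    rcases hx with hx | hx <;> rw [hx] at e
    · exact S.inj (by rw [map_mul, map_mul, e])
    · refine S.inj (mul_left_cancel (a := S.t) ?_)
      rw [map_mul, map_mul, ← mul_assoc, e, ← mul_assoc, S.comm, mul_assoc]
  have ha : Commute v (S.φ (elM 55)) := by have := hE 2; rwa [h2] at this
  have hu : Commute v (S.φ (elM 166)) := by have := hE 4; rwa [h4] at this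
  have key : ∀ (j : Fin 4), x = elM (![0, 55, 166, 76] j) → ∃ i, v = S.eM i := by
    intro j hj
    rcases hx with hx | hx
    · refine ⟨![0, 2, 4, 6] j, ?_⟩
      rw [hx, hj]
      fin_cases j <;> exact (one_mul _).symm
    · refine ⟨![1, 3, 5, 7] j, ?_⟩
      rw [hx, hj]
      fin_cases j <;> rfl
  rcases CenA.cent_ztt (hc _ ha) (hc _ hz) (hc _ hs) (hc _ hu) with e | e | e | e
  · exact key 0 (e.trans elM_zero.symm)
  · exact key 1 e
  · exact key 2 e
  · exact key 3 e

end Setup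

namespace Trans0

variable {G : Type u} [Group G] {S : Setup G} (T : Trans0 S)

theorem g_three : Commute T.g (S.φ threeM) := by
  obtain ⟨-, -, -, ⟨w, hw⟩, -⟩ := CenA.facts
  rw [hw]
  exact S.commute_word T.g_z T.g_five w

/-- The candidate `t * g`. -/
def flip : Trans0 S where
  g := S.t * T.g
  cube := by
    have hA : ∀ v, T.g * (S.t * v) = S.a * (T.g * v) := fun v => by
      rw [← mul_assoc, ← mul_assoc, ← T.g_t, inv_mul_cancel_right]
    have hB : ∀ v, T.g * (S.a * v) = S.t * (S.a * (T.g * v)) := fun v => by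
      rw [← mul_assoc, ← mul_assoc S.a, ← mul_assoc S.t, ← mul_assoc S.t S.a, ← T.g_a, inv_mul_cancel_right]
    calc S.t * T.g * (S.t * T.g) * (S.t * T.g) = S.t * (T.g * (S.t * (T.g * (S.t * T.g)))) := by
          simp only [mul_assoc]
      _ = S.t * (S.a * (S.t * (S.a * (T.g * T.g * T.g)))) := by
          rw [hA, hA, hB]; simp only [mul_assoc]
      _ = 1 := by
          rw [T.cube, mul_one, ← mul_assoc, ← mul_assoc, show S.t * S.a * S.t = S.a * S.t * S.t by
            rw [show S.t * S.a = S.a * S.t from (S.comm_f 55).symm], mul_assoc S.a, S.t_sq, mul_one]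
          exact (S.fmul 55 55).symm.trans (by rw [show cMul 55 55 = 0 by decide +kernel, S.fone])
  g_t := by
    rw [show S.t * T.g * S.t * (S.t * T.g)⁻¹ = S.t * (T.g * S.t * T.g⁻¹) * S.t⁻¹ by group, T.g_t, Setup.a,
      ← S.comm_f, mul_inv_cancel_right]
  g_a := by
    rw [show S.t * T.g * S.a * (S.t * T.g)⁻¹ = S.t * (T.g * S.a * T.g⁻¹) * S.t⁻¹ by group, T.g_a, Setup.a,
      ← mul_assoc, S.t_sq, one_mul, S.t_inv, S.comm_f]
  g_z := (Commute.symm (S.comm_f cT)).mul_left T.g_z
  g_f44 := (Commute.symm (S.comm_f 44)).mul_left T.g_f44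
  g_five := (Commute.symm (S.comm fiveM)).mul_left T.g_five
  g_tau := ((Commute.refl S.t).mul_right (Commute.symm (S.comm_f 166))).mul_left T.g_tau

/-- The transporter with the relation. -/
theorem exists_trans (T : Trans0 S) : Nonempty (Trans S) := by
  obtain ⟨h1, h2, h3, h4, h6⟩ := S.eM_gen
  obtain ⟨-, -, -, -, -, au, ua, r3, rs, rz, ra, ru⟩ := CenA.relations
  set r := S.φ rotM with hr
  set g := T.g with hg
  set d := g * r * r with hd
  have hr3 : r * r * r = 1 := by
    rw [hr, ← map_mul, ← map_mul, ← pow_three' , r3, map_one]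
  have hri : r⁻¹ = r * r := inv_eq_of_mul_eq_one_right (by rw [← mul_assoc, hr3])
  have f76 : S.f 76 = S.a * S.f 166 := by rw [Setup.a, ← S.fmul, show cMul 55 166 = 76 by decide +kernel]
  have er : ∀ x y : stdTwelve, rotM * x = y * rotM → r * S.φ x * r⁻¹ = S.φ y := fun x y e => by
    rw [hr, ← map_inv, ← map_mul, ← map_mul, e, mul_inv_cancel_right]
  have crt : r * S.t * r⁻¹ = S.t := S.conj_phi_t _
  have cra : r * S.a * r⁻¹ = S.f 166 := er _ _ ra
  have cru : r * S.f 166 * r⁻¹ = S.a * S.f 166 := (er _ _ ru).trans f76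
  have hR : ∀ i, r * S.eM i * r⁻¹ = S.eM (eR i) := fun i =>
    S.eM_map (MulAut.conj r).toMonoidHom (D := eR) (p := 1) (q := 4) (w := 6)
      (fun i => by obtain ⟨a, b, c, e, -, e'⟩ := exor_split i; exact ⟨a, b, c, e, e'⟩)
      (by rw [h1]; exact crt) (by rw [h2, h4]; exact cra) (by rw [h4, h6]; exact cru) i
  have cgu : g * S.f 166 * g⁻¹ = S.t * (S.a * S.f 166) := by
    have e : g * (S.t * S.f 166) * g⁻¹ = S.t * S.f 166 := by rw [T.g_tau.eq, mul_inv_cancel_right]
    rw [show g * (S.t * S.f 166) * g⁻¹ = g * S.t * g⁻¹ * (g * S.f 166 * g⁻¹) by group, T.g_t] at e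
    rw [← mul_assoc S.t, show S.t * S.a = S.a * S.t from (S.comm_f 55).symm, mul_assoc S.a S.t, ← e, ← mul_assoc S.a S.a,
      show S.a * S.a = 1 from h2 ▸ (S.eM_mul 2 2).trans S.eM_zero, one_mul]
  have hdt : d * S.t * d⁻¹ = S.a := by
    rw [hd, show g * r * r * S.t * (g * r * r)⁻¹ = g * (r * (r * S.t * r⁻¹) * r⁻¹) * g⁻¹ by group, crt, crt, T.g_t]
  have hda : d * S.a * d⁻¹ = S.f 166 := by
    rw [hd, show g * r * r * S.a * (g * r * r)⁻¹ = g * (r * (r * S.a * r⁻¹) * r⁻¹) * g⁻¹ by group, cra, cru,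
      show g * (S.a * S.f 166) * g⁻¹ = g * S.a * g⁻¹ * (g * S.f 166 * g⁻¹) by group, T.g_a, cgu, ← h1, ← h2, ← h4,
      S.eM_mul, S.eM_mul, S.eM_mul, S.eM_mul]
    rfl
  have hdu : d * S.f 166 * d⁻¹ = S.t * S.a := by
    rw [hd, show g * r * r * S.f 166 * (g * r * r)⁻¹ = g * (r * (r * S.f 166 * r⁻¹) * r⁻¹) * g⁻¹ by group, cru,
      show r * (S.a * S.f 166) * r⁻¹ = r * S.a * r⁻¹ * (r * S.f 166 * r⁻¹) by group, cra, cru]
    conv_lhs => rw [← h4, ← h2, S.eM_mul, S.eM_mul, show exor 4 (exor 2 4) = 2 from rfl, h2, T.g_a]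
  have hD : ∀ i, d * S.eM i * d⁻¹ = S.eM (eD i) := fun i =>
    S.eM_map (MulAut.conj d).toMonoidHom (D := eD) (p := 2) (q := 4) (w := 3)
      (fun i => by obtain ⟨a, b, c, e, e', -⟩ := exor_split i; exact ⟨a, b, c, e, e'⟩)
      (by rw [h1, h2]; exact hdt) (by rw [h2, h4]; exact hda) (by rw [h4, h3]; exact hdu) i
  -- moves
  have dmv : ∀ i v, d * (S.eM i * v) = S.eM (eD i) * (d * v) := fun i v => by rw [← hD]; group
  have rmv : ∀ i v, r * (S.eM i * v) = S.eM (eR i) * (r * v) := fun i v => by rw [← hR]; group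
  have mm : ∀ i j v, S.eM i * (S.eM j * v) = S.eM (exor i j) * v := fun i j v => by rw [← S.eM_mul, mul_assoc]
  have hrz : Commute r S.z := by
    show r * S.z = S.z * r
    rw [hr, Setup.z, S.f_eq, ← map_mul, ← map_mul, rz]
  have hrs : Commute r (S.φ threeM) := by
    show r * S.φ threeM = S.φ threeM * r
    rw [hr, ← map_mul, ← map_mul, rs]
  have hdz : Commute d S.z := (T.g_z.mul_left hrz).mul_left hrz
  have hds : Commute d (S.φ threeM) := (T.g_three.mul_left hrs).mul_left hrs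
  -- the seventh power
  have d7 : ∀ v, d * (d * (d * (d * (d * (d * (d * v)))))) = v := by
    obtain ⟨i, hi⟩ : ∃ i, d ^ 7 = S.eM i := by
      refine S.mem_eM (fun i => ?_) (hdz.pow_left 7) (hds.pow_left 7)
      show d ^ 7 * S.eM i = S.eM i * d ^ 7
      calc d ^ 7 * S.eM i = d * (d * (d * (d * (d * (d * (d * (S.eM i * 1))))))) := by
            simp only [pow_succ, pow_zero, one_mul, mul_one, mul_assoc]
        _ = S.eM (eD (eD (eD (eD (eD (eD (eD i))))))) * (d * (d * (d * (d * (d * (d * (d * 1))))))) := by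
            simp only [dmv]
        _ = S.eM i * d ^ 7 := by
            rw [(eD_facts i).2.1]; simp only [pow_succ, pow_zero, one_mul, mul_one, mul_assoc]
    have hfix : S.eM (eD i) = S.eM i := by rw [← hD, ← hi]; group
    have h0 : eD i = i := by
      have h' := congrArg (· * S.eM i) hfix
      simp only [S.eM_mul] at h'
      have h'' : ∀ j : Fin 8, exor j j = 0 := by decide +kernel
      exact exor_eq_zero _ _ (S.eM_inj (h'.trans (by rw [h'', S.eM_zero])))
    rw [(eD_facts i).1 h0, S.eM_zero] at hi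
    intro v
    calc d * (d * (d * (d * (d * (d * (d * v)))))) = d ^ 7 * v := by
          simp only [pow_succ, pow_zero, one_mul, mul_assoc]
      _ = v := by rw [hi, one_mul]
  -- the element `e`
  have hee : ∀ i, Commute (r * d * r⁻¹ * (d * d)⁻¹) (S.eM i) := by
    intro i
    obtain ⟨j, hj⟩ := (eD_facts i).2.2.2.2
    have hA : r * d * r⁻¹ * S.eM j = S.eM i * (r * d * r⁻¹) := by
      have e := (eD_facts j).2.2.2.1
      rw [hj] at e
      calc r * d * r⁻¹ * S.eM j = r * (d * (r * (r * (S.eM j * 1)))) := by rw [hri]; simp only [mul_assoc, mul_one]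
        _ = S.eM (eR (eD (eR (eR j)))) * (r * (d * (r * (r * 1)))) := by simp only [rmv, dmv]
        _ = _ := by rw [e, hri]; simp only [mul_assoc, mul_one]
    have hB : (d * d)⁻¹ * S.eM i = S.eM j * (d * d)⁻¹ := by
      rw [← hj, ← hD, ← hD]; group
    show r * d * r⁻¹ * (d * d)⁻¹ * S.eM i = S.eM i * (r * d * r⁻¹ * (d * d)⁻¹)
    rw [mul_assoc, hB, ← mul_assoc, hA, mul_assoc]
  obtain ⟨k, hk⟩ := S.mem_eM hee
    (((hrz.mul_left hdz).mul_left hrz.inv_left).mul_left (hdz.mul_left hdz).inv_left)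
    (((hrs.mul_left hds).mul_left hrs.inv_left).mul_left (hds.mul_left hds).inv_left)
  have hrd : ∀ v, r * (d * v) = S.eM k * (d * (d * (r * v))) := fun v => by rw [← hk]; group
  have hgd : g = d * r := by rw [hd, mul_assoc (g * r), mul_assoc g, ← mul_assoc r, hr3, mul_one]
  have hk2 : k = 0 ∨ k = 2 := by
    refine gauge_two k (S.eM_inj ?_)
    have h := T.cube
    rw [← hg, hgd] at h
    have hR3 : r * (r * r) = 1 := by rw [← mul_assoc, hr3]
    simp only [mul_assoc, hrd, rmv, dmv, mm, hR3, mul_one] at h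
    have d7' : d * (d * (d * (d * (d * (d * d))))) = 1 := by simpa only [mul_one] using d7 1
    rw [d7', mul_one] at h
    exact h
  rcases hk2 with rfl | rfl
  · refine ⟨⟨T, ?_⟩⟩
    show r * d * r⁻¹ = d * d
    rw [S.eM_zero] at hk
    exact mul_inv_eq_one.1 hk
  · refine ⟨⟨T.flip, ?_⟩⟩
    show r * (S.t * g * r * r) * r⁻¹ = S.t * g * r * r * (S.t * g * r * r)
    have e : S.t * g * r * r = S.eM 1 * d := by rw [h1, hd]; simp only [mul_assoc]
    rw [e]
    calc r * (S.eM 1 * d) * r⁻¹ = r * (S.eM 1 * (d * r⁻¹)) := by simp only [mul_assoc]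
      _ = S.eM (exor (eR 1) 2) * (d * (d * (r * r⁻¹))) := by rw [rmv, hrd, mm]
      _ = S.eM (exor 1 (eD 1)) * (d * d) := by rw [mul_inv_cancel, mul_one]; rfl
      _ = _ := by rw [mul_assoc (S.eM 1), dmv, mm]

end Trans0

end Cfsg.Lib.CoThreeM12
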