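import Cfsg.Agent.Lib.CoThreeM12.Odd
import Cfsg.Agent.Lib.CoThreeM12.CzHom
import Cfsg.Agent.Lib.CoThreeM12.Gauge
import Cfsg.Agent.Lib.CoThreeM12.Transporter
import Cfsg.Agent.Lib.CoThreeType.CoverModel
import Cfsg.Agent.Lib.CoThreeType.Final
import Cfsg.Agent.Lib.LenSeven.Tools

/-!
# The third Conway group from the centraliser `2 × M12`: assembly

Given the copy of `2.Sp6(2)` inside the centraliser of `z` and its being the whole centraliser, the
recognition from that centraliser applies.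
-/

set_option autoImplicit false
set_option linter.style.haveILetI false
set_option linter.style.longLine false
set_option maxRecDepth 100000

namespace Cfsg.Lib.CoThreeM12

open Cfsg Cfsg.Lib.MTwelveRecog
open Cfsg.Lib.CoThreeType (Cm)

universe u

theorem cover_congr {A B K : Type*} [Group A] [Group B] [Group K] (e : A ≃* B)
    (h : IsNonsplitDoubleCover A K) : IsNonsplitDoubleCover B K := by
  obtain ⟨h1, ⟨q⟩, h3⟩ := h
  have hc : (Subgroup.center A).map e.toMonoidHom = Subgroup.center B := by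
    ext z
    simp only [Subgroup.mem_map, MulEquiv.coe_toMonoidHom, Subgroup.mem_center_iff]
    exact ⟨fun ⟨w, hw, hwz⟩ g => by rw [← hwz, ← e.apply_symm_apply g, ← map_mul, ← map_mul, hw],
      fun hz => ⟨e.symm z, fun g => e.injective (by rw [map_mul, map_mul, e.apply_symm_apply, hz]),
        e.apply_symm_apply z⟩⟩
  refine ⟨?_, ⟨(QuotientGroup.congr _ _ e hc).symm.trans q⟩, fun L hL => h3 (L.comap e.toMonoidHom) ?_⟩
  · rw [← hc, Subgroup.card_map_of_injective e.injective, h1]
  · refine Subgroup.isComplement'_of_disjoint_and_mul_eq_univ ?_ ?_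
    · rw [disjoint_iff, eq_bot_iff]
      intro z hz
      have hzc : e z ∈ Subgroup.center B := hc ▸ ⟨z, hz.1, rfl⟩
      have : e z ∈ (⊥ : Subgroup B) := hL.disjoint.le_bot ⟨hzc, hz.2⟩
      exact Subgroup.mem_bot.2 (e.injective (by rw [Subgroup.mem_bot.1 this, map_one]))
    · refine Set.eq_univ_of_forall fun z => ?_
      obtain ⟨⟨⟨c, hc'⟩, ⟨l, hl⟩⟩, hcl⟩ := hL.2 (e z)
      have hc2 : c ∈ (Subgroup.center A).map e.toMonoidHom := hc.symm ▸ hc'
      obtain ⟨c0, hc0, rfl⟩ := hc2
      exact ⟨c0, hc0, e.symm l, by show e (e.symm l) ∈ L; rw [e.apply_symm_apply]; exact hl,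
        e.injective (by rw [map_mul, e.apply_symm_apply]; exact hcl)⟩

theorem mem_residual_of_simple {G : Type u} [Group G] [Finite G] [IsSimpleGroup G] (hG : ¬ IsMulCommutative G)
    (t : G) : t ∈ Cfsg.pResidual 2 G :=
  (Cfsg.Lib.LenSeven.pResidual_eq_top hG).symm ▸ Subgroup.mem_top t

namespace Setup

variable {G : Type u} [Group G] (S : Setup G)

/-- `Co3` from the isomorphism type of the centraliser of `z`. -/
theorem iso_co3_of_cz [Finite G] (hres : S.t ∈ Cfsg.pResidual 2 G)
    (e : Cm ≃* Subgroup.centralizer ({S.z} : Set G)) : Cfsg.Spor.IsoCo3 G :=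
  Cfsg.Lib.CoThreeType.co3_of_centralizer (S.oddCore_eq_bot hres) (S.center_eq_bot hres)
    (orderOf_eq_prime (by rw [sq, S.z_sq]) S.z_ne_one)
    (cover_congr e Cfsg.Lib.CoThreeType.cm_double_cover)

/-- The transporter data exist for a setup with the same `t`. -/
theorem exists_trans_setup [Finite G] (hres : S.t ∈ Cfsg.pResidual 2 G) :
    ∃ S' : Setup G, S'.t = S.t ∧ Nonempty (Trans S') := by
  have h := S.good hres
  obtain ⟨S', hS, ⟨T⟩⟩ := S.exists_trans0 h (S.isConj_t_ta hres h)
  exact ⟨S', hS, T.exists_trans⟩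

end Setup

/-- **The recognition, given the copy of `2.Sp6(2)` and the control of the centraliser.** -/
theorem iso_co3_of_twelve {G : Type u} [Group G] [Finite G]
    (hX : ∀ S : Setup G, Trans S → Nonempty (XHom S))
    (hR : ∀ {S : Setup G} (X : XHom S), S.t ∈ Cfsg.pResidual 2 G →
      X.ψ.range = Subgroup.centralizer ({S.z} : Set G))
    {t : G} (ht : orderOf t = 2)
    (hC : Nonempty (↥(Subgroup.centralizer ({t} : Set G)) ≃* Multiplicative (ZMod 2) × ↥Cfsg.Spor.M12))
    (hres : t ∈ Cfsg.pResidual 2 G) : Cfsg.Spor.IsoCo3 G := by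
  obtain ⟨S₀, rfl⟩ := exists_setup ht hC
  obtain ⟨S, hS, ⟨T⟩⟩ := S₀.exists_trans_setup hres
  rw [← hS] at hres
  obtain ⟨X⟩ := hX S T
  exact S.iso_co3_of_cz hres ((MonoidHom.ofInjective X.inj).trans (MulEquiv.subgroupCongr (hR X hres)))

end Cfsg.Lib.CoThreeM12
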