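import Cfsg.Agent.Lib.CoThreeM12.CzDefs

/-!
# Words over the centraliser of `t` and the transporter, and checked derivations

An element of `⟨t⟩ × M12` is coded by a number: a packed permutation of twelve points and a bit. A normal word is a
code and a list of pairs (exponent of `g`, code). A derivation rewrites normal words by multiplying neighbours,
moving elements of the common centraliser through `g`, inserting cancelling pairs and known relators.
-/

set_option autoImplicit false
set_option maxRecDepth 100000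

namespace Cfsg.Lib.CoThreeM12

open Cfsg
open Cfsg.Lib.MTwelveRecog (stdTwelve stdGen el)

universe u

/-! ### Codes -/

/-- Packing of digits below 16. -/
def packL : List ℕ → ℕ
  | [] => 0
  | d :: l => d + 16 * packL l

/-- A digit of a packed number. -/
def nibL : ℕ → ℕ → ℕ
  | n, 0 => n % 16
  | n, i + 1 => nibL (n / 16) i

theorem nibL_packL : ∀ {l : List ℕ} {i : ℕ}, (∀ d ∈ l, d < 16) → i < l.length → nibL (packL l) i = l.getD i 0
  | [], i, _, h => absurd h (Nat.not_lt_zero i)
  | d :: l, 0, hd, _ => by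
    rw [nibL, packL, Nat.add_mul_mod_self_left, List.getD_cons_zero]
    exact Nat.mod_eq_of_lt (hd d (List.mem_cons_self ..))
  | d :: l, i + 1, hd, h => by
    rw [nibL, packL, List.getD_cons_succ, Nat.add_mul_div_left _ _ (by norm_num : 0 < 16),
      Nat.div_eq_of_lt (hd d (List.mem_cons_self ..)), Nat.zero_add]
    exact nibL_packL (fun e he => hd e (List.mem_cons_of_mem _ he)) (by simpa using h)

/-- The code of a bit and a permutation given by its digits. -/
def mkC (b : ℕ) (f : ℕ → ℕ) : ℕ := b + 2 * packL ((List.range 12).map f)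

/-- The image of a point under a code. -/
def imC (c i : ℕ) : ℕ := nibL (c / 2) i

/-- The product of two codes. -/
def mulC (c d : ℕ) : ℕ := mkC ((c + d) % 2) fun i => imC c (imC d i)

/-- The code of the identity. -/
def oneC : ℕ := mkC 0 id

/-- The code of a permutation and a bit. -/
def codeP (b : Bool) (x : Equiv.Perm (Fin 12)) : ℕ :=
  mkC b.toNat fun i => if h : i < 12 then (x ⟨i, h⟩ : ℕ) else 0

theorem imC_mkC {b : ℕ} (hb : b < 2) {f : ℕ → ℕ} (hf : ∀ i < 12, f i < 16) {i : ℕ} (hi : i < 12) :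
    imC (mkC b f) i = f i := by
  rw [imC, mkC, Nat.add_mul_div_left _ _ two_pos, Nat.div_eq_of_lt hb, Nat.zero_add,
    nibL_packL (fun d hd => ?_) (by simpa using hi)]
  · rw [List.getD_eq_getElem _ _ (by simpa using hi), List.getElem_map, List.getElem_range]
  · obtain ⟨j, hj, rfl⟩ := List.mem_map.1 hd
    exact hf j (List.mem_range.1 hj)

theorem imC_codeP (b : Bool) (x : Equiv.Perm (Fin 12)) (i : Fin 12) : imC (codeP b x) i = x i := by
  rw [codeP, imC_mkC (by cases b <;> decide) (fun j hj => by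
    rw [dif_pos hj]; exact lt_trans (x ⟨j, hj⟩).2 (by norm_num)) i.2, dif_pos i.2]

theorem mkC_mod (b : ℕ) (f : ℕ → ℕ) (hb : b < 2) : mkC b f % 2 = b := by rw [mkC]; omega

theorem mulC_codeP (b c : Bool) (x y : Equiv.Perm (Fin 12)) :
    mulC (codeP b x) (codeP c y) = codeP (xor b c) (x * y) := by
  have hbit : (codeP b x + codeP c y) % 2 = (xor b c).toNat := by
    rw [Nat.add_mod, codeP, codeP, mkC_mod _ _ (by cases b <;> decide), mkC_mod _ _ (by cases c <;> decide)]
    cases b <;> cases c <;> rfl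
  rw [mulC, hbit]
  show mkC _ _ = mkC _ _
  refine congrArg (fun l => (xor b c).toNat + 2 * packL l) (List.map_congr_left fun i hi => ?_)
  have hi' := List.mem_range.1 hi
  have e1 := imC_codeP c y ⟨i, hi'⟩
  have e2 := imC_codeP b x (y ⟨i, hi'⟩)
  show imC (codeP b x) (imC (codeP c y) i) = _
  rw [dif_pos hi', Equiv.Perm.mul_apply, ← e2, ← e1]

theorem codeP_inj {b c : Bool} {x y : Equiv.Perm (Fin 12)} (h : codeP b x = codeP c y) : b = c ∧ x = y := by
  refine ⟨?_, Equiv.ext fun i => Fin.ext ?_⟩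
  · have := congrArg (· % 2) h
    simp only [codeP] at this
    rw [mkC_mod _ _ (by cases b <;> decide), mkC_mod _ _ (by cases c <;> decide)] at this
    cases b <;> cases c <;> simp_all
  · rw [← imC_codeP b x i, ← imC_codeP c y i, h]

theorem codeP_one : codeP false 1 = oneC := by decide +kernel

attribute [irreducible] mkC mulC codeP

namespace Setup

variable {G : Type u} [Group G] (S : Setup G)

/-- The bit as an element. -/
def tb (b : Bool) : G := if b then S.t else 1

/-- A code belongs to the centraliser. -/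
def IsCode (c : ℕ) : Prop := ∃ (b : Bool) (x : stdTwelve), c = codeP b x

open Classical in
/-- The element of a code. -/
noncomputable def cv (c : ℕ) : G :=
  if h : ∃ (p : Bool × stdTwelve), c = codeP p.1 p.2 then S.tb h.choose.1 * S.φ h.choose.2 else 1

theorem cv_codeP (b : Bool) (x : stdTwelve) : S.cv (codeP b x) = S.tb b * S.φ x := by
  classical
  have h : ∃ p : Bool × stdTwelve, codeP b x = codeP p.1 p.2 := ⟨(b, x), rfl⟩
  rw [cv, dif_pos h]
  obtain ⟨h1, h2⟩ := codeP_inj h.choose_spec
  rw [← h1, ← Subtype.ext h2]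

theorem tb_comm (b : Bool) (x : stdTwelve) : S.φ x * S.tb b = S.tb b * S.φ x := by
  cases b
  · simp [tb]
  · simpa [tb] using S.comm x

theorem tb_xor (b c : Bool) : S.tb (xor b c) = S.tb b * S.tb c := by
  cases b <;> cases c <;> simp [tb, S.t_sq]

theorem cv_mulC {c d : ℕ} (hc : IsCode c) (hd : IsCode d) :
    IsCode (mulC c d) ∧ S.cv (mulC c d) = S.cv c * S.cv d := by
  obtain ⟨b, x, rfl⟩ := hc
  obtain ⟨b', y, rfl⟩ := hd
  have e : mulC (codeP b x) (codeP b' y) = codeP (xor b b') ((x * y : stdTwelve) : Equiv.Perm (Fin 12)) :=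
    mulC_codeP b b' x y
  refine ⟨⟨xor b b', x * y, e⟩, ?_⟩
  rw [e, S.cv_codeP, S.cv_codeP, S.cv_codeP, S.tb_xor, map_mul]
  calc S.tb b * S.tb b' * (S.φ x * S.φ y) = S.tb b * (S.tb b' * S.φ x) * S.φ y := by group
    _ = _ := by rw [← S.tb_comm]; group

theorem isCode_mulC {c d : ℕ} (hc : IsCode c) (hd : IsCode d) : IsCode (mulC c d) := by
  obtain ⟨b, x, rfl⟩ := hc
  obtain ⟨b', y, rfl⟩ := hd
  exact ⟨xor b b', x * y, mulC_codeP b b' x y⟩

theorem isCode_one : IsCode oneC := ⟨false, 1, codeP_one.symm⟩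

theorem cv_one : S.cv oneC = 1 := by
  have h := S.cv_codeP false 1
  rw [map_one, tb, if_neg Bool.false_ne_true, one_mul] at h
  rwa [show ((1 : stdTwelve) : Equiv.Perm (Fin 12)) = 1 from rfl, codeP_one] at h

theorem cv_inv {c d : ℕ} (hc : IsCode c) (hd : IsCode d) (h : mulC c d = oneC) : S.cv d = (S.cv c)⁻¹ :=
  eq_inv_of_mul_eq_one_right (by rw [← (S.cv_mulC hc hd).2, h, S.cv_one])

end Setup

/-- Codes of the letters: the four standard generators, then `t`. -/
def letC : ℕ → ℕ
  | 0 => mkC 0 fun i => [1, 2, 3, 4, 5, 6, 7, 8, 9, 10, 0, 11].getD i 0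
  | 1 => mkC 0 fun i => [0, 3, 6, 9, 1, 4, 7, 10, 2, 5, 8, 11].getD i 0
  | 2 => mkC 0 fun i => [0, 1, 6, 9, 5, 3, 10, 2, 8, 4, 7, 11].getD i 0
  | 3 => mkC 0 fun i => [11, 2, 9, 6, 8, 10, 5, 4, 3, 7, 1, 0].getD i 0
  | 4 => mkC 1 id
  | _ => oneC

end Cfsg.Lib.CoThreeM12
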