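import Cfsg.Agent.Lib.MTwelveRecog.Fusion

/-!
# Finite facts about the centraliser of a central involution of M12
-/

set_option autoImplicit false
set_option linter.style.longLine false
set_option maxRecDepth 100000

namespace Cfsg.Lib.CoThreeM12

open Cfsg Cfsg.Lib.MTwelveRecog

/-- The conjugators of the classes 9 and 12 into the centre. -/
def conjWord : Fin 2 → List (Fin 4) := ![[0, 1], [0, 0, 0, 3, 0, 2, 0, 0]]

/-- The class representatives they move. -/
def conjRep : Fin 2 → Fin 192 := ![61, 3]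

theorem conjWord_spec : ∀ k : Fin 2, ∀ p : Fin 12,
    ((conjWord k).map stdGen).prod (el (conjRep k) p) = el cT (((conjWord k).map stdGen).prod p) := by
  decide +kernel

/-- The indices in the subgroup of order 16 centralising `55`. -/
def inCent (i : Fin 192) : Bool := cCm 55 i

theorem cent_facts : ((List.finRange 192).filter inCent).length = 16 ∧ inCent 55 = true ∧ inCent cT = true ∧
    (∃ x : Fin 192, cConj x 55 = cMul 55 cT) ∧
    (∃ x : Fin 192, ∃ y : Fin 192, inCent x = true ∧ inCent y = true ∧ cComm x y = cT) ∧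
    (∃ x : Fin 192, ∃ y : Fin 192, inSyl x = true ∧ inSyl y = true ∧ cComm x y = cT) := by
  refine ⟨?_, ?_, ?_, ?_, ?_, ?_⟩ <;> decide +kernel

theorem syl_cent_card : ∀ i : Fin 192, inSyl i = true → cCls i = 4 →
    ((List.finRange 192).filter fun j => inSyl j && cCm i j).length ≤ 16 := by
  decide +kernel

theorem cls_two : ∀ i : Fin 192, cCls i = 2 ↔ i = cT := by decide +kernel

theorem cls_four_T : ∀ i : Fin 192, cCls i = 4 → cCls (cMul i cT) = 4 := by decide +kernel

/-- The products of at most two elements of class 9. -/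
def inTwo (i : Fin 192) : Bool := Nat.testBit 3529236861126145103355421936252478266558439463637306985293 i

theorem inTwo_spec : (∀ i : Fin 192, inTwo i = true →
    i = 0 ∨ cCls i = 9 ∨ ∃ j : Fin 192, cCls j = 9 ∧ cCls (cMul j i) = 9) := by
  decide +kernel

theorem inTwo_all : ∀ i : Fin 192, ∃ j : Fin 192, inTwo j = true ∧ inTwo (cMul (cInv j) i) = true := by
  decide +kernel

/-- The parent in the tree of words in `1` and `2`. -/
def parPrev (i : Fin 192) : Fin 192 := idxAt Table.parPrevN i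

/-- The letter above the parent. -/
def parGen (i : Fin 192) : Fin 192 := idxAt Table.parGenN i

theorem par_spec : ∀ i : Fin 192, i = 0 ∨
    (parPrev i < i ∧ cMul (parGen i) (parPrev i) = i ∧ (parGen i = 1 ∨ parGen i = 2)) := by
  decide +kernel

/-- The four outer representatives. -/
def cOut : Fin 4 → Fin 192 → Fin 192 := ![id, cAutOne, cAutTwo, fun i => cAutOne (cAutTwo i)]

theorem cOut_hom (k : Fin 4) (i j : Fin 192) : cOut k (cMul i j) = cMul (cOut k i) (cOut k j) := by
  fin_cases k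
  · rfl
  · exact (cAut_hom i j).1
  · exact (cAut_hom i j).2
  · show cAutOne (cAutTwo (cMul i j)) = _
    rw [(cAut_hom i j).2, (cAut_hom _ _).1]
    rfl

theorem cOut_bij (k : Fin 4) : Function.Injective (cOut k) := by
  fin_cases k
  · exact fun _ _ h => h
  · exact cAut_bij.1
  · exact cAut_bij.2
  · exact fun i j h => cAut_bij.2 i j (cAut_bij.1 _ _ h)

theorem cOut_T : ∀ k : Fin 4, cOut k cT = cT ∧ cCls (cOut k 55) = 4 ∧ cCls (cOut k 61) = 9 ∧
    cCls (cOut k 3) = 12 := by
  decide +kernel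

theorem eight_spec : ∀ i : Fin 192, cPow i 4 = 0 → cPow i 2 ≠ 0 → cCard i = 16 →
    cCls i = 8 ∨ cCls i = 11 := by
  decide +kernel

theorem five_spec : ∀ i : Fin 192, cPow i 6 = 0 → cPow i 2 ≠ 0 → cPow i 3 ≠ 0 → cCard i = 6 → cCls i = 5 := by
  decide +kernel

theorem gen_invariants : cPow 1 4 = 0 ∧ cPow 1 2 ≠ 0 ∧ cCard 1 = 16 ∧ cPow 2 6 = 0 ∧ cPow 2 2 ≠ 0 ∧
    cPow 2 3 ≠ 0 ∧ cCard 2 = 6 ∧ cPow (cMul 1 2) 8 = 0 ∧ cPow (cMul 1 2) 4 ≠ 0 := by
  decide +kernel

theorem aut_table : ∀ a : Fin 192, (cCls a = 8 ∨ cCls a = 11) → ∀ b : Fin 192, cCls b = 5 →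
    cPow (cMul a b) 8 = 0 → cPow (cMul a b) 4 ≠ 0 →
    ∃ k : Fin 4, ∃ h : Fin 192, cConj h (cOut k 1) = a ∧ cConj h (cOut k 2) = b := by
  decide +kernel

end Cfsg.Lib.CoThreeM12
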