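import Cfsg.Agent.Lib.CoThreeM12.Good
import Cfsg.Agent.Lib.ZStar.Basic
import Cfsg.Agent.Lib.Concrete.SporMathieu

/-!
# Trivial odd core and centre

`t` centralises no element of the odd core, so it inverts it, as does every conjugate; then `z` and with it
`a` centralises the core, and so does `t`, being conjugate to `a`.
-/

set_option autoImplicit false
set_option linter.style.haveILetI false
set_option linter.style.longLine false
set_option linter.unusedSectionVars false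
set_option maxRecDepth 100000

namespace Cfsg.Lib.CoThreeM12

open Cfsg Cfsg.Lib.MTwelveRecog

universe u

theorem isSimple_stdTwelve : IsSimpleGroup stdTwelve := by
  obtain ⟨ι⟩ := nonempty_sporM12_std
  haveI := Cfsg.Lib.Concrete.isSimple_sporM12
  exact (ι.isSimpleGroup_congr).1 inferInstance

theorem a_nine_three : (cCls 3 = 9 ∨ cCls 3 = 12) ∧ (cCls 158 = 9 ∨ cCls 158 = 12) ∧
    (cCls 164 = 9 ∨ cCls 164 = 12) ∧ cMul (cMul 3 158) 164 = 55 := by
  decide +kernel

namespace Setup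

variable {G : Type u} [Group G] (S : Setup G) [Finite G]

theorem centralizer_odd_trivial {K : Subgroup G} (hK : K.Normal) (hodd : Odd (Nat.card K)) {g : G} (hg : g ∈ K)
    (hgt : g * S.t = S.t * g) : g = 1 := by
  haveI := isSimple_stdTwelve
  have hgo : ∀ {x : G}, x ∈ K → x * x = 1 → x = 1 := fun {x} hx h2 => by
    have h1 : orderOf x ∣ Nat.card K := Subgroup.orderOf_dvd_natCard K hx
    rcases (Nat.dvd_prime Nat.prime_two).1 (orderOf_dvd_of_pow_eq_one (by rw [sq, h2]) : orderOf x ∣ 2) with h | h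
    · exact orderOf_eq_one_iff.1 h
    · rw [h] at h1
      exact absurd hodd (Nat.not_odd_iff_even.2 (even_iff_two_dvd.2 h1))
  have hN : (K.comap S.φ).Normal := hK.comap _
  have hbot : K.comap S.φ = ⊥ := by
    refine hN.eq_bot_or_eq_top.resolve_right fun h => ?_
    exact S.z_ne_one (hgo (show S.φ (elM cT) ∈ K from (h ▸ Subgroup.mem_top (elM cT) : elM cT ∈ K.comap S.φ)) S.z_sq)
  obtain ⟨x, rfl | rfl⟩ := S.mem g hgt
  · have hx : x ∈ K.comap S.φ := hg
    rw [hbot, Subgroup.mem_bot] at hx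
    rw [hx, map_one]
  · have hx : x * x ∈ K.comap S.φ := by
      show S.φ (x * x) ∈ K
      rw [← S.t_phi_sq]; exact K.mul_mem hg hg
    rw [hbot, Subgroup.mem_bot] at hx
    exact hgo hg (by rw [S.t_phi_sq, hx, map_one])

theorem oddCore_eq_bot (hres : S.t ∈ Cfsg.pResidual 2 G) : Cfsg.oddCore G = ⊥ := by
  haveI : Fintype G := Fintype.ofFinite G
  have hodd : Odd (Nat.card (Cfsg.oddCore G)) := Cfsg.Lib.ZStar.odd_card_oddCore
  have hK : (Cfsg.oddCore G).Normal := by infer_instance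
  let σ : Cfsg.oddCore G → Cfsg.oddCore G := fun k => ⟨S.t * k.1 * S.t⁻¹, hK.conj_mem _ k.2 _⟩
  -- `t` inverts the core
  have hinv : ∀ k ∈ Cfsg.oddCore G, S.t * k * S.t⁻¹ = k⁻¹ := by
    have hinj : Function.Injective fun k : Cfsg.oddCore G => k.1⁻¹ * (σ k).1 := fun k l h => by
      have h' : k.1⁻¹ * (S.t * k.1 * S.t⁻¹) = l.1⁻¹ * (S.t * l.1 * S.t⁻¹) := h
      have hc : l.1 * k.1⁻¹ * S.t = S.t * (l.1 * k.1⁻¹) := by
        calc l.1 * k.1⁻¹ * S.t = l.1 * (k.1⁻¹ * (S.t * k.1 * S.t⁻¹)) * S.t * k.1⁻¹ := by group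
          _ = _ := by rw [h']; group
      have := S.centralizer_odd_trivial hK hodd (mul_mem l.2 (inv_mem k.2)) hc
      exact Subtype.ext (mul_inv_eq_one.1 this).symm
    intro k hk
    obtain ⟨l, hl⟩ := (Finite.injective_iff_surjective.1
      (show Function.Injective fun k : Cfsg.oddCore G => (⟨k.1⁻¹ * (σ k).1, mul_mem (inv_mem k.2) (σ k).2⟩ : Cfsg.oddCore G) from
        fun a b h => hinj (congrArg Subtype.val h))) ⟨k, hk⟩
    have e : l.1⁻¹ * (S.t * l.1 * S.t⁻¹) = k := congrArg Subtype.val hl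
    rw [← e, S.t_inv, show S.t * (l.1⁻¹ * (S.t * l.1 * S.t)) * S.t = S.t * l.1⁻¹ * S.t * l.1 * (S.t * S.t) by group,
      S.t_sq, mul_one, mul_inv_rev, mul_inv_rev, mul_inv_rev, inv_inv, S.t_inv]
    group
  have hinv' : ∀ y, IsConj S.t y → ∀ k ∈ Cfsg.oddCore G, y * k * y⁻¹ = k⁻¹ := fun y hy k hk => by
    obtain ⟨m, rfl⟩ := isConj_iff.1 hy
    have h := hinv _ (hK.conj_mem _ hk m⁻¹)
    rw [inv_inv] at h
    calc m * S.t * m⁻¹ * k * (m * S.t * m⁻¹)⁻¹ = m * (S.t * (m⁻¹ * k * m) * S.t⁻¹) * m⁻¹ := by group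
      _ = _ := by rw [h]; group
  have hfix : ∀ i : Fin 192, cCls i = 9 ∨ cCls i = 12 → ∀ k ∈ Cfsg.oddCore G, S.f i * k * (S.f i)⁻¹ = k := by
    intro i hi k hk
    have htz := S.isConj_t_tz hres
    have h2 := (htz.trans (S.isConj_tz_of_nine hi).symm)
    have e := hinv' _ h2 k⁻¹ (inv_mem hk)
    calc S.f i * k * (S.f i)⁻¹ = S.t⁻¹ * (S.t * S.f i * k⁻¹ * (S.t * S.f i)⁻¹)⁻¹ * S.t := by group
      _ = S.t⁻¹ * k⁻¹ * S.t := by rw [e, inv_inv]
      _ = k := by
        have := hinv k hk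
        rw [S.t_inv] at this ⊢
        calc S.t * k⁻¹ * S.t = S.t * (S.t * k * S.t) * S.t := by rw [this]
          _ = S.t * S.t * k * (S.t * S.t) := by group
          _ = k := by rw [S.t_sq, one_mul, mul_one]
  rw [eq_bot_iff]
  intro k hk
  obtain ⟨hi, hj, hl, he⟩ := a_nine_three
  have ea : S.a = S.f 3 * S.f 158 * S.f 164 := by rw [← S.fmul, ← S.fmul, he]; rfl
  have h1 : S.a * k * S.a⁻¹ = k := by
    rw [ea, show S.f 3 * S.f 158 * S.f 164 * k * (S.f 3 * S.f 158 * S.f 164)⁻¹ =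
      S.f 3 * (S.f 158 * (S.f 164 * k * (S.f 164)⁻¹) * (S.f 158)⁻¹) * (S.f 3)⁻¹ by group, hfix _ hl k hk,
      hfix _ hj k hk, hfix _ hi k hk]
  have h2 := hinv' _ (S.good hres) k hk
  rw [h1] at h2
  have hkk : k * k = 1 := by nth_rewrite 1 [h2]; group
  refine Subgroup.mem_bot.2 (orderOf_eq_one_iff.1 ?_)
  have h3 : orderOf k ∣ 2 := orderOf_dvd_of_pow_eq_one (by rw [sq, hkk])
  rcases (Nat.dvd_prime Nat.prime_two).1 h3 with h | h
  · exact h
  · have h4 : orderOf k ∣ Nat.card (Cfsg.oddCore G) := Subgroup.orderOf_dvd_natCard _ hk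
    rw [h] at h4
    exact absurd hodd (Nat.not_odd_iff_even.2 (even_iff_two_dvd.2 h4))

theorem center_eq_bot (hres : S.t ∈ Cfsg.pResidual 2 G) : Subgroup.center G = ⊥ := by
  rw [eq_bot_iff]
  intro c hc
  have hcc := Subgroup.mem_center_iff.1 hc
  haveI := isSimple_stdTwelve
  obtain ⟨m, hm⟩ := isConj_iff.1 (S.isConj_t_tz hres)
  have hnt : ¬ ∀ g, g * S.t = S.t * g := fun h => by
    rw [h m, mul_inv_cancel_right] at hm
    exact S.t_ne_tz hm
  have hbot : (Subgroup.center G).comap S.φ = ⊥ := by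
    refine ((inferInstance : (Subgroup.center G).Normal).comap S.φ).eq_bot_or_eq_top.resolve_right fun h => ?_
    have hz : S.z ∈ Subgroup.center G := (h ▸ Subgroup.mem_top (elM cT) : elM cT ∈ (Subgroup.center G).comap S.φ)
    have ha : S.a ∈ Subgroup.center G := (h ▸ Subgroup.mem_top (elM 55) : elM 55 ∈ (Subgroup.center G).comap S.φ)
    obtain ⟨q, hq⟩ := isConj_iff.1 (S.good hres)
    refine hnt fun g => ?_
    have hat : q * S.t * q⁻¹ = q * S.a * q⁻¹ := by
      rw [hq, Subgroup.mem_center_iff.1 ha q, mul_inv_cancel_right]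
    rw [mul_left_cancel (mul_right_cancel hat)]
    exact Subgroup.mem_center_iff.1 ha g
  obtain ⟨x, rfl | rfl⟩ := S.mem c (hcc S.t).symm
  · have hx : x ∈ (Subgroup.center G).comap S.φ := hc
    rw [hbot, Subgroup.mem_bot] at hx
    rw [hx, map_one]; exact Subgroup.mem_bot.2 rfl
  · exfalso
    have hx : x ∈ Subgroup.center stdTwelve := Subgroup.mem_center_iff.2 fun y => S.inj (by
      have h := hcc (S.φ y)
      rw [← mul_assoc, S.comm, mul_assoc, mul_assoc] at h
      rw [map_mul, map_mul]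
      exact mul_left_cancel h)
    have hcb : Subgroup.center stdTwelve = ⊥ := by
      refine (inferInstance : (Subgroup.center stdTwelve).Normal).eq_bot_or_eq_top.resolve_right fun h => ?_
      have h1 : elM 1 * elM 2 = elM 2 * elM 1 :=
        Subgroup.mem_center_iff.1 (h ▸ Subgroup.mem_top (elM 2) : elM 2 ∈ Subgroup.center stdTwelve) (elM 1)
      rw [← elM_mul, ← elM_mul] at h1
      exact absurd (elM_injective h1) (by decide +kernel)
    rw [hcb, Subgroup.mem_bot] at hx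
    rw [hx, map_one, mul_one] at hcc
    exact hnt hcc

end Setup

end Cfsg.Lib.CoThreeM12
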