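import Cfsg.Agent.Lib.MTwelveRecog.Setup

/-!
# The setup: an involution with centraliser `2 × M12`

`φ` embeds the standard group of degree twelve, `f` enumerates the centraliser `Q` of the standard central
involution in it, `z = f 14` is that involution and `a = f 55` an involution without fixed points.
-/

set_option autoImplicit false
set_option linter.style.haveILetI false

namespace Cfsg.Lib.CoThreeM12

open Cfsg Cfsg.Lib.MTwelveRecog

universe u

/-- An involution `t` with centraliser `⟨t⟩ × M12`. -/
structure Setup (G : Type u) [Group G] where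
  /-- the involution -/
  t : G
  /-- the embedding of the standard group of degree 12 -/
  φ : stdTwelve →* G
  inj : Function.Injective φ
  t_sq : t * t = 1
  t_ne_one : t ≠ 1
  comm : ∀ x, φ x * t = t * φ x
  ne_phi : ∀ x, φ x ≠ t
  mem : ∀ g : G, g * t = t * g → ∃ x, g = φ x ∨ g = t * φ x

namespace Setup

variable {G : Type u} [Group G] (S : Setup G)

/-- The centraliser of the central involution in the copy of M12. -/
noncomputable def f (i : Fin 192) : G := S.φ ⟨el i, el_mem i⟩

/-- The central involution of the copy of M12. -/
noncomputable def z : G := S.f cT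

/-- The involution without fixed points. -/
noncomputable def a : G := S.f 55

/-- The good case: `a` is conjugate to `t`. -/
def Good : Prop := IsConj S.t S.a

theorem fmul (i j : Fin 192) : S.f (cMul i j) = S.f i * S.f j := by
  rw [f, f, f, ← map_mul]
  exact congrArg S.φ (Subtype.ext (el_mul i j))

theorem f_injective : Function.Injective S.f := fun i j h =>
  el_injective (congrArg Subtype.val (S.inj h))

theorem fone : S.f 0 = 1 := by
  have h := S.fmul 0 0
  rw [(cMul_inv 0).2.2.1] at h
  exact left_eq_mul.1 h

theorem finv (i : Fin 192) : S.f (cInv i) = (S.f i)⁻¹ :=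
  eq_inv_of_mul_eq_one_left (by rw [← S.fmul, (cMul_inv i).2.1, S.fone])

theorem fconj (h i : Fin 192) : S.f (cConj h i) = S.f h * S.f i * (S.f h)⁻¹ := by
  rw [cConj, S.fmul, S.fmul, S.finv]

theorem comm_f (i : Fin 192) : S.f i * S.t = S.t * S.f i := S.comm _

end Setup

/-- The setup from the isomorphism of the statements. -/
theorem exists_setup {G : Type u} [Group G] {t : G} (ht : orderOf t = 2)
    (hC : Nonempty (↥(Subgroup.centralizer ({t} : Set G)) ≃* Multiplicative (ZMod 2) × ↥Cfsg.Spor.M12)) :
    ∃ S : Setup G, S.t = t := by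
  classical
  obtain ⟨e⟩ := hC
  obtain ⟨ι⟩ := nonempty_sporM12_std
  have htt : t * t = 1 := by rw [← sq, ← ht]; exact pow_orderOf_eq_one t
  have ht1 : t ≠ 1 := fun h => by rw [h, orderOf_one] at ht; norm_num at ht
  set T : Subgroup.centralizer ({t} : Set G) := ⟨t, Subgroup.mem_centralizer_singleton_iff.2 rfl⟩ with hT
  have hcen : ∀ x, x * T = T * x := fun x =>
    Subtype.ext (Subgroup.mem_centralizer_singleton_iff.1 x.2)
  have hsimple := Cfsg.Lib.Concrete.isSimple_sporM12
  have h2 : (e T).2 = 1 := by
    have hz : (e T).2 ∈ Subgroup.center Spor.M12 := Subgroup.mem_center_iff.2 fun y => by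
      have h := congrArg e (hcen (e.symm ((e T).1, y)))
      rw [map_mul, map_mul, MulEquiv.apply_symm_apply] at h
      exact congrArg Prod.snd h
    rcases (inferInstance : (Subgroup.center Spor.M12).Normal).eq_bot_or_eq_top with hb | htp
    · rwa [hb, Subgroup.mem_bot] at hz
    · exfalso
      haveI : Finite Spor.M12 := Finite.of_injective Subtype.val Subtype.val_injective
      letI : CommGroup Spor.M12 :=
        { (inferInstance : Group Spor.M12) with
          mul_comm := fun x y => (Subgroup.mem_center_iff.1 (htp ▸ Subgroup.mem_top x) y).symm }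
      have hp := IsSimpleGroup.prime_card (α := Spor.M12)
      rw [Cfsg.Lib.Concrete.card_sporM12] at hp
      norm_num at hp
  have h1 : (e T).1 = Multiplicative.ofAdd (1 : ZMod 2) := by
    have hne : (e T).1 ≠ 1 := fun h => ht1 (by
      have : e T = 1 := Prod.ext h h2
      exact congrArg Subtype.val (e.injective (this.trans (map_one e).symm)))
    revert hne
    generalize (e T).1 = x
    revert x
    decide
  let φ : stdTwelve →* G := (Subgroup.centralizer ({t} : Set G)).subtype.comp
    (e.symm.toMonoidHom.comp ((MonoidHom.inr _ _).comp ι.symm.toMonoidHom))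
  have hφ : ∀ x, φ x = (e.symm (1, ι.symm x) : G) := fun _ => rfl
  refine ⟨{ t := t, φ := φ, inj := fun x y h => ?_, t_sq := htt, t_ne_one := ht1, comm := fun x => ?_,
            ne_phi := fun x h => ?_, mem := fun g hg => ?_ }, rfl⟩
  · rw [hφ, hφ] at h
    exact ι.symm.injective (congrArg Prod.snd (e.symm.injective (Subtype.ext h)))
  · exact Subgroup.mem_centralizer_singleton_iff.1 (e.symm (1, ι.symm x)).2
  · rw [hφ] at h
    have h' := congrArg Prod.fst ((e.symm_apply_eq).1 (Subtype.ext h : e.symm (1, ι.symm x) = T))
    rw [h1] at h'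
    exact absurd h' (show ¬ (1 : Multiplicative (ZMod 2)) = Multiplicative.ofAdd 1 by decide)
  · set p := e ⟨g, Subgroup.mem_centralizer_singleton_iff.2 hg⟩ with hp
    have hg' : g = (e.symm p : G) := by rw [hp, MulEquiv.symm_apply_apply]
    refine ⟨ι p.2, ?_⟩
    rw [hφ, MulEquiv.symm_apply_apply]
    have hc : p.1 = 1 ∨ p.1 = Multiplicative.ofAdd (1 : ZMod 2) := by
      generalize p.1 = x
      revert x
      decide
    rcases hc with hc | hc
    · left
      rw [hg', ← hc]
    · right
      have hpp : p = e T * (1, p.2) := Prod.ext (by simp [h1, hc]) (by simp [h2])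
      refine hg'.trans ?_
      show ((e.symm p : Subgroup.centralizer ({t} : Set G)) : G) = ((T * e.symm (1, p.2) :
        Subgroup.centralizer ({t} : Set G)) : G)
      have h := congrArg e.symm hpp
      rw [map_mul, MulEquiv.symm_apply_apply] at h
      exact congrArg Subtype.val ((e.symm_apply_apply _).trans
        (h.trans (congrArg (· * e.symm (1, p.2)) (e.symm_apply_apply T))))

end Cfsg.Lib.CoThreeM12
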