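import Cfsg.Agent.Lib.CoThreeM12.SpCtlData

/-!
# Checks on coded symplectic matrices

A matrix is coded by the labels of its six columns, six bits each; a label lists the coordinates of a vector.
-/

set_option autoImplicit false

namespace Cfsg.Lib.CoThreeM12.SpCtl

/-- The label of a column. -/
def col (c i : Nat) : Nat := Nat.land (Nat.shiftRight c (Nat.mul 6 i)) 63

/-- The image of a label. -/
def app (c x : Nat) : Nat :=
  Nat.xor (bif Nat.testBit x 0 then col c 0 else 0)
    (Nat.xor (bif Nat.testBit x 1 then col c 1 else 0)
      (Nat.xor (bif Nat.testBit x 2 then col c 2 else 0)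
        (Nat.xor (bif Nat.testBit x 3 then col c 3 else 0)
          (Nat.xor (bif Nat.testBit x 4 then col c 4 else 0) (bif Nat.testBit x 5 then col c 5 else 0)))))

/-- The product. -/
def cmp (c d : Nat) : Nat :=
  Nat.lor (app c (col d 0)) (Nat.lor (Nat.shiftLeft (app c (col d 1)) 6) (Nat.lor (Nat.shiftLeft (app c (col d 2)) 12)
    (Nat.lor (Nat.shiftLeft (app c (col d 3)) 18)
      (Nat.lor (Nat.shiftLeft (app c (col d 4)) 24) (Nat.shiftLeft (app c (col d 5)) 30)))))

/-- The code of the identity. -/
def one : Nat := 34630287489

/-- Parity of the common bits of three-bit numbers. -/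
def par (x : Nat) : Bool := Nat.testBit 150 x

/-- The symplectic form on labels. -/
def form (x y : Nat) : Bool :=
  Bool.xor (par (Nat.land (Nat.land x 7) (Nat.shiftRight y 3))) (par (Nat.land (Nat.shiftRight x 3) (Nat.land y 7)))

/-- The code is that of a symplectic matrix. -/
def valid (c : Nat) : Bool :=
  Nat.blt c (2 ^ 36) && (List.range 6).all fun i => (List.range 6).all fun j =>
    form (col c i) (col c j) == form (2 ^ i) (2 ^ j)

/-- The products `a b` and `c d` differ. -/
def neq (a b c d : Nat) : Bool := [0, 1, 2, 3, 4, 5].any fun i => !Nat.beq (app a (col b i)) (app c (col d i))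

/-- Commutation. -/
def cm (c d : Nat) : Bool := [0, 1, 2, 3, 4, 5].all fun i => Nat.beq (app c (col d i)) (app d (col c i))

/-- Membership. -/
def mem (e : Nat) (l : List Nat) : Bool := l.any fun x => Nat.beq e x

/-- An element has class less than the bound. -/
def known (lim e : Nat) : Bool :=
  wits.any fun w => Nat.beq w.1 e && Nat.blt w.2.1 lim && valid w.2.2 &&
    Nat.beq (cmp w.2.2 e) (cmp (reps.getD w.2.1 0) w.2.2)

/-- The top of a two-power element lies in the list. -/
def topIn : Nat → Nat → List Nat → Bool
  | 0, _, _ => false
  | n + 1, h, E => bif Nat.beq (cmp h h) one then mem h E else topIn n (cmp h h) E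

/-- A two-element above the set or the identity. -/
def twoTop (h : Nat) (E : List Nat) : Bool := Nat.beq h one || topIn 10 h E

/-- The centralizer of a node in the centralizer of the representative. -/
def nodeL (top E : List Nat) : List Nat := top.filter fun y => E.all fun e => cm y e

/-- The conditions at a node. -/
def nodeOK (lim : Nat) (top : List Nat) (later : List (List Nat × Nat × Nat)) (N : List Nat × Nat × Nat) : Bool :=
  let L := nodeL top N.1
  N.1.all valid && mem N.2.1 L && mem N.2.2 L && known 1 N.2.1 && known 1 N.2.2 &&
    L.all fun h =>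
      (!(cm h N.2.2 && Nat.beq (cmp h h) one && !Nat.beq h one && !mem h N.1) ||
        (let E2 := h :: (N.1.map (cmp h) ++ N.1)
         E2.any (known lim) || later.any fun M => M.1.all fun e => mem e E2)) &&
      (!(Nat.beq (cmp (cmp N.2.2 h) (cmp N.2.2 h)) one && twoTop h N.1) ||
        L.all fun y => neq y N.2.1 (cmp h N.2.2) y)

/-- The conditions at one node of a tree. -/
def treeAt (lim : Nat) (top : List Nat) (r : Nat) (t : List (List Nat × Nat × Nat)) (i : Nat) : Bool :=
  let N := t.getD i ([], 0, 0)
  mem r N.1 && nodeOK lim top (t.drop (i + 1)) N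

/-- A strictly increasing list. -/
def sorted : List Nat → Bool
  | a :: b :: l => Nat.blt a b && sorted (b :: l)
  | _ => true

/-- A complete decomposition: the class of `e`, then the orbit of `v`, then the common centralizer. -/
def decOK (e v : Nat) (T O : List (Nat × Nat)) (C : List Nat) : Bool :=
  valid e && valid v &&
    (T.all fun p => valid p.1 && valid p.2 && Nat.beq (cmp p.2 e) (cmp p.1 p.2)) &&
    (O.all fun p => valid p.1 && valid p.2 && cm p.2 e && Nat.beq (cmp p.2 v) (cmp p.1 p.2)) &&
    (C.all fun y => valid y && cm y e && cm y v) &&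
    sorted (T.map Prod.fst) && sorted (O.map Prod.fst) && sorted C &&
    Nat.beq (T.length * (O.length * C.length)) 1451520

/-- All products of the decomposition. -/
def prods (O : List (Nat × Nat)) (C : List Nat) : List Nat := O.flatMap fun p => C.map (cmp p.2)

/-- The conditions at a root: the orbit of one vertex and the centralizer of the other. -/
def rootOK (lim r a b : Nat) (OA : List (Nat × Nat)) (CB : List Nat) (later : List (List Nat × Nat × Nat)) : Bool :=
  known 1 a && known 1 b && cm a r && cm b r &&
    (CB.all fun h =>
      !(Nat.beq (cmp h h) one && !Nat.beq h one && !Nat.beq h r) ||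
        (let E2 := [h, cmp h r, r]
         E2.any (known lim) || later.any fun M => M.1.all fun e => mem e E2)) &&
    OA.all fun p => !(twoTop (cmp p.1 b) [r])

end Cfsg.Lib.CoThreeM12.SpCtl
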