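import Cfsg.Agent.Lib.CoThreeM12.Fusion

/-!
# The action of the element exchanging `t` and `t * z` on `Q`

It normalises `Q` and induces one of the four outer classes of automorphisms.
-/

set_option autoImplicit false
set_option linter.style.haveILetI false
set_option linter.unusedSectionVars false
set_option maxRecDepth 100000

namespace Cfsg.Lib.CoThreeM12

open Cfsg Cfsg.Lib.MTwelveRecog

universe u

theorem two_part_bound : ¬ 256 ∣ 190080 := by norm_num

namespace Setup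

variable {G : Type u} [Group G] (S : Setup G)

theorem card_centralizer_t [Finite G] : Nat.card (Subgroup.centralizer ({S.t} : Set G)) ≤ 2 * 95040 := by
  obtain ⟨K, -, hle⟩ := S.exists_part (Subgroup.centralizer ({S.t} : Set G)) fun g hg =>
    Subgroup.mem_centralizer_singleton_iff.1 hg
  haveI : Finite stdTwelve := Nat.finite_of_card_ne_zero (by rw [card_stdTwelve]; norm_num)
  have := Nat.le_of_dvd (by rw [card_stdTwelve]; norm_num) (Subgroup.card_subgroup_dvd_card K)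
  rw [card_stdTwelve] at this
  omega

theorem card_centralizer_t_eq [Finite G] : Nat.card (Subgroup.centralizer ({S.t} : Set G)) = 190080 := by
  haveI : Finite stdTwelve := Nat.finite_of_card_ne_zero (by rw [card_stdTwelve]; norm_num)
  let F : Bool × stdTwelve → Subgroup.centralizer ({S.t} : Set G) := fun p =>
    ⟨if p.1 then S.t * S.φ p.2 else S.φ p.2, Subgroup.mem_centralizer_singleton_iff.2 (by
      cases p.1
      · exact S.comm _
      · show S.t * S.φ p.2 * S.t = S.t * (S.t * S.φ p.2)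
        rw [mul_assoc, S.comm])⟩
  have hF : Function.Injective F := by
    rintro ⟨b, x⟩ ⟨c, y⟩ h
    have h' := congrArg Subtype.val h
    cases b <;> cases c <;> simp only [F, Bool.false_eq_true, if_true, if_false] at h'
    · rw [S.inj h']
    · exact absurd h'.symm (S.t_mul_phi_ne _ _)
    · exact absurd h' (S.t_mul_phi_ne _ _)
    · rw [S.inj (mul_left_cancel h')]
  have h1 := Nat.card_le_card_of_injective F hF
  rw [Nat.card_prod, Nat.card_eq_fintype_card (α := Bool), Fintype.card_bool, card_stdTwelve] at h1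
  exact le_antisymm S.card_centralizer_t (by omega)

/-- **Step 2**: `z` is not conjugate to `t`. -/
theorem not_isConj_z [Finite G] (hres : S.t ∈ Cfsg.pResidual 2 G) : ¬ IsConj S.t S.z := by
  intro h
  obtain ⟨n, -, -, hd⟩ := S.exists_mover hres
  obtain ⟨g, hg⟩ := isConj_iff.1 h
  have hinj : ∀ (g s t' : G), g * s * g⁻¹ = t' → ∀ x : Subgroup.centralizer ({s} : Set G),
      g * x * g⁻¹ ∈ Subgroup.centralizer ({t'} : Set G) := by
    intro g s t' e x
    rw [Subgroup.mem_centralizer_singleton_iff, ← e]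
    have := Subgroup.mem_centralizer_singleton_iff.1 x.2
    rw [show g * x * g⁻¹ * (g * s * g⁻¹) = g * (x * s) * g⁻¹ by group, this]
    group
  have hle : ∀ (g s t' : G), g * s * g⁻¹ = t' →
      Nat.card (Subgroup.centralizer ({s} : Set G)) ≤ Nat.card (Subgroup.centralizer ({t'} : Set G)) :=
    fun g s t' e => Nat.card_le_card_of_injective (fun x => (⟨g * x * g⁻¹, hinj g s t' e x⟩ :
      Subgroup.centralizer ({t'} : Set G))) fun x y e' =>
        Subtype.ext (mul_left_cancel (mul_right_cancel (congrArg Subtype.val e')))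
  have heq := le_antisymm (hle g _ _ hg) (hle g⁻¹ _ _ (by rw [← hg]; group))
  rw [← heq, S.card_centralizer_t_eq] at hd
  exact two_part_bound hd

theorem isConj_z_of_nine {i : Fin 192} (h : cCls i = 9 ∨ cCls i = 12) : IsConj (S.f i) S.z :=
  S.φ.map_isConj (isConj_elM_nine h)

theorem isConj_tz_of_nine {i : Fin 192} (h : cCls i = 9 ∨ cCls i = 12) : IsConj (S.t * S.f i) (S.t * S.z) := by
  obtain ⟨m, hm⟩ := isConj_iff.1 (isConj_elM_nine h)
  refine isConj_iff.2 ⟨S.φ m, ?_⟩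
  rw [show S.φ m * (S.t * S.f i) * (S.φ m)⁻¹ = S.φ m * S.t * (S.φ m)⁻¹ * (S.φ m * S.f i * (S.φ m)⁻¹) by group,
    S.conj_phi_t, f_eq, ← map_inv, ← map_mul, ← map_mul, hm]
  rfl

theorem isConj_a_of_four {i : Fin 192} (h : cCls i = 4) : IsConj (S.f i) S.a :=
  S.φ.map_isConj (isConj_elM_four h)

variable {n : G}

theorem swap_back (hn : n * S.t * n⁻¹ = S.t * S.z) (hz : n * S.z * n⁻¹ = S.z) :
    n * (S.t * S.z) * n⁻¹ = S.t := by
  rw [show n * (S.t * S.z) * n⁻¹ = n * S.t * n⁻¹ * (n * S.z * n⁻¹) by group, hn, hz, mul_assoc, S.z_sq,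
    mul_one]

theorem conj_mem_tz (hn : n * S.t * n⁻¹ = S.t * S.z) (hz : n * S.z * n⁻¹ = S.z) (g : G) :
    (n * g * n⁻¹ * S.t = S.t * (n * g * n⁻¹) ∧ n * g * n⁻¹ * S.z = S.z * (n * g * n⁻¹)) ↔
      (g * S.t = S.t * g ∧ g * S.z = S.z * g) := by
  have hb := S.swap_back hn hz
  have key : ∀ u : G, n * g * n⁻¹ * (n * u * n⁻¹) = n * u * n⁻¹ * (n * g * n⁻¹) ↔ g * u = u * g := by
    intro u
    rw [show n * g * n⁻¹ * (n * u * n⁻¹) = n * (g * u) * n⁻¹ by group,
      show n * u * n⁻¹ * (n * g * n⁻¹) = n * (u * g) * n⁻¹ by group, mul_left_inj, mul_right_inj]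
  have h1 := key (S.t * S.z)
  have h2 := key S.z
  rw [hb] at h1
  rw [hz] at h2
  rw [h1, h2]
  refine and_congr_left fun hgz => ⟨fun h => ?_, fun h => ?_⟩
  · refine mul_right_cancel (b := S.z) ?_
    rw [mul_assoc, h, mul_assoc, ← hgz, mul_assoc]
  · rw [← mul_assoc, h, mul_assoc, hgz, mul_assoc]

/-- The centraliser orders in `⟨t⟩ × Q` are preserved. -/
theorem cCard_image [Finite G] (hn : n * S.t * n⁻¹ = S.t * S.z) (hz : n * S.z * n⁻¹ = S.z) {i j : Fin 192}
    (h : n * S.f i * n⁻¹ = S.f j ∨ n * S.f i * n⁻¹ = S.t * S.f j) : cCard j = cCard i := by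
  have himg : (fun g => n * g * n⁻¹) '' {g : G | (g * S.t = S.t * g ∧ g * S.z = S.z * g) ∧ g * S.f i = S.f i * g} =
      {g : G | (g * S.t = S.t * g ∧ g * S.z = S.z * g) ∧ g * S.f j = S.f j * g} := by
    ext g
    obtain ⟨g', rfl⟩ : ∃ g', g = n * g' * n⁻¹ := ⟨n⁻¹ * g * n, by group⟩
    simp only [Set.mem_image, Set.mem_ofPred_eq]
    have hc : ∀ (hgt : n * g' * n⁻¹ * S.t = S.t * (n * g' * n⁻¹)),
        (n * g' * n⁻¹ * S.f j = S.f j * (n * g' * n⁻¹) ↔ g' * S.f i = S.f i * g') := by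
      intro hgt
      have key : n * g' * n⁻¹ * (n * S.f i * n⁻¹) = n * S.f i * n⁻¹ * (n * g' * n⁻¹) ↔ g' * S.f i = S.f i * g' := by
        rw [show n * g' * n⁻¹ * (n * S.f i * n⁻¹) = n * (g' * S.f i) * n⁻¹ by group,
          show n * S.f i * n⁻¹ * (n * g' * n⁻¹) = n * (S.f i * g') * n⁻¹ by group, mul_left_inj, mul_right_inj]
      rw [← key]
      rcases h with e | e <;> rw [e]
      rw [← mul_assoc (n * g' * n⁻¹), hgt, mul_assoc S.t, mul_assoc S.t, mul_right_inj]
    constructor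
    · rintro ⟨g'', ⟨h1, h2⟩, e⟩
      obtain rfl := mul_left_cancel (mul_right_cancel e)
      exact ⟨(S.conj_mem_tz hn hz _).2 h1, (hc ((S.conj_mem_tz hn hz _).2 h1).1).2 h2⟩
    · rintro ⟨h1, h2⟩
      exact ⟨g', ⟨(S.conj_mem_tz hn hz _).1 h1, (hc h1.1).1 h2⟩, rfl⟩
  have hcard := congrArg Set.ncard himg
  rw [Set.InjOn.ncard_image (fun a _ b _ e => mul_left_cancel (mul_right_cancel e)), S.ncard_comm_set,
    S.ncard_comm_set] at hcard
  omega

theorem image_nine [Finite G] (hres : S.t ∈ Cfsg.pResidual 2 G) (hn : n * S.t * n⁻¹ = S.t * S.z)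
    (hz : n * S.z * n⁻¹ = S.z) {i : Fin 192} (hi : cCls i = 9) : ∃ j, n * S.f i * n⁻¹ = S.f j := by
  obtain ⟨j, hj | hj⟩ := (S.mem_iff_tz _).1 ((S.conj_mem_tz hn hz _).2 ((S.mem_iff_tz _).2 ⟨i, Or.inl rfl⟩))
  · exact ⟨j, hj⟩
  exfalso
  have hsq := (cls_sq i (Or.inr (Or.inl hi))).1
  have hj2 : cMul j j = 0 := S.f_injective (by
    rw [S.fmul, S.fone]
    have e : n * S.f i * n⁻¹ * (n * S.f i * n⁻¹) = 1 := by
      rw [show n * S.f i * n⁻¹ * (n * S.f i * n⁻¹) = n * (S.f i * S.f i) * n⁻¹ by group, ← S.fmul, hsq, S.fone]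
      group
    rw [hj, S.f_eq, S.t_phi_sq, map_mul] at e
    exact e)
  have hc8 : cCard j = 8 := (S.cCard_image hn hz (Or.inr hj)).trans ((cls_cCard i).2.1 hi)
  have h0 : j ≠ 0 := fun e => by rw [e, show cCard 0 = 192 by decide +kernel] at hc8; norm_num at hc8
  have hT : j ≠ cT := fun e => by rw [e, show cCard cT = 192 by decide +kernel] at hc8; norm_num at hc8
  have h9 := (MTwelveRecog.Setup.cls_of_card hj2 h0 hT).2.1 hc8
  refine S.not_isConj_z hres ?_
  have h1 : IsConj S.t (S.t * S.z) := isConj_iff.2 ⟨n, hn⟩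
  have h2 : IsConj (S.f i) (S.t * S.f j) := isConj_iff.2 ⟨n, hj⟩
  exact (h1.trans (S.isConj_tz_of_nine (Or.inl h9)).symm).trans (h2.symm.trans (S.isConj_z_of_nine (Or.inl hi)))

/-- Such an element normalises `Q`. -/
theorem image_f [Finite G] (hres : S.t ∈ Cfsg.pResidual 2 G) (hn : n * S.t * n⁻¹ = S.t * S.z)
    (hz : n * S.z * n⁻¹ = S.z) (i : Fin 192) : ∃ j, n * S.f i * n⁻¹ = S.f j := by
  have mul : ∀ a b : Fin 192, (∃ j, n * S.f a * n⁻¹ = S.f j) → (∃ j, n * S.f b * n⁻¹ = S.f j) →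
      ∃ j, n * S.f (cMul a b) * n⁻¹ = S.f j := by
    rintro a b ⟨j, hj⟩ ⟨k, hk⟩
    exact ⟨cMul j k, by
      rw [S.fmul, S.fmul, ← hj, ← hk]; group⟩
  have two : ∀ a : Fin 192, inTwo a = true → ∃ j, n * S.f a * n⁻¹ = S.f j := by
    intro a ha
    rcases inTwo_spec a ha with rfl | h | ⟨j, hj, hja⟩
    · exact ⟨0, by rw [S.fone, mul_one, mul_inv_cancel]⟩
    · exact S.image_nine hres hn hz h
    · have e : cMul j (cMul j a) = a := S.f_injective (by
        rw [S.fmul, S.fmul, ← mul_assoc, ← S.fmul, (cls_sq j (Or.inr (Or.inl hj))).1, S.fone, one_mul])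
      rw [← e]
      exact mul _ _ (S.image_nine hres hn hz hj) (S.image_nine hres hn hz hja)
  obtain ⟨j, hj, hji⟩ := inTwo_all i
  have e : cMul j (cMul (cInv j) i) = i := S.f_injective (by
    rw [S.fmul, S.fmul, S.finv, mul_inv_cancel_left])
  rw [← e]
  exact mul _ _ (two j hj) (two _ hji)

/-- **Step 3**: the exchanging element can be chosen to induce one of the four outer representatives. -/
theorem exists_swap [Finite G] (hres : S.t ∈ Cfsg.pResidual 2 G) :
    ∃ n : G, ∃ k : Fin 4, n * S.t * n⁻¹ = S.t * S.z ∧ n * S.z * n⁻¹ = S.z ∧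
      ∀ i, n * S.f i * n⁻¹ = S.f (cOut k i) := by
  obtain ⟨n, hn, hz, -⟩ := S.exists_mover hres
  choose α hα using S.image_f hres hn hz
  have hm : ∀ i j, α (cMul i j) = cMul (α i) (α j) := fun i j => S.f_injective (by
    rw [← hα, S.fmul, S.fmul, ← hα, ← hα]; group)
  have h0 : α 0 = 0 := S.f_injective (by rw [← hα, S.fone, mul_one, mul_inv_cancel])
  have hp : ∀ i k, α (cPow i k) = cPow (α i) k := fun i k => by
    induction k with
    | zero => rw [cPow_zero_eq, cPow_zero_eq, h0]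
    | succ k ih => rw [cPow_succ_eq, cPow_succ_eq, hm, ih]
  have hi : Function.Injective α := fun i j e => S.f_injective (by
    have h := (hα i).trans ((congrArg S.f e).trans (hα j).symm)
    exact mul_left_cancel (mul_right_cancel h))
  have hne : ∀ i k, cPow i k ≠ 0 → cPow (α i) k ≠ 0 := fun i k h e => h (hi (by rw [hp, e, h0]))
  have hc : ∀ i, cCard (α i) = cCard i := fun i => S.cCard_image hn hz (Or.inl (hα i))
  obtain ⟨g1, g2, g3, g4, g5, g6, g7, g8, g9⟩ := gen_invariants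
  have ha := eight_spec (α 1) (by rw [← hp, g1, h0]) (hne _ _ g2) (by rw [hc, g3])
  have hb := five_spec (α 2) (by rw [← hp, g4, h0]) (hne _ _ g5) (hne _ _ g6) (by rw [hc, g7])
  obtain ⟨k, h, e1, e2⟩ := aut_table (α 1) ha (α 2) hb (by rw [← hm, ← hp, g8, h0]) (by rw [← hm]; exact hne _ _ g9)
  have hall : ∀ i, α i = cConj h (cOut k i) := by
    intro i
    obtain ⟨m, hm'⟩ := i
    induction m using Nat.strong_induction_on with
    | _ m ih =>
      rcases par_spec ⟨m, hm'⟩ with e | ⟨hlt, he, hg⟩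
      · rw [e, h0]
        refine S.f_injective ?_
        have h00 : cOut k 0 = 0 := by
          have := cOut_hom k 0 0
          rw [(cMul_inv 0).2.2.1] at this
          refine S.f_injective ?_
          have := congrArg S.f this
          rw [S.fmul] at this
          rw [S.fone]
          exact left_eq_mul.1 this
        rw [h00, S.fconj, S.fone, mul_one, mul_inv_cancel]
      · rw [← he, hm, cOut_hom]
        have hp' := ih (parPrev ⟨m, hm'⟩).1 hlt (parPrev ⟨m, hm'⟩).2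
        rw [show (⟨(parPrev ⟨m, hm'⟩).1, (parPrev ⟨m, hm'⟩).2⟩ : Fin 192) = parPrev ⟨m, hm'⟩ from rfl] at hp'
        rw [hp']
        refine S.f_injective ?_
        rcases hg with hg | hg <;> rw [hg]
        · rw [S.fmul, ← e1, S.fconj, S.fconj, S.fconj, S.fmul]; group
        · rw [S.fmul, ← e2, S.fconj, S.fconj, S.fconj, S.fmul]; group
  refine ⟨(S.f h)⁻¹ * n, k, ?_, ?_, fun i => ?_⟩
  · rw [show (S.f h)⁻¹ * n * S.t * ((S.f h)⁻¹ * n)⁻¹ = (S.f h)⁻¹ * (n * S.t * n⁻¹) * S.f h by group, hn]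
    have h1 := ((S.mem_iff_tz (S.f h)).2 ⟨h, Or.inl rfl⟩)
    rw [mul_assoc (S.f h)⁻¹, mul_assoc S.t, ← h1.2, ← mul_assoc S.t, ← h1.1]
    group
  · rw [show (S.f h)⁻¹ * n * S.z * ((S.f h)⁻¹ * n)⁻¹ = (S.f h)⁻¹ * (n * S.z * n⁻¹) * S.f h by group, hz,
      mul_assoc, ← ((S.mem_iff_tz (S.f h)).2 ⟨h, Or.inl rfl⟩).2, ← mul_assoc, inv_mul_cancel, one_mul]
  · rw [show (S.f h)⁻¹ * n * S.f i * ((S.f h)⁻¹ * n)⁻¹ = (S.f h)⁻¹ * (n * S.f i * n⁻¹) * S.f h by group, hα,
      hall, S.fconj]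
    group

/-- All `t * (central type)` are conjugate to `t`. -/
theorem isConj_t_tz [Finite G] (hres : S.t ∈ Cfsg.pResidual 2 G) : IsConj S.t (S.t * S.z) := by
  obtain ⟨n, hn, -⟩ := S.exists_mover hres
  exact isConj_iff.2 ⟨n, hn⟩

end Setup

end Cfsg.Lib.CoThreeM12
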