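import Cfsg.Agent.Lib.CoThreeM12.TransData

/-!
# The translation group: finite facts about the tables
-/

set_option autoImplicit false
set_option linter.style.longLine false
set_option maxRecDepth 100000

namespace Cfsg.Lib.CoThreeM12

open Cfsg Cfsg.Lib.MTwelveRecog

theorem sigWord_spec : ∀ i : Fin 192, inL i = true → ∀ p : Fin 12,
    (sigWord.map stdGen).prod (el i p) = el (cSig i) ((sigWord.map stdGen).prod p) := by
  decide +kernel

theorem sig_facts : inL cT = true ∧ cSig cT = 44 ∧ ∀ l : Fin 192, inL l = true →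
    inL (cSigInv l) = true ∧ cSig (cSigInv l) = l := by
  refine ⟨?_, ?_, ?_⟩ <;> decide +kernel

theorem bk_facts : ∀ k : Fin 4, cBk k cT = cT ∧ inL (cCorr k) = true ∧ cBfour k 44 = 44 ∧
    inL (cSq k) = true ∧ inF (cSq k) = true := by
  decide +kernel

theorem bk_invol : ∀ k : Fin 4, ∀ i : Fin 192, cBk k (cBk k i) = i := by decide +kernel

theorem four_facts : ∀ k : Fin 4, ∀ l : Fin 192, inL l = true →
    inL (cBk k (cSigInv l)) = true ∧ inL (cConj (cCorr k) l) = true ∧ inL (cPa k l) = true ∧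
    cPa k (cPa k l) = l := by
  decide +kernel

theorem comm_gens : ∀ i : Fin 192, cConj i 1 = 1 → cConj i 2 = 2 → i = 0 ∨ i = cT := by decide +kernel

theorem comm_four : ∀ i : Fin 192, cCm i 44 = true → cCm i 3 = true → inF i = true := by decide +kernel

theorem comm_six : ∀ i : Fin 192, inF i = true → cCm i 61 = true → cCm i 73 = true →
    ∃ a : Fin 4, i = cF ⟨a.val, by omega⟩ := by
  decide +kernel

theorem f_coord : ∀ i : Fin 192, inF i = true → ∃ a : Fin 8, i = cF a := by decide +kernel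

theorem f_closed : ∀ a b : Fin 8, inF (cMul (cF a) (cF b)) = true ∧ cMul (cF a) (cF b) = cMul (cF b) (cF a) := by
  decide +kernel

theorem f_conj : ∀ a : Fin 8, ∀ q : Fin 192, inF (cConj q (cF a)) = true := by decide +kernel

theorem f_fixed : ∀ k : Fin 4, ∀ a : Fin 8, inL (cF a) = true ∧ cBk k (cF a) = cF a ∧ cPa k (cF a) = cF a := by
  decide +kernel

theorem pt_facts : ∀ x : Fin 7, inF (cPt x) = true ∧ cPt x ≠ 0 ∧ cPos (cPt x) = x ∧ (x ≠ 0 → cConj (cH x) 44 = cPt x) := by
  decide +kernel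

theorem pos_facts : ∀ q : Fin 192, cPos (cConj q (cPt 0)) = 0 ∧ ∀ x : Fin 7, x ≠ 0 →
    cPos (cConj q (cPt x)) ≠ 0 ∧ inL (cLeft q x) = true ∧
      cMul (cH (cPos (cConj q (cPt x)))) (cLeft q x) = cMul q (cH x) := by
  decide +kernel

theorem zeta_F : ∀ k : Fin 4, ∀ q : Fin 192, inF (cDelta k q) = true := by decide +kernel

theorem left_F : ∀ k : Fin 4, ∀ l : Fin 192, inL l = true → inF (cMul (cPa k l) (cInv l)) = true := by
  decide +kernel

/-- The five points whose conjugates are given by the parameters. -/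
def isFive (x : Fin 7) : Bool := x != 4 && x != 6

/-- The images of the basis under `q` are among the five points. -/
def goodQ (q : Fin 192) : Bool :=
  isFive (cPos (cConj q (cPt 1))) && isFive (cPos (cConj q (cPt 3)))

theorem good_facts : goodQ 4 = true ∧ goodQ 40 = true ∧ goodQ 73 = true ∧ goodQ 10 = true ∧ goodQ 1 = true ∧
    cPos (cConj 10 (cPt 2)) = 4 ∧ cPos (cConj 1 (cPt 2)) = 6 ∧ isFive (cPos (cConj 4 (cPt 2))) = true ∧
    isFive (cPos (cConj 40 (cPt 5))) = true ∧ isFive (cPos (cConj 73 (cPt 5))) = true := by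
  refine ⟨?_, ?_, ?_, ?_, ?_, ?_, ?_, ?_, ?_, ?_⟩ <;> decide +kernel

theorem vec_bits : ∀ v : Fin 8, cMul (cMul (sel (v.val.testBit 0) 14) (sel (v.val.testBit 1) 44))
    (sel (v.val.testBit 2) 3) = cF v := by
  decide +kernel

theorem cF_facts : cF 0 = 0 ∧ Function.Injective cF ∧ ∀ v : Fin 8, ∀ b : Bool,
    cMul (cF v) (sel (v.val.testBit 0) 14) = cF ⟨2 * (v.val / 2), by omega⟩ ∧ inF (sel b 14) = true := by
  refine ⟨?_, ?_, ?_⟩ <;> decide +kernel

end Cfsg.Lib.CoThreeM12
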