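import Cfsg.Agent.Lib.CoThreeM12.Swap
import Cfsg.Agent.Lib.CoThreeM12.TransFacts

/-!
# The exchanging element and its conjugates

The exchanging element is normalised to an involution `n` fixing `F` pointwise; its conjugate at `44` is
corrected to an element `p` fixing `F`, and `P x` is the conjugate at each non-trivial `x ∈ F`.
-/

set_option autoImplicit false
set_option linter.style.haveILetI false
set_option linter.style.longLine false
set_option maxRecDepth 100000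

namespace Cfsg.Lib.CoThreeM12

open Cfsg Cfsg.Lib.MTwelveRecog

universe u

namespace Setup

variable {G : Type u} [Group G] (S : Setup G)

/-- A conditional factor. -/
def gsel (b : Bool) (x : G) : G := bif b then x else 1

theorem f_sel (b : Bool) (i : Fin 192) : S.f (sel b i) = gsel b (S.f i) := by
  cases b
  · exact S.fone
  · rfl

theorem f_comm_of {i j : Fin 192} (h : cMul i j = cMul j i) : S.f i * S.f j = S.f j * S.f i := by
  rw [← S.fmul, h, S.fmul]

theorem cCm_of_comm {i j : Fin 192} (h : S.f i * S.f j = S.f j * S.f i) : cCm i j = true := by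
  rw [← S.fmul, ← S.fmul] at h
  exact beq_iff_eq.2 (S.f_injective h)

theorem fixed_of_comm {i j : Fin 192} (h : S.f i * S.f j * (S.f i)⁻¹ = S.f j) : cConj i j = j :=
  S.f_injective (by rw [S.fconj, h])

theorem f_mul_comm {a b : Fin 192} (ha : inF a = true) (hb : inF b = true) :
    S.f a * S.f b = S.f b * S.f a := by
  obtain ⟨a, rfl⟩ := f_coord a ha
  obtain ⟨b, rfl⟩ := f_coord b hb
  exact S.f_comm_of (f_closed a b).2

end Setup

theorem inF_mul {a b : Fin 192} (ha : inF a = true) (hb : inF b = true) : inF (cMul a b) = true := by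
  obtain ⟨a, rfl⟩ := f_coord a ha
  obtain ⟨b, rfl⟩ := f_coord b hb
  exact (f_closed a b).1

theorem inF_conj {a : Fin 192} (ha : inF a = true) (q : Fin 192) : inF (cConj q a) = true := by
  obtain ⟨a, rfl⟩ := f_coord a ha
  exact f_conj a q

theorem inL_of_inF {a : Fin 192} (ha : inF a = true) : inL a = true := by
  obtain ⟨a, rfl⟩ := f_coord a ha
  exact (f_fixed 0 a).1

theorem inF_sel {b : Bool} {i : Fin 192} (h : inF i = true) : inF (sel b i) = true := by
  cases b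
  · rfl
  · exact h

/-- The element of the standard group moving the central involution to `44`. -/
def sigM : stdTwelve :=
  ⟨(sigWord.map stdGen).prod, Subgroup.list_prod_mem _ fun q hq => by
    obtain ⟨j, -, rfl⟩ := List.mem_map.1 hq
    exact stdGen_mem j⟩

theorem sigM_conj {l : Fin 192} (h : inL l = true) : sigM * elM l * sigM⁻¹ = elM (cSig l) := by
  refine mul_inv_eq_iff_eq_mul.2 (Subtype.ext (Equiv.ext fun p => ?_))
  rw [Subgroup.coe_mul, Subgroup.coe_mul, Equiv.Perm.mul_apply, Equiv.Perm.mul_apply]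
  exact sigWord_spec l h p

/-- A normalised exchanging element `n` and a conjugate `p` of it at `44`. -/
structure Tr {G : Type u} [Group G] (S : Setup G) (k : Fin 4) where
  /-- the exchanging element -/
  n : G
  /-- the corrected conjugate at `44` -/
  p : G
  n_sq : n * n = 1
  t_n : S.t * n = n * S.t * S.f 14
  n_f : ∀ i, n * S.f i = S.f (cBk k i) * n
  p_sq : p * p = S.f (cSq k)
  t_p : S.t * p = p * S.t * S.f 44
  p_f : ∀ l, inL l = true → p * S.f l = S.f (cPa k l) * p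
  fused : ∃ w : Fin 4, S.φ sigM * n * (S.φ sigM)⁻¹ =
    p * (bif cTe k then S.t else 1) * (S.f (cCorr k))⁻¹ * S.f (cF ⟨w.val, by omega⟩)

namespace Setup

variable {G : Type u} [Group G] (S : Setup G)

theorem exists_norm [Finite G] (hres : S.t ∈ Cfsg.pResidual 2 G) :
    ∃ n : G, ∃ k : Fin 4, n * n = 1 ∧ n * S.t * n⁻¹ = S.t * S.z ∧
      ∀ i, n * S.f i * n⁻¹ = S.f (cBk k i) := by
  obtain ⟨n0, k, hn, hz, hf⟩ := S.exists_swap hres
  set n1 := S.f (cShift k) * n0 with hn1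
  have hsh := (S.mem_iff_tz (S.f (cShift k))).2 ⟨_, Or.inl rfl⟩
  have hf1 : ∀ i, n1 * S.f i * n1⁻¹ = S.f (cBk k i) := fun i => by
    rw [hn1, cBk, S.fconj, ← hf]; group
  have ht1 : n1 * S.t * n1⁻¹ = S.t * S.z := by
    have e : n1 * S.t * n1⁻¹ = S.f (cShift k) * (n0 * S.t * n0⁻¹) * (S.f (cShift k))⁻¹ := by rw [hn1]; group
    rw [e, hn, ← mul_assoc, hsh.1, mul_assoc S.t, hsh.2, ← mul_assoc, mul_inv_cancel_right]
  have hz1 : n1 * S.z * n1⁻¹ = S.z := by rw [z, hf1, (bk_facts k).1]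
  set g := n1 * n1 with hg
  have hgt : g * S.t = S.t * g := by
    refine mul_inv_eq_iff_eq_mul.1 ?_
    rw [show g * S.t * g⁻¹ = n1 * (n1 * S.t * n1⁻¹) * n1⁻¹ by rw [hg]; group, ht1]
    exact S.swap_back ht1 hz1
  have hgz : g * S.z = S.z * g := by
    refine mul_inv_eq_iff_eq_mul.1 ?_
    rw [show g * S.z * g⁻¹ = n1 * (n1 * S.z * n1⁻¹) * n1⁻¹ by rw [hg]; group, hz1, hz1]
  obtain ⟨i, hi⟩ := (S.mem_iff_tz g).1 ⟨hgt, hgz⟩
  have hcj : ∀ j, cConj i j = j := fun j => by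
    refine S.fixed_of_comm ?_
    have h1 : g * S.f j * g⁻¹ = S.f j := by
      rw [show g * S.f j * g⁻¹ = n1 * (n1 * S.f j * n1⁻¹) * n1⁻¹ by rw [hg]; group, hf1, hf1, bk_invol]
    rcases hi with e | e <;> rw [e] at h1
    · exact h1
    · have h2 : S.t * (S.f i * S.f j * (S.f i)⁻¹) = S.t * S.f j := by
        rw [← S.comm_f j]
        conv_rhs => rw [← h1]
        group
      exact mul_left_cancel h2
  have hi0 := comm_gens i (hcj 1) (hcj 2)
  have hb : S.f (cBk k i) = S.f i := by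
    rcases hi0 with e | e <;> rw [e]
    · rw [← hf1, S.fone, mul_one, mul_inv_cancel]
    · rw [(bk_facts k).1]
  rcases hi with e | e
  · rcases hi0 with rfl | rfl
    · rw [S.fone] at e
      exact ⟨n1, k, e, ht1, hf1⟩
    · refine ⟨n1 * S.t, k, ?_, ?_, fun j => ?_⟩
      · have e' : g = S.z := e
        calc n1 * S.t * (n1 * S.t) = n1 * S.t * n1⁻¹ * g * S.t := by rw [hg]; group
          _ = 1 := by rw [ht1, e', mul_assoc S.t, S.z_sq, mul_one, S.t_sq]
      · rw [show n1 * S.t * S.t * (n1 * S.t)⁻¹ = n1 * S.t * n1⁻¹ by group, ht1]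
      · rw [show n1 * S.t * S.f j * (n1 * S.t)⁻¹ = n1 * (S.t * S.f j * S.t⁻¹) * n1⁻¹ by group, ← S.comm_f,
          mul_inv_cancel_right, hf1]
  · exfalso
    have h : n1 * g * n1⁻¹ = g := by rw [hg]; group
    rw [e, show n1 * (S.t * S.f i) * n1⁻¹ = n1 * S.t * n1⁻¹ * (n1 * S.f i * n1⁻¹) by group, ht1, hf1, hb] at h
    exact S.z_ne_one (mul_left_cancel (a := S.t) (by rw [mul_one]; exact mul_right_cancel h))

theorem exists_tr [Finite G] (hres : S.t ∈ Cfsg.pResidual 2 G) : ∃ k, Nonempty (Tr S k) := by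
  obtain ⟨n, k, hn2, hnt, hnf⟩ := S.exists_norm hres
  obtain ⟨hcT, hcor, hb44, -, -⟩ := bk_facts k
  obtain ⟨sg, hsg⟩ : ∃ g, g = S.φ sigM := ⟨_, rfl⟩
  have hst : sg * S.t * sg⁻¹ = S.t := hsg ▸ S.conj_phi_t sigM
  have hsl : ∀ l, inL l = true → sg * S.f l * sg⁻¹ = S.f (cSig l) := fun l hl => by
    rw [hsg, S.f_eq, S.f_eq, ← map_mul, ← map_inv, ← map_mul, sigM_conj hl]
  obtain ⟨m, hm⟩ : ∃ g, g = sg * n * sg⁻¹ := ⟨_, rfl⟩
  have hm2 : m * m = 1 := by
    rw [hm, show sg * n * sg⁻¹ * (sg * n * sg⁻¹) = sg * (n * n) * sg⁻¹ by group, hn2]; group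
  have hmi : m⁻¹ = m := inv_eq_of_mul_eq_one_right hm2
  have hmt : m * S.t * m⁻¹ = S.t * S.f 44 := by
    rw [hm, show sg * n * sg⁻¹ * S.t * (sg * n * sg⁻¹)⁻¹ =
      sg * (n * (sg⁻¹ * S.t * sg) * n⁻¹) * sg⁻¹ by group,
      show sg⁻¹ * S.t * sg = S.t by nth_rewrite 1 [← hst]; group, hnt,
      show sg * (S.t * S.z) * sg⁻¹ = sg * S.t * sg⁻¹ * (sg * S.z * sg⁻¹) by group, hst, z,
      hsl _ sig_facts.1, sig_facts.2.1]
  have hml : ∀ l, inL l = true → m * S.f l * m⁻¹ = S.f (cBfour k l) := fun l hl => by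
    obtain ⟨h1, h2⟩ := sig_facts.2.2 l hl
    have e : sg⁻¹ * S.f l * sg = S.f (cSigInv l) := by rw [← h2, ← hsl _ h1, h2]; group
    rw [hm, show sg * n * sg⁻¹ * S.f l * (sg * n * sg⁻¹)⁻¹ = sg * (n * (sg⁻¹ * S.f l * sg) * n⁻¹) * sg⁻¹ by group,
      e, hnf, hsl _ (four_facts k l hl).1]
    rfl
  obtain ⟨s, hs⟩ : ∃ g, g = S.f (cCorr k) := ⟨_, rfl⟩
  have hst' : s * S.t = S.t * s := hs ▸ S.comm_f _
  obtain ⟨τ, hτ⟩ : ∃ g : G, g = bif cTe k then S.t else 1 := ⟨_, rfl⟩
  have hτs : τ * s = s * τ := by rw [hτ]; cases cTe k <;> simp [hst']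
  have hτt : τ * S.t = S.t * τ := by rw [hτ]; cases cTe k <;> simp
  have hτf : ∀ i, τ * S.f i = S.f i * τ := fun i => by rw [hτ]; cases cTe k <;> simp [S.comm_f]
  have hτ2 : τ * τ = 1 := by rw [hτ]; cases cTe k <;> simp [S.t_sq]
  have h44m : S.f 44 * m = m * S.f 44 :=
    (mul_inv_eq_iff_eq_mul.1 (show m * S.f 44 * m⁻¹ = S.f 44 by rw [hml 44 (by decide +kernel), hb44])).symm
  have htm : S.t * m = m * S.f 44 * S.t := by
    have e1 : m * S.t = S.t * S.f 44 * m := mul_inv_eq_iff_eq_mul.1 hmt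
    calc S.t * m = S.t * (S.t * S.t) * m := by rw [S.t_sq, mul_one]
      _ = S.t * S.t * (m * S.f 44) * S.t := by
        rw [← h44m, mul_assoc (S.t * S.t), mul_assoc (S.f 44) m S.t, e1, ← mul_assoc (S.f 44), ← mul_assoc (S.f 44),
          S.comm_f 44, mul_assoc (S.t) (S.f 44) (S.f 44), ← S.fmul,
          show cMul 44 44 = 0 by decide +kernel, S.fone, mul_one]
        group
      _ = _ := by rw [S.t_sq, one_mul]
  have h44 : S.t * m * S.t = m * S.f 44 := by rw [htm, mul_assoc _ S.t S.t, S.t_sq, mul_one]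
  have h44s : S.f 44 * s = s * S.f 44 := hs ▸ S.f_comm_of ((show ∀ j : Fin 4, cMul 44 (cCorr j) = cMul (cCorr j) 44 by decide +kernel) k)
  refine ⟨k, ⟨⟨n, m * s * τ, hn2, ?_, fun i => mul_inv_eq_iff_eq_mul.1 (hnf i), ?_, ?_, fun l hl => ?_,
    0, ?_⟩⟩⟩
  · have hni : n⁻¹ = n := inv_eq_of_mul_eq_one_right hn2
    have e : n * S.t * n = S.t * S.z := by rw [← hnt, hni]
    calc S.t * n = n * (n * S.t * n) := by
          rw [← mul_assoc, ← mul_assoc, hn2, one_mul]
      _ = n * S.t * S.f 14 := by rw [e, ← mul_assoc]; rfl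
  · rw [cSq, S.fmul, S.fmul, ← hml _ hcor, ← hs, hmi, hτ]
    cases cTe k
    · simp only [cond_false, mul_one, S.fone]
      group
    · simp only [cond_true]
      rw [show m * s * S.t * (m * s * S.t) = m * s * (S.t * m * (s * S.t)) by group, hst', ← mul_assoc (S.t * m),
        h44]
      group
  · calc S.t * (m * s * τ) = S.t * m * (s * τ) := by group
      _ = m * S.f 44 * (S.t * s) * τ := by rw [htm]; group
      _ = m * (S.f 44 * s) * (τ * S.t) := by rw [← hst', hτt]; group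
      _ = m * s * (S.f 44 * τ) * S.t := by rw [h44s]; group
      _ = m * s * τ * (S.t * S.f 44) := by rw [← hτf 44, ← S.comm_f 44]; group
      _ = _ := by group
  · obtain ⟨-, h1, -, -⟩ := four_facts k l hl
    refine mul_inv_eq_iff_eq_mul.1 ?_
    rw [cPa, ← hml _ h1, S.fconj, ← hs,
      show m * s * τ * S.f l * (m * s * τ)⁻¹ = m * (s * (τ * S.f l * τ⁻¹) * s⁻¹) * m⁻¹ by group, hτf,
      mul_inv_cancel_right]
  · rw [show cF ⟨(0 : Fin 4).val, by omega⟩ = 0 from rfl, S.fone, mul_one, ← hsg, hm]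
    rw [← hτ, ← hs, mul_assoc (sg * n * sg⁻¹ * s), hτ2, mul_one, mul_inv_cancel_right]

end Setup

namespace Tr

variable {G : Type u} [Group G] {S : Setup G} {k : Fin 4} (T : Tr S k)

/-- The conjugate at a point of `F`. -/
noncomputable def P (x : Fin 7) : G := bif x == 0 then T.n else S.f (cH x) * T.p * (S.f (cH x))⁻¹

theorem P_zero : T.P 0 = T.n := rfl

theorem P_ne {x : Fin 7} (h : x ≠ 0) : T.P x = S.f (cH x) * T.p * (S.f (cH x))⁻¹ := by
  rw [P, beq_eq_false_iff_ne.2 h, cond_false]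

theorem P_one : T.P 1 = T.p := by
  rw [T.P_ne (by decide), show cH 1 = 0 from rfl, S.fone]; group

theorem fF_n {a : Fin 192} (ha : inF a = true) : T.n * S.f a = S.f a * T.n := by
  obtain ⟨a, rfl⟩ := f_coord a ha
  rw [T.n_f, (f_fixed k a).2.1]

theorem fF_p {a : Fin 192} (ha : inF a = true) : T.p * S.f a = S.f a * T.p := by
  obtain ⟨a, rfl⟩ := f_coord a ha
  rw [T.p_f _ (f_fixed k a).1, (f_fixed k a).2.2]

theorem fF_P {a : Fin 192} (ha : inF a = true) (x : Fin 7) : T.P x * S.f a = S.f a * T.P x := by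
  by_cases hx : x = 0
  · subst hx; exact T.fF_n ha
  · have h := T.fF_p (inF_conj ha (cInv (cH x)))
    have e : S.f (cConj (cInv (cH x)) a) = (S.f (cH x))⁻¹ * S.f a * S.f (cH x) := by
      rw [S.fconj, S.finv, inv_inv]
    rw [e] at h
    rw [T.P_ne hx,
      show S.f (cH x) * T.p * (S.f (cH x))⁻¹ * S.f a =
        S.f (cH x) * (T.p * ((S.f (cH x))⁻¹ * S.f a * S.f (cH x))) * (S.f (cH x))⁻¹ by group, h]
    group

theorem t_P (x : Fin 7) : S.t * T.P x = T.P x * S.t * S.f (cPt x) := by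
  by_cases hx : x = 0
  · subst hx; exact T.t_n
  · rw [T.P_ne hx, ← (pt_facts x).2.2.2 hx, S.fconj]
    have e1 : (S.f (cH x))⁻¹ * S.t = S.t * (S.f (cH x))⁻¹ := by rw [← S.finv]; exact S.comm_f _
    calc S.t * (S.f (cH x) * T.p * (S.f (cH x))⁻¹)
        = S.f (cH x) * (S.t * T.p) * (S.f (cH x))⁻¹ := by simp only [← mul_assoc, S.comm_f]
      _ = S.f (cH x) * T.p * (S.t * (S.f (cH x))⁻¹) * (S.f (cH x) * S.f 44 * (S.f (cH x))⁻¹) := by
        rw [T.t_p]; group
      _ = _ := by rw [← e1]; group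

/-- Conjugation by `f q` permutes the conjugates up to `F`. -/
theorem conj_P (q : Fin 192) (x : Fin 7) :
    S.f q * T.P x * (S.f q)⁻¹ = T.P (cPos (cConj q (cPt x))) * S.f (cZeta k q x) := by
  by_cases hx : x = 0
  · subst hx
    rw [(pos_facts q).1, P_zero, cZeta, beq_self_eq_true, cond_true, cDelta, S.fmul, S.finv, ← mul_assoc,
      T.n_f, bk_invol]
  · obtain ⟨hy, hl, e⟩ := (pos_facts q).2 x hx
    set l := cLeft q x with hl'
    obtain ⟨-, -, hpl, hinv⟩ := four_facts k l hl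
    have hp : S.f l * T.p = T.p * S.f (cPa k l) := by rw [T.p_f _ hpl, hinv]
    have he : S.f q * S.f (cH x) = S.f (cH (cPos (cConj q (cPt x)))) * S.f l := by rw [← S.fmul, ← e, S.fmul]
    rw [T.P_ne hx, T.P_ne hy, cZeta, beq_eq_false_iff_ne.2 hx, cond_false, S.fconj, S.fmul, S.finv, ← hl',
      show S.f q * (S.f (cH x) * T.p * (S.f (cH x))⁻¹) * (S.f q)⁻¹ =
        S.f q * S.f (cH x) * T.p * (S.f q * S.f (cH x))⁻¹ by group, he, mul_assoc _ (S.f l) T.p, hp]
    group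

end Tr

end Cfsg.Lib.CoThreeM12
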