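import Cfsg.Agent.Lib.CoThreeM12.Facts

/-!
# The translation group of `⟨t⟩ × F`: tables and multiplication

`F = {0, 14, 44, 106, 3, 34, 103, 50}` is the normal elementary subgroup of order eight of `Q`.  An element
`n` exchanging `t` and `t z` and its conjugates, one for each non-trivial element of `F`, generate together
with `t` and `Q` a group whose elements are written `(v, e, q)`, standing for
`n ^ v₀ * p ^ v₁ * p' ^ v₂ * t ^ e * f q`.
-/

set_option autoImplicit false
set_option linter.style.longLine false
set_option maxRecDepth 100000

namespace Cfsg.Lib.CoThreeM12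

open Cfsg Cfsg.Lib.MTwelveRecog

/-- The inner correction of the outer representatives. -/
def cShift : Fin 4 → Fin 192 := ![0, 33, 73, 24]

/-- The automorphism induced on `Q` by the normalised exchanging element. -/
def cBk (k : Fin 4) (i : Fin 192) : Fin 192 := cConj (cShift k) (cOut k i)

/-- Its derivation. -/
def cDelta (k : Fin 4) (q : Fin 192) : Fin 192 := cMul (cBk k q) (cInv q)

/-- The elements of `F` by their coordinates. -/
def cF : Fin 8 → Fin 192 := ![0, 14, 44, 106, 3, 34, 103, 50]

/-- The non-trivial elements of `F`. -/
def cPt : Fin 7 → Fin 192 := ![14, 44, 106, 3, 34, 103, 50]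

/-- The position of a non-trivial element of `F`. -/
def cPos (i : Fin 192) : Fin 7 :=
  bif i == 44 then 1 else bif i == 106 then 2 else bif i == 3 then 3 else bif i == 34 then 4
  else bif i == 103 then 5 else bif i == 50 then 6 else 0

/-- Membership in `F`. -/
def inF (i : Fin 192) : Bool := i == 0 || i == cPt (cPos i)

/-- Conjugators from `44` to the other five elements. -/
def cH : Fin 7 → Fin 192 := ![0, 0, 4, 10, 2, 1, 6]

/-- The centraliser in `Q` of `44`. -/
def inL (i : Fin 192) : Bool := Nat.testBit 73559812731845607001240931391734268716815423344136962057 i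

/-- A word for an element of the standard group moving the central involution to `44`. -/
def sigWord : List (Fin 4) := [0, 0, 2, 3, 0, 1, 2, 0, 3, 2, 2]

/-- Conjugation by that element on `inL`. -/
def cSig (i : Fin 192) : Fin 192 := idxAt 2465877768949088376928969621607737064561937852552548861265742303809188351730218910717658834901239143808048261770052868760450189715968426444015836675247989335189407481383153056980162099547472105915036181586895393872117338473947908687838611197322852800962014467258516156476165068239087017768592081041884977470696704614846724719572424624334629079390758970462680235393121868613156189848803712429785511462624272010830743481104478096032422684012587253760 i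

/-- Its inverse. -/
def cSigInv (i : Fin 192) : Fin 192 := idxAt 2465877768949088376928969621607737064561937852552548861265742303809188351730218910717658834901239143808048261770052868760450189715968426444015836675247989335189407481383153056980162099547472105915036181586895393872117338473947908687838611197322852800962014467258516156476165068239087017768592081041884977470696704614846724719572424624334629079390758970462680235393121868613156189848803712429785511462624272010830743481104478096032422684012587253760 i

/-- The correction making the conjugate at `44` fix `F`. -/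
def cCorr : Fin 4 → Fin 192 := ![0, 73, 73, 0]

/-- Whether the correction carries a factor `t`. -/
def cTe : Fin 4 → Bool := ![false, true, false, false]

/-- The action of the conjugate at `44` on `inL`, before correction. -/
def cBfour (k : Fin 4) (l : Fin 192) : Fin 192 := cSig (cBk k (cSigInv l))

/-- The action of the corrected conjugate on `inL`. -/
def cPa (k : Fin 4) (l : Fin 192) : Fin 192 := cBfour k (cConj (cCorr k) l)

/-- The square of the corrected conjugate. -/
def cSq (k : Fin 4) : Fin 192 :=
  cMul (cMul (cBfour k (cCorr k)) (bif cTe k then 44 else 0)) (cCorr k)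

/-- The element of `inL` left when `q` acts on the conjugators. -/
def cLeft (q : Fin 192) (x : Fin 7) : Fin 192 :=
  cMul (cInv (cH (cPos (cConj q (cPt x))))) (cMul q (cH x))

/-- `f q` moves the conjugate at `x` to the conjugate at `q x` times this element of `F`. -/
def cZeta (k : Fin 4) (q : Fin 192) (x : Fin 7) : Fin 192 :=
  bif x == 0 then cDelta k q else
    cConj (cH (cPos (cConj q (cPt x)))) (cMul (cPa k (cLeft q x)) (cInv (cLeft q x)))

/-- Elements `(v, e, q)`. -/
abbrev El := Fin 8 × Bool × Fin 192

/-- Unknown constants: two commutators and two line products. -/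
structure Par where
  /-- the commutator of `p` and `n` -/
  c : Fin 192
  /-- the commutator of `p'` and `p` -/
  u : Fin 192
  /-- the `t`-part of the first line product -/
  e : Bool
  /-- the `F`-part of the first line product -/
  r : Fin 192
  /-- the `t`-part of the second line product -/
  e' : Bool
  /-- the `F`-part of the second line product -/
  r' : Fin 192
deriving DecidableEq

/-- The sum of two coordinate vectors. -/
def vAdd (v w : Fin 8) : Fin 8 := ⟨(v.val ^^^ w.val) % 8, Nat.mod_lt _ (by norm_num)⟩

/-- A conditional index. -/
def sel (b : Bool) (x : Fin 192) : Fin 192 := bif b then x else 0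

/-- The correction of a product. -/
def cCorrect (k : Fin 4) (π : Par) (v : Fin 8) (e : Bool) (w : Fin 8) : Fin 192 :=
  cMul (cMul (sel (v.val.testBit 1 && w.val.testBit 1) (cSq k))
      (cMul (sel (v.val.testBit 2 && w.val.testBit 2) (cConj 10 (cSq k)))
        (cMul (sel (v.val.testBit 2 && w.val.testBit 1) π.u)
          (cMul (sel (v.val.testBit 1 && w.val.testBit 0) π.c)
            (sel (v.val.testBit 2 && w.val.testBit 0) (cConj 10 π.c))))))
    (cMul (sel (w.val.testBit 2 && e) 3) (cMul (sel (w.val.testBit 1 && e) 44) (sel (w.val.testBit 0 && e) 14)))

/-- The product when the middle index lies in `F`. -/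
def mA (k : Fin 4) (π : Par) (a b : El) : El :=
  (vAdd a.1 b.1, xor a.2.1 b.2.1, cMul (cCorrect k π a.1 a.2.1 b.1) (cMul a.2.2 b.2.2))

/-- The five conjugates given by the parameters. -/
def cFive (k : Fin 4) (π : Par) : Fin 7 → El :=
  ![(1, false, 0), (2, false, 0), mA k π (mA k π (1, false, 0) (2, false, 0)) (0, π.e, π.r), (4, false, 0),
    (0, false, 0), mA k π (mA k π (2, false, 0) (4, false, 0)) (0, π.e', π.r'), (0, false, 0)]

/-- The image of a basis vector. -/
def cImg (k : Fin 4) (π : Par) (E : Fin 7 → El) (q : Fin 192) (x : Fin 7) : El :=
  mA k π (E (cPos (cConj q (cPt x)))) (0, false, cZeta k q x)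

/-- Conjugation by `f q` on the elements with index in `F`, given the conjugates. -/
def cPhiWith (k : Fin 4) (π : Par) (E : Fin 7 → El) (q : Fin 192) (a : El) : El :=
  mA k π (mA k π (mA k π (bif a.1.val.testBit 0 then cImg k π E q 0 else (0, false, 0))
      (bif a.1.val.testBit 1 then cImg k π E q 1 else (0, false, 0)))
    (bif a.1.val.testBit 2 then cImg k π E q 3 else (0, false, 0))) (0, a.2.1, cConj q a.2.2)

/-- The conjugate at `34`. -/
def cAtFour (k : Fin 4) (π : Par) : El :=
  mA k π (cPhiWith k π (cFive k π) 10 (cFive k π 2)) (0, false, cZeta k 10 2)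

/-- The conjugate at `50`. -/
def cAtSix (k : Fin 4) (π : Par) : El :=
  mA k π (cPhiWith k π (cFive k π) 1 (cFive k π 2)) (0, false, cZeta k 1 2)

/-- All seven conjugates. -/
def cE (k : Fin 4) (π : Par) : Fin 7 → El :=
  ![cFive k π 0, cFive k π 1, cFive k π 2, cFive k π 3, cAtFour k π, cFive k π 5, cAtSix k π]

/-- Conjugation by `f q`. -/
def cPhi (k : Fin 4) (π : Par) (q : Fin 192) (a : El) : El := cPhiWith k π (cE k π) q a

/-- The product. -/
def mMul (k : Fin 4) (π : Par) (a b : El) : El :=
  mA k π (a.1, a.2.1, 0) (mA k π (cPhi k π a.2.2 (b.1, b.2.1, 0)) (0, false, cMul a.2.2 b.2.2))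

end Cfsg.Lib.CoThreeM12
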