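import Cfsg.Agent.Lib.CoThreeM12.TransRels

/-!
# Evaluation of the coordinates in the group

With the relations of the constants `π` the map `(v, e, q) ↦ n ^ v₀ * p ^ v₁ * p' ^ v₂ * t ^ e * f q` is
multiplicative and injective on the elements with index in `F`, and conjugation by `f q` is given by `cPhi`.
-/

set_option autoImplicit false
set_option linter.style.haveILetI false
set_option linter.style.longLine false
set_option maxRecDepth 100000

namespace Cfsg.Lib.CoThreeM12

open Cfsg Cfsg.Lib.MTwelveRecog Setup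

universe u

theorem vAdd_bit : ∀ v w : Fin 8, ∀ i : Fin 3,
    (vAdd v w).val.testBit i.val = xor (v.val.testBit i.val) (w.val.testBit i.val) := by
  decide +kernel

theorem vec_ext : ∀ v w : Fin 8, (∀ i : Fin 3, v.val.testBit i.val = w.val.testBit i.val) → v = w := by
  decide +kernel

theorem inF_const : inF 0 = true ∧ inF 14 = true ∧ inF 44 = true ∧ inF 3 = true := by decide +kernel

theorem inF_sq (k : Fin 4) : inF (cSq k) = true ∧ inF (cConj 10 (cSq k)) = true :=
  ⟨(bk_facts k).2.2.2.2, inF_conj (bk_facts k).2.2.2.2 10⟩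

theorem inF_zeta (k : Fin 4) (q : Fin 192) (x : Fin 7) : inF (cZeta k q x) = true := by
  by_cases hx : x = 0
  · subst hx; exact zeta_F k q
  · rw [cZeta, beq_eq_false_iff_ne.2 hx, cond_false]
    exact inF_conj (left_F k _ ((pos_facts q).2 x hx).2.1) _

namespace Tr

variable {G : Type u} [Group G] {S : Setup G} {k : Fin 4} (T : Tr S k)

theorem gsel_swap {x y c : G} (h : y * x = x * y * c) (a b : Bool) :
    gsel b y * gsel a x = gsel a x * gsel b y * gsel (b && a) c := by
  cases a <;> cases b <;> simp [gsel, h]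

theorem gsel_add {x c : G} (h : x * x = c) (a b : Bool) :
    gsel a x * gsel b x = gsel (xor a b) x * gsel (a && b) c := by
  cases a <;> cases b <;> simp [gsel, h]

theorem gsel_comm {x y : G} (h : y * x = x * y) (a : Bool) : y * gsel a x = gsel a x * y := by
  cases a <;> simp [gsel, h]

/-- The element with given coordinates. -/
noncomputable def ev (a : El) : G :=
  gsel (a.1.val.testBit 0) T.n * gsel (a.1.val.testBit 1) T.p * gsel (a.1.val.testBit 2) (T.P 3) *
    gsel a.2.1 S.t * S.f a.2.2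

theorem ev_one : T.ev (0, false, 0) = 1 := by
  simp [ev, gsel, S.fone]

/-- A central element of the four generators. -/
structure Cen (c : G) : Prop where
  cn : c * T.n = T.n * c
  cp : c * T.p = T.p * c
  cq : c * T.P 3 = T.P 3 * c
  ct : c * S.t = S.t * c

theorem cen_f {i : Fin 192} (h : inF i = true) : T.Cen (S.f i) :=
  ⟨(T.fF_n h).symm, (T.fF_p h).symm, (T.fF_P h 3).symm, S.comm_f i⟩

theorem cen_sel {i : Fin 192} (h : inF i = true) (b : Bool) : T.Cen (gsel b (S.f i)) := by
  rw [← S.f_sel]; exact T.cen_f (inF_sel h)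

variable {π : Par}

theorem qn (R : T.Rels π) : T.P 3 * T.n = T.n * T.P 3 * S.f (cConj 10 π.c) := by
  have h0 := T.conj_P 10 0
  rw [(pos_facts 10).1, P_zero] at h0
  have h3 : S.f 10 * T.p * (S.f 10)⁻¹ = T.P 3 := (T.P_ne (x := 3) (by decide)).symm
  have hd := inF_zeta k 10 0
  have e := congrArg (fun g => S.f 10 * g * (S.f 10)⁻¹) R.pn
  rw [show S.f 10 * (T.p * T.n) * (S.f 10)⁻¹ = S.f 10 * T.p * (S.f 10)⁻¹ * (S.f 10 * T.n * (S.f 10)⁻¹) by group,
    show S.f 10 * (T.n * T.p * S.f π.c) * (S.f 10)⁻¹ =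
      S.f 10 * T.n * (S.f 10)⁻¹ * (S.f 10 * T.p * (S.f 10)⁻¹) * (S.f 10 * S.f π.c * (S.f 10)⁻¹) by group,
    h0, h3, ← S.fconj, mul_assoc T.n (S.f _) (T.P 3), (T.cen_f hd).cq, ← mul_assoc T.n,
    mul_assoc (T.n * T.P 3), S.f_mul_comm hd (inF_conj R.hc 10), ← mul_assoc, ← mul_assoc] at e
  exact mul_right_cancel e

theorem inF_correct (R : T.Rels π) (v : Fin 8) (e : Bool) (w : Fin 8) : inF (cCorrect k π v e w) = true := by
  obtain ⟨-, h14, h44, h3⟩ := inF_const
  exact inF_mul (inF_mul (inF_sel (inF_sq k).1) (inF_mul (inF_sel (inF_sq k).2) (inF_mul (inF_sel R.hu)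
    (inF_mul (inF_sel R.hc) (inF_sel (inF_conj R.hc 10))))))
    (inF_mul (inF_sel h3) (inF_mul (inF_sel h44) (inF_sel h14)))

theorem inF_mA (R : T.Rels π) {a b : El} (ha : inF a.2.2 = true) (hb : inF b.2.2 = true) :
    inF (mA k π a b).2.2 = true :=
  inF_mul (T.inF_correct R _ _ _) (inF_mul ha hb)

theorem ev_mA (R : T.Rels π) (a b : El) (ha : inF a.2.2 = true) : T.ev (mA k π a b) = T.ev a * T.ev b := by
  obtain ⟨v, e, i⟩ := a
  obtain ⟨w, g, j⟩ := b
  obtain ⟨-, h14, h44, h3⟩ := inF_const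
  simp only [ev, mA, cCorrect, S.fmul, S.f_sel]
  rw [show (vAdd v w).val.testBit 0 = xor (v.val.testBit 0) (w.val.testBit 0) from vAdd_bit v w 0,
    show (vAdd v w).val.testBit 1 = xor (v.val.testBit 1) (w.val.testBit 1) from vAdd_bit v w 1,
    show (vAdd v w).val.testBit 2 = xor (v.val.testBit 2) (w.val.testBit 2) from vAdd_bit v w 2]
  generalize v.val.testBit 0 = a0
  generalize v.val.testBit 1 = a1
  generalize v.val.testBit 2 = a2
  generalize w.val.testBit 0 = b0
  generalize w.val.testBit 1 = b1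
  generalize w.val.testBit 2 = b2
  -- move `t` and `f i` through the coordinates of the second factor
  have hi := T.cen_f ha
  have s0 := gsel_swap T.t_n b0 e
  have s1 := gsel_swap T.t_p b1 e
  have s2 := gsel_swap (T.t_P 3) b2 e
  have c10 := gsel_swap R.pn b0 a1
  have c20 := gsel_swap (T.qn R) b0 a2
  have c21 := gsel_swap R.qp b1 a2
  have q0 := gsel_add T.n_sq a0 b0
  have q1 := gsel_add T.p_sq a1 b1
  have q2 := gsel_add T.q_sq a2 b2
  rw [show gsel (a0 && b0) (1 : G) = 1 by cases a0 <;> cases b0 <;> rfl, mul_one] at q0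
  have n0 := T.cen_sel (i := 14) h14 (e && b0)
  have n1 := T.cen_sel (i := 44) h44 (e && b1)
  have n2 := T.cen_sel (i := cPt 3) (by decide +kernel) (e && b2)
  have d10 := T.cen_sel R.hc (a1 && b0)
  have d20 := T.cen_sel (inF_conj R.hc 10) (a2 && b0)
  have d21 := T.cen_sel R.hu (a2 && b1)
  have u1 := T.cen_sel (inF_sq k).1 (a1 && b1)
  have u2 := T.cen_sel (inF_sq k).2 (a2 && b2)
  have m0 := gsel_comm (n0).cp b1
  have m1 := gsel_comm (n0).cq b2
  have m2 := gsel_comm (n1).cq b2
  have m3 := gsel_comm (n0).ct g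
  have m4 := gsel_comm (n1).ct g
  have m5 := gsel_comm (n2).ct g
  have m6 := gsel_comm (d20).cp b1
  have m7 := gsel_comm (d20).cq b2
  have m8 := gsel_comm (d10).cq a2
  have m9 := gsel_comm (d10).cp b1
  have m10 := gsel_comm (d10).cq b2
  have m11 := gsel_comm (d21).cq b2
  have m12 := gsel_comm (u1).cq (xor a2 b2)
  have m13 := gsel_comm (d20).ct (xor e g)
  have m14 := gsel_comm (d10).ct (xor e g)
  have m15 := gsel_comm (d21).ct (xor e g)
  have m16 := gsel_comm (u2).ct (xor e g)
  have m17 := gsel_comm (u1).ct (xor e g)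
  have m18 := gsel_comm (hi).cn b0
  have m19 := gsel_comm (hi).cp b1
  have m20 := gsel_comm (hi).cq b2
  have m21 := gsel_comm (hi).ct g
  set A := gsel a0 T.n
  set B := gsel a1 T.p
  set C := gsel a2 (T.P 3)
  set A' := gsel b0 T.n
  set B' := gsel b1 T.p
  set C' := gsel b2 (T.P 3)
  set E := gsel e S.t
  set E' := gsel g S.t
  set X := gsel (xor a0 b0) T.n
  set Y := gsel (xor a1 b1) T.p
  set Z := gsel (xor a2 b2) (T.P 3)
  set K0 := gsel (e && b0) (S.f 14) with hK0
  set K1 := gsel (e && b1) (S.f 44) with hK1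
  set K2 := gsel (e && b2) (S.f (cPt 3)) with hK2
  set D10 := gsel (a1 && b0) (S.f π.c) with hD10
  set D20 := gsel (a2 && b0) (S.f (cConj 10 π.c)) with hD20
  set D21 := gsel (a2 && b1) (S.f π.u) with hD21
  set Q1 := gsel (a1 && b1) (S.f (cSq k))
  set Q2 := gsel (a2 && b2) (S.f (cConj 10 (cSq k)))
  have hx : A * B * C * (A' * B' * C') = X * Y * Z * (Q1 * (Q2 * (D21 * (D10 * D20)))) :=
    calc A * B * C * (A' * B' * C') = A * B * (C * A') * B' * C' := by group
      _ = A * B * A' * C * (D20 * B') * C' := by rw [c20]; group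
      _ = A * B * A' * C * B' * (D20 * C') := by rw [m6]; group
      _ = A * (B * A') * C * B' * C' * D20 := by rw [m7]; group
      _ = A * A' * B * (D10 * C) * B' * C' * D20 := by rw [c10]; group
      _ = A * A' * B * C * (D10 * B') * C' * D20 := by rw [m8]; group
      _ = A * A' * B * C * B' * (D10 * C') * D20 := by rw [m9]; group
      _ = A * A' * B * (C * B') * C' * (D10 * D20) := by rw [m10]; group
      _ = A * A' * (B * B') * C * (D21 * C') * (D10 * D20) := by rw [c21]; group
      _ = A * A' * (B * B') * (C * C') * D21 * (D10 * D20) := by rw [m11]; group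
      _ = X * Y * (Q1 * Z) * Q2 * D21 * (D10 * D20) := by rw [q0, q1, q2]; group
      _ = _ := by rw [m12]; group
  have ht : E * (A' * B' * C') = A' * B' * C' * E * (K2 * (K1 * K0)) :=
    calc E * (A' * B' * C') = E * A' * B' * C' := by group
      _ = A' * E * (K0 * B') * C' := by rw [s0]; group
      _ = A' * E * B' * (K0 * C') := by rw [m0]; group
      _ = A' * (E * B') * C' * K0 := by rw [m1]; group
      _ = A' * B' * E * (K1 * C') * K0 := by rw [s1]; group
      _ = A' * B' * (E * C') * (K1 * K0) := by rw [m2]; group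
      _ = _ := by rw [s2]; group
  have hfi : S.f i * (A' * B' * C' * E') = A' * B' * C' * E' * S.f i := by
    rw [← mul_assoc, ← mul_assoc, ← mul_assoc, m18, mul_assoc A', m19, ← mul_assoc A',
      mul_assoc (A' * B'), m20, ← mul_assoc (A' * B'), mul_assoc (A' * B' * C'), m21,
      ← mul_assoc (A' * B' * C')]
  have hkt : K2 * (K1 * K0) * E' = E' * (K2 * (K1 * K0)) := by
    rw [mul_assoc, mul_assoc, m3, ← mul_assoc K1, m4, mul_assoc E', ← mul_assoc K2,
      m5, mul_assoc E']
  have hee : E * E' = gsel (xor e g) S.t := by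
    rw [gsel_add S.t_sq e g]; cases e <;> cases g <;> simp [gsel]
  have hke : Q1 * (Q2 * (D21 * (D10 * D20))) * gsel (xor e g) S.t =
      gsel (xor e g) S.t * (Q1 * (Q2 * (D21 * (D10 * D20)))) := by
    simp only [mul_assoc]
    rw [m13, ← mul_assoc D10, m14, mul_assoc (gsel _ S.t), ← mul_assoc D21,
      m15, mul_assoc (gsel _ S.t), ← mul_assoc Q2, m16, mul_assoc (gsel _ S.t),
      ← mul_assoc Q1, m17, mul_assoc (gsel _ S.t)]
  symm
  calc A * B * C * E * S.f i * (A' * B' * C' * E' * S.f j)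
      = A * B * C * E * (S.f i * (A' * B' * C' * E')) * S.f j := by group
    _ = A * B * C * (E * (A' * B' * C')) * E' * (S.f i * S.f j) := by rw [hfi]; group
    _ = A * B * C * (A' * B' * C') * E * (K2 * (K1 * K0) * E') * (S.f i * S.f j) := by rw [ht]; group
    _ = X * Y * Z * (Q1 * (Q2 * (D21 * (D10 * D20))) * (E * E')) * (K2 * (K1 * K0)) * (S.f i * S.f j) := by
      rw [hkt, hx]; group
    _ = X * Y * Z * gsel (xor e g) S.t *
        (Q1 * (Q2 * (D21 * (D10 * D20))) * (K2 * (K1 * K0)) * (S.f i * S.f j)) := by rw [hee, hke]; group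
    _ = _ := by
      simp only [hK0, hK1, hK2, hD10, hD20, hD21, show cPt 3 = 3 from rfl, Bool.and_comm e]

theorem t_gsel (x : Fin 7) (b : Bool) :
    S.t * gsel b (T.P x) = gsel b (T.P x) * S.t * S.f (sel b (cPt x)) := by
  cases b
  · show S.t * 1 = 1 * S.t * S.f 0
    rw [S.fone]; simp
  · exact T.t_P x

theorem t_coord (v : Fin 8) :
    S.t * (gsel (v.val.testBit 0) T.n * gsel (v.val.testBit 1) T.p * gsel (v.val.testBit 2) (T.P 3)) =
      gsel (v.val.testBit 0) T.n * gsel (v.val.testBit 1) T.p * gsel (v.val.testBit 2) (T.P 3) * S.t *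
        S.f (cF v) := by
  have h0 := T.t_gsel 0 (v.val.testBit 0)
  have h1 := T.t_gsel 1 (v.val.testBit 1)
  have h2 := T.t_gsel 3 (v.val.testBit 2)
  rw [P_zero] at h0
  rw [P_one] at h1
  obtain ⟨-, h14, h44, h3⟩ := inF_const
  have c0 := T.cen_f (inF_sel (b := v.val.testBit 0) h14)
  have c1 := T.cen_f (inF_sel (b := v.val.testBit 1) h44)
  have k0 := gsel_comm c0.cp (v.val.testBit 1)
  have k0' := gsel_comm c0.cq (v.val.testBit 2)
  have k1 := gsel_comm c1.cq (v.val.testBit 2)
  set A := gsel (v.val.testBit 0) T.n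
  set B := gsel (v.val.testBit 1) T.p
  set C := gsel (v.val.testBit 2) (T.P 3)
  rw [← vec_bits v, S.fmul, S.fmul]
  change S.t * A = A * S.t * S.f (sel _ 14) at h0
  change S.t * B = B * S.t * S.f (sel _ 44) at h1
  change S.t * C = C * S.t * S.f (sel _ 3) at h2
  calc S.t * (A * B * C) = S.t * A * B * C := by group
    _ = A * S.t * (S.f (sel (v.val.testBit 0) 14) * B) * C := by rw [h0]; group
    _ = A * S.t * B * (S.f (sel (v.val.testBit 0) 14) * C) := by rw [k0]; group
    _ = A * (S.t * B) * C * S.f (sel (v.val.testBit 0) 14) := by rw [k0']; group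
    _ = A * B * S.t * (S.f (sel (v.val.testBit 1) 44) * C) * S.f (sel (v.val.testBit 0) 14) := by rw [h1]; group
    _ = A * B * (S.t * C) * (S.f (sel (v.val.testBit 1) 44) * S.f (sel (v.val.testBit 0) 14)) := by
      rw [k1]; group
    _ = A * B * C * S.t * (S.f (sel (v.val.testBit 2) 3) *
        (S.f (sel (v.val.testBit 1) 44) * S.f (sel (v.val.testBit 0) 14))) := by rw [h2]; group
    _ = _ := by
      rw [S.f_mul_comm (inF_sel h44) (inF_sel h14),
        ← S.fmul (sel (v.val.testBit 0) 14), S.f_mul_comm (inF_sel h3) (inF_mul (inF_sel h14) (inF_sel h44))]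

theorem ev_inj {a b : El} (h : T.ev a = T.ev b) : a = b := by
  obtain ⟨v, e, i⟩ := a
  obtain ⟨w, g, j⟩ := b
  have hX := T.t_coord v
  have hY := T.t_coord w
  simp only [ev] at h
  set X := gsel (v.val.testBit 0) T.n * gsel (v.val.testBit 1) T.p * gsel (v.val.testBit 2) (T.P 3) with hXd
  set Y := gsel (w.val.testBit 0) T.n * gsel (w.val.testBit 1) T.p * gsel (w.val.testBit 2) (T.P 3) with hYd
  have hd : S.t * (Y⁻¹ * X) = Y⁻¹ * X * S.t := by
    have e1 : Y⁻¹ * X = gsel g S.t * S.f j * (gsel e S.t * S.f i)⁻¹ := by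
      rw [eq_mul_inv_iff_mul_eq, mul_assoc, inv_mul_eq_iff_eq_mul, ← mul_assoc, ← mul_assoc]
      exact h
    rw [e1]
    have hc : ∀ e : Bool, ∀ i : Fin 192, S.t * (gsel e S.t * S.f i) = gsel e S.t * S.f i * S.t := fun e i => by
      rw [mul_assoc, S.comm_f, ← mul_assoc, ← mul_assoc]
      cases e <;> simp [gsel]
    rw [← mul_assoc, hc g j, mul_assoc, mul_assoc (gsel g S.t * S.f j)]
    congr 1
    rw [eq_inv_mul_iff_mul_eq, ← mul_assoc, ← hc e i, mul_inv_cancel_right]
  have hvw : v = w := by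
    have e2 : Y * S.t * S.f (cF w) * (Y⁻¹ * X) = X * S.t * S.f (cF v) := by
      rw [← hY, ← hX]; group
    have hcY : Y⁻¹ * X * S.f (cF w) = S.f (cF w) * (Y⁻¹ * X) := by
      have hw : inF (cF w) = true := (show ∀ w : Fin 8, inF (cF w) = true by decide +kernel) w
      have c := T.cen_f hw
      have hcomm : ∀ u : Fin 8, Commute (S.f (cF w))
          (gsel (u.val.testBit 0) T.n * gsel (u.val.testBit 1) T.p * gsel (u.val.testBit 2) (T.P 3)) := fun u =>
        ((show Commute (S.f (cF w)) (gsel (u.val.testBit 0) T.n) from gsel_comm c.cn _).mul_right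
          (show Commute (S.f (cF w)) (gsel (u.val.testBit 1) T.p) from gsel_comm c.cp _)).mul_right
          (show Commute (S.f (cF w)) (gsel (u.val.testBit 2) (T.P 3)) from gsel_comm c.cq _)
      exact ((hcomm w).inv_right.mul_right (hcomm v)).symm
    rw [mul_assoc (Y * S.t), ← hcY, ← mul_assoc, mul_assoc Y S.t, hd, ← mul_assoc Y, mul_inv_cancel_left] at e2
    exact (cF_facts.2.1 (S.f_injective (mul_left_cancel e2))).symm
  subst hvw
  rw [← (show X = Y from rfl), mul_assoc X, mul_assoc X] at h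
  have h' := mul_left_cancel h
  cases e <;> cases g
  · have h2 : S.f i = S.f j := mul_left_cancel h'
    rw [S.f_injective h2]
  · exact absurd (h'.symm.trans (one_mul _)) (S.tf_ne_f j i)
  · exact absurd (h'.trans (one_mul _)) (S.tf_ne_f i j)
  · have h2 : S.f i = S.f j := mul_left_cancel h'
    rw [S.f_injective h2]

theorem ev_te (e : Bool) (i : Fin 192) : T.ev (0, e, i) = gsel e S.t * S.f i := by
  simp [ev, gsel]

theorem ev_zeta (i : Fin 192) : T.ev (0, false, i) = S.f i := by
  simp [ev, gsel]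

end Tr

end Cfsg.Lib.CoThreeM12
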