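import Cfsg.Agent.Lib.CoThreeM12.TransData

/-!
# The translation group: the constants

Five conjugation relations leave one possibility for `k = 0`, one for `k = 1` and none for the other two
representatives.
-/

set_option autoImplicit false
set_option linter.style.longLine false
set_option maxRecDepth 100000

namespace Cfsg.Lib.CoThreeM12

open Cfsg Cfsg.Lib.MTwelveRecog

/-- The conjugate at `x` moves as prescribed. -/
def cRel (k : Fin 4) (π : Par) (E : Fin 7 → El) (q : Fin 192) (x : Fin 7) : Bool :=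
  cPhiWith k π E q (E x) == cImg k π E q x

/-- The commutator relation moves as prescribed. -/
def cRelComm (k : Fin 4) (π : Par) (q : Fin 192) : Bool :=
  mA k π (cImg k π (cFive k π) q 3) (cImg k π (cFive k π) q 1) ==
    mA k π (mA k π (cImg k π (cFive k π) q 1) (cImg k π (cFive k π) q 3)) (0, false, cConj q π.u)

/-- The five relations. -/
def cRels (k : Fin 4) (π : Par) : Bool :=
  cRel k π (cFive k π) 4 2 && cRel k π (cFive k π) 40 5 && cRel k π (cFive k π) 73 5 &&
    cRelComm k π 10 && cRel k π (cE k π) 2 5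

/-- The constants in normal form. -/
def cPar (c : Fin 4) (u : Fin 8) (e : Bool) (r : Fin 4) (e' : Bool) (r' : Fin 4) : Par :=
  ⟨cF ⟨c.val, by omega⟩, cF u, e, cF ⟨2 * r.val, by omega⟩, e', cF ⟨2 * r'.val, by omega⟩⟩

/-- The constants for `k = 0`. -/
def parZero : Par := ⟨0, 0, false, 0, false, 0⟩

/-- The constants for `k = 1`. -/
def parOne : Par := ⟨106, 103, true, 3, true, 3⟩

theorem solve_zero : ∀ c : Fin 4, ∀ u : Fin 8, ∀ e : Bool, ∀ r : Fin 4, ∀ e' : Bool, ∀ r' : Fin 4,
    cRels 0 (cPar c u e r e' r') = true → cPar c u e r e' r' = parZero := by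
  decide +kernel

theorem solve_one : ∀ c : Fin 4, ∀ u : Fin 8, ∀ e : Bool, ∀ r : Fin 4, ∀ e' : Bool, ∀ r' : Fin 4,
    cRels 1 (cPar c u e r e' r') = true → cPar c u e r e' r' = parOne := by
  decide +kernel

theorem solve_two : ∀ c : Fin 4, ∀ u : Fin 8, ∀ e : Bool, ∀ r : Fin 4, ∀ e' : Bool, ∀ r' : Fin 4,
    cRels 2 (cPar c u e r e' r') = false := by
  decide +kernel

theorem solve_three : ∀ c : Fin 4, ∀ u : Fin 8, ∀ e : Bool, ∀ r : Fin 4, ∀ e' : Bool, ∀ r' : Fin 4,
    cRels 3 (cPar c u e r e' r') = false := by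
  decide +kernel

/-- **Only two cases remain.** -/
theorem solve_all (k : Fin 4) (c : Fin 4) (u : Fin 8) (e : Bool) (r : Fin 4) (e' : Bool) (r' : Fin 4)
    (h : cRels k (cPar c u e r e' r') = true) :
    (k = 0 ∧ cPar c u e r e' r' = parZero) ∨ (k = 1 ∧ cPar c u e r e' r' = parOne) := by
  rcases (by omega : k.val = 0 ∨ k.val = 1 ∨ k.val = 2 ∨ k.val = 3) with hk | hk | hk | hk
  · obtain rfl : k = 0 := Fin.ext hk
    exact Or.inl ⟨rfl, solve_zero c u e r e' r' h⟩
  · obtain rfl : k = 1 := Fin.ext hk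
    exact Or.inr ⟨rfl, solve_one c u e r e' r' h⟩
  · obtain rfl : k = 2 := Fin.ext hk
    rw [solve_two] at h
    exact absurd h (by decide)
  · obtain rfl : k = 3 := Fin.ext hk
    rw [solve_three] at h
    exact absurd h (by decide)

end Cfsg.Lib.CoThreeM12
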