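import Cfsg.Agent.Lib.CoThreeM12.TransEval
import Cfsg.Agent.Lib.CoThreeM12.TransSolve

/-!
# The two possible translation groups

The relations force `k = 0` with trivial constants or `k = 1` with one set of constants.
-/

set_option autoImplicit false
set_option linter.style.haveILetI false
set_option linter.style.longLine false
set_option maxRecDepth 100000

namespace Cfsg.Lib.CoThreeM12

open Cfsg Cfsg.Lib.MTwelveRecog Setup

universe u

theorem vec_seven {α : Type*} (a b c d e f g : α) :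
    ![a, b, c, d, e, f, g] (0 : Fin 7) = a ∧ ![a, b, c, d, e, f, g] (1 : Fin 7) = b ∧
    ![a, b, c, d, e, f, g] (2 : Fin 7) = c ∧ ![a, b, c, d, e, f, g] (3 : Fin 7) = d ∧
    ![a, b, c, d, e, f, g] (4 : Fin 7) = e ∧ ![a, b, c, d, e, f, g] (5 : Fin 7) = f ∧
    ![a, b, c, d, e, f, g] (6 : Fin 7) = g :=
  ⟨rfl, rfl, rfl, rfl, rfl, rfl, rfl⟩

theorem five_values : ∀ x : Fin 7, isFive x = true → x = 0 ∨ x = 1 ∨ x = 2 ∨ x = 3 ∨ x = 5 := by decide

namespace Tr

variable {G : Type u} [Group G] {S : Setup G} {k : Fin 4} (T : Tr S k) {π : Par}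

/-- `E` gives the conjugate at `x`. -/
def Gives (E : Fin 7 → El) (x : Fin 7) : Prop := T.ev (E x) = T.P x ∧ inF (E x).2.2 = true

theorem inF_te {e : Bool} {r : Fin 192} (h : inF r = true) : inF ((0, e, r) : El).2.2 = true := h

theorem gives_five (R : T.Rels π) : ∀ x, isFive x = true → T.Gives (cFive k π) x := by
  have h0 : inF 0 = true := inF_const.1
  have a : T.ev (1, false, 0) = T.n := by
    rw [ev, show (1 : Fin 8).val.testBit 0 = true from rfl, show (1 : Fin 8).val.testBit 1 = false from rfl,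
      show (1 : Fin 8).val.testBit 2 = false from rfl]
    simp [gsel, S.fone]
  have b : T.ev (2, false, 0) = T.p := by
    rw [ev, show (2 : Fin 8).val.testBit 0 = false from rfl, show (2 : Fin 8).val.testBit 1 = true from rfl,
      show (2 : Fin 8).val.testBit 2 = false from rfl]
    simp [gsel, S.fone]
  have c : T.ev (4, false, 0) = T.P 3 := by
    rw [ev, show (4 : Fin 8).val.testBit 0 = false from rfl, show (4 : Fin 8).val.testBit 1 = false from rfl,
      show (4 : Fin 8).val.testBit 2 = true from rfl]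
    simp [gsel, S.fone]
  intro x hx
  obtain ⟨v0, v1, v2, v3, -, v5, -⟩ := vec_seven (1, false, 0) (2, false, 0)
    (mA k π (mA k π (1, false, 0) (2, false, 0)) (0, π.e, π.r)) (4, false, 0) ((0, false, 0) : El)
    (mA k π (mA k π (2, false, 0) (4, false, 0)) (0, π.e', π.r')) (0, false, 0)
  rcases five_values x hx with rfl | rfl | rfl | rfl | rfl
  · rw [Gives, cFive, v0]; exact ⟨a, h0⟩
  · rw [Gives, cFive, v1]; exact ⟨b.trans T.P_one.symm, h0⟩
  · rw [Gives, cFive, v2]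
    refine ⟨?_, T.inF_mA R (T.inF_mA R h0 h0) R.hr⟩
    rw [T.ev_mA R _ _ (T.inF_mA R h0 h0), T.ev_mA R _ _ h0, a, b, T.ev_te, R.line]
  · rw [Gives, cFive, v3]; exact ⟨c, h0⟩
  · rw [Gives, cFive, v5]
    refine ⟨?_, T.inF_mA R (T.inF_mA R h0 h0) R.hr'⟩
    rw [T.ev_mA R _ _ (T.inF_mA R h0 h0), T.ev_mA R _ _ h0, c, b, T.ev_te, R.line']

theorem ev_img (R : T.Rels π) {E : Fin 7 → El} {q : Fin 192} {x : Fin 7}
    (h : T.Gives E (cPos (cConj q (cPt x)))) :
    T.ev (cImg k π E q x) = S.f q * T.P x * (S.f q)⁻¹ ∧ inF (cImg k π E q x).2.2 = true := by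
  refine ⟨?_, T.inF_mA R h.2 (inF_zeta k q x)⟩
  rw [cImg, T.ev_mA R _ _ h.2, h.1, T.ev_zeta, T.conj_P]

/-- `E` gives the images of the basis under `q`. -/
def GivesBasis (E : Fin 7 → El) (q : Fin 192) : Prop :=
  T.Gives E (cPos (cConj q (cPt 0))) ∧ T.Gives E (cPos (cConj q (cPt 1))) ∧ T.Gives E (cPos (cConj q (cPt 3)))

theorem gives_basis (R : T.Rels π) {q : Fin 192} (h : goodQ q = true) : T.GivesBasis (cFive k π) q := by
  rw [goodQ, Bool.and_eq_true] at h
  exact ⟨T.gives_five R _ (by rw [(pos_facts q).1]; rfl), T.gives_five R _ h.1, T.gives_five R _ h.2⟩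

theorem ev_cimg_cond (R : T.Rels π) {E : Fin 7 → El} {q : Fin 192} {x : Fin 7}
    (h : T.Gives E (cPos (cConj q (cPt x)))) (b : Bool) :
    T.ev (bif b then cImg k π E q x else (0, false, 0)) = S.f q * gsel b (T.P x) * (S.f q)⁻¹ ∧
      inF (bif b then cImg k π E q x else ((0, false, 0) : El)).2.2 = true := by
  cases b
  · refine ⟨?_, inF_const.1⟩
    show T.ev (0, false, 0) = S.f q * 1 * (S.f q)⁻¹
    rw [T.ev_one]; group
  · exact T.ev_img R h

theorem ev_phiWith (R : T.Rels π) {E : Fin 7 → El} {q : Fin 192} (h : T.GivesBasis E q) {a : El}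
    (ha : inF a.2.2 = true) :
    T.ev (cPhiWith k π E q a) = S.f q * T.ev a * (S.f q)⁻¹ ∧ inF (cPhiWith k π E q a).2.2 = true := by
  obtain ⟨e0, f0⟩ := T.ev_cimg_cond R h.1 (a.1.val.testBit 0)
  obtain ⟨e1, f1⟩ := T.ev_cimg_cond R h.2.1 (a.1.val.testBit 1)
  obtain ⟨e2, f2⟩ := T.ev_cimg_cond R h.2.2 (a.1.val.testBit 2)
  have f01 := T.inF_mA R f0 f1
  have f012 := T.inF_mA R f01 f2
  refine ⟨?_, T.inF_mA R f012 (inF_conj ha q)⟩
  rw [cPhiWith, T.ev_mA R _ _ f012, T.ev_mA R _ _ f01, T.ev_mA R _ _ f0, e0, e1, e2, T.ev_te, P_zero, T.P_one,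
    S.fconj]
  have ht : S.f q * gsel a.2.1 S.t = gsel a.2.1 S.t * S.f q := gsel_comm (S.comm_f q) _
  calc S.f q * gsel (a.1.val.testBit 0) T.n * (S.f q)⁻¹ * (S.f q * gsel (a.1.val.testBit 1) T.p * (S.f q)⁻¹) *
        (S.f q * gsel (a.1.val.testBit 2) (T.P 3) * (S.f q)⁻¹) *
        (gsel a.2.1 S.t * (S.f q * S.f a.2.2 * (S.f q)⁻¹))
      = S.f q * gsel (a.1.val.testBit 0) T.n * gsel (a.1.val.testBit 1) T.p * gsel (a.1.val.testBit 2) (T.P 3) *
          ((S.f q)⁻¹ * (gsel a.2.1 S.t * S.f q)) * S.f a.2.2 * (S.f q)⁻¹ := by group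
    _ = _ := by rw [← ht, ev]; group

theorem gives_at (R : T.Rels π) {q : Fin 192} (hq : goodQ q = true) :
    T.ev (mA k π (cPhiWith k π (cFive k π) q (cFive k π 2)) (0, false, cZeta k q 2)) =
        T.P (cPos (cConj q (cPt 2))) ∧
      inF (mA k π (cPhiWith k π (cFive k π) q (cFive k π 2)) (0, false, cZeta k q 2)).2.2 = true := by
  obtain ⟨h2, h2F⟩ := T.gives_five R 2 rfl
  obtain ⟨e, f⟩ := T.ev_phiWith R (T.gives_basis R hq) h2F
  refine ⟨?_, T.inF_mA R f (inF_zeta k q 2)⟩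
  rw [T.ev_mA R _ _ f, e, h2, T.conj_P, T.ev_zeta, mul_assoc, ← S.fmul]
  obtain ⟨a, ha⟩ := f_coord _ (inF_zeta k q 2)
  rw [ha, (show ∀ a : Fin 8, cMul (cF a) (cF a) = 0 by decide +kernel) a, S.fone, mul_one]

theorem cE_five (x : Fin 7) (h : isFive x = true) : cE k π x = cFive k π x := by
  obtain ⟨v0, v1, v2, v3, -, v5, -⟩ := vec_seven (cFive k π 0) (cFive k π 1) (cFive k π 2) (cFive k π 3)
    (cAtFour k π) (cFive k π 5) (cAtSix k π)
  rcases five_values x h with rfl | rfl | rfl | rfl | rfl <;> rw [cE]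
  · rw [v0]
  · rw [v1]
  · rw [v2]
  · rw [v3]
  · rw [v5]

theorem cE_four : cE k π 4 = cAtFour k π := by
  rw [cE]; exact (vec_seven _ _ _ _ _ _ _).2.2.2.2.1

theorem cE_six : cE k π 6 = cAtSix k π := by
  rw [cE]; exact (vec_seven _ _ _ _ _ _ _).2.2.2.2.2.2

theorem gives_all (R : T.Rels π) : ∀ x, T.Gives (cE k π) x := by
  intro x
  by_cases hx : isFive x = true
  · rw [Gives, cE_five x hx]
    exact T.gives_five R x hx
  · obtain ⟨-, -, -, h10, h1, p4, p6, -⟩ := good_facts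
    have h46 : x = 4 ∨ x = 6 := by revert hx; revert x; decide
    rcases h46 with rfl | rfl
    · rw [Gives, cE_four, cAtFour, ← p4]
      exact T.gives_at R h10
    · rw [Gives, cE_six, cAtSix, ← p6]
      exact T.gives_at R h1

theorem gives_basis_all (R : T.Rels π) (q : Fin 192) : T.GivesBasis (cE k π) q :=
  ⟨T.gives_all R _, T.gives_all R _, T.gives_all R _⟩

theorem ev_phi (R : T.Rels π) (q : Fin 192) {a : El} (ha : inF a.2.2 = true) :
    T.ev (cPhi k π q a) = S.f q * T.ev a * (S.f q)⁻¹ ∧ inF (cPhi k π q a).2.2 = true :=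
  T.ev_phiWith R (T.gives_basis_all R q) ha

/-- **The product in coordinates.** -/
theorem ev_mMul (R : T.Rels π) (a b : El) : T.ev (mMul k π a b) = T.ev a * T.ev b := by
  obtain ⟨v, e, q⟩ := a
  obtain ⟨w, g, r⟩ := b
  obtain ⟨h1, h2⟩ := T.ev_phi R q (a := (w, g, 0)) inF_const.1
  rw [mMul, T.ev_mA R _ _ inF_const.1, T.ev_mA R _ _ h2, h1, T.ev_zeta, S.fmul]
  simp only [ev, S.fone, mul_one]
  group

theorem rel_ok (R : T.Rels π) {E : Fin 7 → El} {q : Fin 192} {x : Fin 7} (hb : T.GivesBasis E q)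
    (hx : T.Gives E x) (hy : T.Gives E (cPos (cConj q (cPt x)))) : cRel k π E q x = true := by
  refine beq_iff_eq.2 (T.ev_inj ?_)
  rw [(T.ev_phiWith R hb hx.2).1, hx.1, (T.ev_img R hy).1]

theorem relComm_ok (R : T.Rels π) : cRelComm k π 10 = true := by
  obtain ⟨-, h1, h3⟩ := T.gives_basis R good_facts.2.2.2.1
  obtain ⟨e1, f1⟩ := T.ev_img R h1
  obtain ⟨e3, f3⟩ := T.ev_img R h3
  have f13 := T.inF_mA R f1 f3
  refine beq_iff_eq.2 (T.ev_inj ?_)
  rw [T.ev_mA R _ _ f13, T.ev_mA R _ _ f1, T.ev_mA R _ _ f3, e1, e3, T.ev_zeta, T.P_one, S.fconj]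
  calc S.f 10 * T.P 3 * (S.f 10)⁻¹ * (S.f 10 * T.p * (S.f 10)⁻¹) = S.f 10 * (T.P 3 * T.p) * (S.f 10)⁻¹ := by group
    _ = _ := by rw [R.qp]; group

theorem rels_ok (R : T.Rels π) : cRels k π = true := by
  obtain ⟨g4, g40, g73, -, -, -, -, x4, x40, x73⟩ := good_facts
  rw [cRels]
  simp only [Bool.and_eq_true]
  exact ⟨⟨⟨⟨T.rel_ok R (T.gives_basis R g4) (T.gives_five R 2 rfl) (T.gives_five R _ x4),
    T.rel_ok R (T.gives_basis R g40) (T.gives_five R 5 rfl) (T.gives_five R _ x40)⟩,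
    T.rel_ok R (T.gives_basis R g73) (T.gives_five R 5 rfl) (T.gives_five R _ x73)⟩,
    T.relComm_ok R⟩, T.rel_ok R (T.gives_basis_all R 2) (T.gives_all R 5) (T.gives_all R _)⟩

theorem P_gauge (a b : Bool) {x : Fin 7} (hx : x ≠ 0) : (T.gauge a b).P x = T.P x * S.f (sel b 14) := by
  have hc : S.f (sel b 14) * (S.f (cH x))⁻¹ = (S.f (cH x))⁻¹ * S.f (sel b 14) := by
    rw [← S.finv]
    cases b
    · show S.f 0 * _ = _ * S.f 0
      rw [S.fone, one_mul, mul_one]
    · exact S.f_comm_of (cT_central _).1.symm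
  rw [T.P_ne hx, (T.gauge a b).P_ne hx]
  show S.f (cH x) * (T.p * S.f (sel b 14)) * (S.f (cH x))⁻¹ = _
  rw [mul_assoc, mul_assoc T.p, hc]
  group

include T in
theorem exists_line_even : ∃ T' : Tr S k, (∃ e, ∃ r : Fin 4, T'.P 2 = T'.n * T'.p * (gsel e S.t * S.f (cF ⟨2 * r.val, by omega⟩))) ∧
    ∃ e, ∃ r : Fin 4, T'.P 5 = T'.p * T'.P 3 * (gsel e S.t * S.f (cF ⟨2 * r.val, by omega⟩)) := by
  obtain ⟨e, r, hr, h⟩ := T.exists_line
  obtain ⟨e', r', hr', h'⟩ := T.exists_line'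
  obtain ⟨A, rfl⟩ := f_coord r hr
  obtain ⟨A', rfl⟩ := f_coord r' hr'
  set a := A.val.testBit 0
  set b := A'.val.testBit 0
  have hev : ∀ A : Fin 8, ∃ r : Fin 4, cMul (cF A) (sel (A.val.testBit 0) 14) = cF ⟨2 * r.val, by omega⟩ := by
    decide +kernel
  obtain ⟨r1, h1⟩ := hev A
  obtain ⟨r2, h2⟩ := hev A'
  have hz : ∀ c : Bool, inF (sel c 14) = true := fun c => inF_sel inF_const.2.1
  have sq0 : ∀ c : Bool, S.f (sel c 14) * S.f (sel c 14) = 1 := fun c => by
    rw [← S.fmul, (show ∀ c : Bool, cMul (sel c 14) (sel c 14) = 0 by decide +kernel) c, S.fone]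
  refine ⟨T.gauge a b, ⟨e, r1, ?_⟩, ⟨e', r2, ?_⟩⟩
  · rw [T.P_gauge a b (by decide), h, ← h1, S.fmul]
    show T.n * T.p * (gsel e S.t * S.f (cF A)) * S.f (sel b 14) =
      T.n * S.f (sel a 14) * (T.p * S.f (sel b 14)) * (gsel e S.t * (S.f (cF A) * S.f (sel a 14)))
    have k1 := (T.cen_f (hz a)).cp
    have k2 := gsel_comm (T.cen_f (hz a)).ct e
    have k3 := gsel_comm (T.cen_f (hz b)).ct e
    have k4 := S.f_mul_comm (hz a) hr
    have k5 := S.f_mul_comm (hz b) hr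
    have k6 := S.f_mul_comm (hz b) (hz a)
    symm
    calc T.n * S.f (sel a 14) * (T.p * S.f (sel b 14)) * (gsel e S.t * (S.f (cF A) * S.f (sel a 14)))
        = T.n * (S.f (sel a 14) * T.p) * (S.f (sel b 14) * gsel e S.t) * S.f (cF A) * S.f (sel a 14) := by group
      _ = T.n * T.p * (S.f (sel a 14) * gsel e S.t) * (S.f (sel b 14) * S.f (cF A)) * S.f (sel a 14) := by
        rw [k1, k3]; group
      _ = T.n * T.p * gsel e S.t * (S.f (sel a 14) * S.f (cF A)) * (S.f (sel b 14) * S.f (sel a 14)) := by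
        rw [k2, k5]; group
      _ = T.n * T.p * gsel e S.t * S.f (cF A) * (S.f (sel a 14) * S.f (sel a 14)) * S.f (sel b 14) := by
        rw [k4, k6]; group
      _ = _ := by rw [sq0]; group
  · rw [T.P_gauge a b (by decide), T.P_gauge a b (by decide), h', ← h2, S.fmul]
    show T.p * T.P 3 * (gsel e' S.t * S.f (cF A')) * S.f (sel b 14) =
      T.p * S.f (sel b 14) * (T.P 3 * S.f (sel b 14)) * (gsel e' S.t * (S.f (cF A') * S.f (sel b 14)))
    have k1 := (T.cen_f (hz b)).cq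
    symm
    calc T.p * S.f (sel b 14) * (T.P 3 * S.f (sel b 14)) * (gsel e' S.t * (S.f (cF A') * S.f (sel b 14)))
        = T.p * (S.f (sel b 14) * T.P 3) * S.f (sel b 14) * (gsel e' S.t * S.f (cF A')) * S.f (sel b 14) := by
          group
      _ = T.p * T.P 3 * (S.f (sel b 14) * S.f (sel b 14)) * (gsel e' S.t * S.f (cF A')) * S.f (sel b 14) := by
        rw [k1]; group
      _ = _ := by rw [sq0]; group

include T in
/-- The normalised elements with their constants. -/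
theorem exists_rels : ∃ T' : Tr S k, ∃ c u e r e' r', T'.Rels (cPar c u e r e' r') := by
  obtain ⟨T', ⟨e, r, h⟩, e', r', h'⟩ := T.exists_line_even
  obtain ⟨c, hc⟩ := T'.exists_comm
  obtain ⟨i, hi, hu⟩ := T'.exists_comm'
  obtain ⟨u, rfl⟩ := f_coord i hi
  have hF : ∀ a : Fin 8, inF (cF a) = true := by decide +kernel
  exact ⟨T', c, u, e, r, e', r', hF ⟨c.val, by omega⟩, hF u, hF ⟨2 * r.val, by omega⟩, hF ⟨2 * r'.val, by omega⟩,
    hc, hu, h, h'⟩

end Tr

namespace Setup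

variable {G : Type u} [Group G] (S : Setup G)

/-- **The translation group is one of two models.** -/
theorem exists_model [Finite G] (hres : S.t ∈ Cfsg.pResidual 2 G) :
    (∃ T : Tr S 0, T.Rels parZero) ∨ ∃ T : Tr S 1, T.Rels parOne := by
  obtain ⟨k, ⟨T₀⟩⟩ := S.exists_tr hres
  obtain ⟨T, c, u, e, r, e', r', R⟩ := T₀.exists_rels
  rcases solve_all k c u e r e' r' (T.rels_ok R) with ⟨rfl, h⟩ | ⟨rfl, h⟩
  · exact Or.inl ⟨T, h ▸ R⟩
  · exact Or.inr ⟨T, h ▸ R⟩

end Setup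

end Cfsg.Lib.CoThreeM12
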