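import Cfsg.Agent.Lib.CoThreeM12.Trans

/-!
# The commutators and line products of the conjugates

`p * n`, `p' * p` and the two line products differ from `n * p`, `p * p'` by elements of `⟨t⟩ × F`.
-/

set_option autoImplicit false
set_option linter.style.haveILetI false
set_option linter.style.longLine false
set_option maxRecDepth 100000

namespace Cfsg.Lib.CoThreeM12

open Cfsg Cfsg.Lib.MTwelveRecog Setup

universe u

theorem comm_c : ∀ k : Fin 4, ∀ i : Fin 192, inF i = true → ∀ l : Fin 192, (l = 61 ∨ l = 73) →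
    inL (cBk k l) = true ∧ inL (cConj i l) = true ∧ inL l = true ∧
      (cPa k (cBk k l) = cBk k (cPa k (cConj i l)) → cCm i l = true) := by
  decide +kernel

namespace Tr

variable {G : Type u} [Group G] {S : Setup G} {k : Fin 4} (T : Tr S k)

/-- The relations with given constants. -/
structure Rels (π : Par) : Prop where
  hc : inF π.c = true
  hu : inF π.u = true
  hr : inF π.r = true
  hr' : inF π.r' = true
  pn : T.p * T.n = T.n * T.p * S.f π.c
  qp : T.P 3 * T.p = T.p * T.P 3 * S.f π.u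
  line : T.P 2 = T.n * T.p * (gsel π.e S.t * S.f π.r)
  line' : T.P 5 = T.p * T.P 3 * (gsel π.e' S.t * S.f π.r')

theorem shift_mul {A B : G} {a b : Fin 192} (hA : S.t * A = A * S.t * S.f a) (hB : S.t * B = B * S.t * S.f b)
    (haB : B * S.f a = S.f a * B) : S.t * (A * B) = A * B * S.t * S.f (cMul b a) := by
  rw [← mul_assoc, hA, mul_assoc (A * S.t), ← haB, ← mul_assoc, mul_assoc A S.t B, hB, S.fmul]
  group

theorem exists_te {g : G} (hgt : g * S.t = S.t * g) (hgF : ∀ a, inF a = true → g * S.f a = S.f a * g) :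
    ∃ e : Bool, ∃ i, inF i = true ∧ g = gsel e S.t * S.f i := by
  obtain ⟨i, hi⟩ := (S.mem_iff_tz g).1 ⟨hgt, hgF 14 (by decide +kernel)⟩
  have hF : ∀ a, inF a = true → cCm i a = true := fun a ha => by
    refine S.cCm_of_comm ?_
    have h := hgF a ha
    rcases hi with e | e <;> rw [e] at h
    · exact h
    · rw [← mul_assoc (S.f a), S.comm_f a, mul_assoc, mul_assoc S.t (S.f a)] at h
      exact mul_left_cancel h
  have hiF := comm_four i (hF 44 (by decide +kernel)) (hF 3 (by decide +kernel))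
  rcases hi with e | e
  · exact ⟨false, i, hiF, e.trans (one_mul _).symm⟩
  · exact ⟨true, i, hiF, e⟩

theorem exists_diff {X Y : G} {a : Fin 192} (ha : inF a = true) (hX : S.t * X = X * S.t * S.f a)
    (hY : S.t * Y = Y * S.t * S.f a) (hXF : ∀ b, inF b = true → X * S.f b = S.f b * X)
    (hYF : ∀ b, inF b = true → Y * S.f b = S.f b * Y) :
    ∃ e : Bool, ∃ i, inF i = true ∧ Y = X * (gsel e S.t * S.f i) := by
  have hF : ∀ b, inF b = true → X⁻¹ * Y * S.f b = S.f b * (X⁻¹ * Y) := fun b hb => by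
    have h1 : X⁻¹ * S.f b = S.f b * X⁻¹ := by
      rw [eq_mul_inv_iff_mul_eq, mul_assoc, inv_mul_eq_iff_eq_mul, hXF b hb]
    rw [mul_assoc, hYF b hb, ← mul_assoc, h1, mul_assoc]
  have hgt : X⁻¹ * Y * S.t = S.t * (X⁻¹ * Y) := by
    have e1 : X * (S.t * S.f a * (X⁻¹ * Y)) = X * (X⁻¹ * Y * (S.t * S.f a)) :=
      calc X * (S.t * S.f a * (X⁻¹ * Y)) = X * S.t * S.f a * (X⁻¹ * Y) := by group
        _ = S.t * Y := by rw [← hX]; group
        _ = _ := by rw [hY]; group
    have e2 := mul_left_cancel e1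
    rw [mul_assoc S.t, ← hF a ha] at e2
    exact (mul_right_cancel (b := S.f a) (by rw [mul_assoc S.t, mul_assoc (X⁻¹ * Y) S.t]; exact e2)).symm
  obtain ⟨e, i, hi, h⟩ := exists_te (S := S) (g := X⁻¹ * Y) hgt hF
  exact ⟨e, i, hi, by rw [← h, mul_inv_cancel_left]⟩

theorem fF_mul {A B : G} (hA : ∀ b, inF b = true → A * S.f b = S.f b * A)
    (hB : ∀ b, inF b = true → B * S.f b = S.f b * B) : ∀ b, inF b = true → A * B * S.f b = S.f b * (A * B) :=
  fun b hb => by rw [mul_assoc, hB b hb, ← mul_assoc, hA b hb, mul_assoc]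

theorem t_np : S.t * (T.n * T.p) = T.n * T.p * S.t * S.f 106 := by
  rw [shift_mul T.t_n T.t_p (T.fF_p (by decide +kernel)), show cMul 44 14 = 106 by decide +kernel]

theorem t_pn : S.t * (T.p * T.n) = T.p * T.n * S.t * S.f 106 := by
  rw [shift_mul T.t_p T.t_n (T.fF_n (by decide +kernel)), show cMul 14 44 = 106 by decide +kernel]

theorem t_pq : S.t * (T.p * T.P 3) = T.p * T.P 3 * S.t * S.f 103 := by
  rw [shift_mul T.t_p (T.t_P 3) (T.fF_P (by decide +kernel) 3), show cMul (cPt 3) 44 = 103 by decide +kernel]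

theorem t_qp : S.t * (T.P 3 * T.p) = T.P 3 * T.p * S.t * S.f 103 := by
  rw [shift_mul (T.t_P 3) T.t_p (T.fF_p (by decide +kernel)), show cMul 44 (cPt 3) = 103 by decide +kernel]

theorem exists_line : ∃ e r, inF r = true ∧ T.P 2 = T.n * T.p * (gsel e S.t * S.f r) :=
  exists_diff (a := 106) (by decide +kernel) T.t_np (T.t_P 2) (fF_mul (fun _ h => T.fF_n h) fun _ h => T.fF_p h)
    fun _ h => T.fF_P h 2

theorem exists_line' : ∃ e r, inF r = true ∧ T.P 5 = T.p * T.P 3 * (gsel e S.t * S.f r) :=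
  exists_diff (a := 103) (by decide +kernel) T.t_pq (T.t_P 5) (fF_mul (fun _ h => T.fF_p h) fun _ h => T.fF_P h 3)
    fun _ h => T.fF_P h 5

theorem te_sq {e : Bool} {i : Fin 192} (hi : inF i = true) :
    gsel e S.t * S.f i * (gsel e S.t * S.f i) = (1 : G) := by
  obtain ⟨a, rfl⟩ := f_coord i hi
  have h0 : S.f (cF a) * S.f (cF a) = 1 := by
    rw [← S.fmul, (show ∀ a : Fin 8, cMul (cF a) (cF a) = 0 by decide +kernel) a, S.fone]
  cases e
  · show 1 * S.f (cF a) * (1 * S.f (cF a)) = 1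
    rw [one_mul, h0]
  · show S.t * S.f (cF a) * (S.t * S.f (cF a)) = 1
    rw [mul_assoc, ← mul_assoc (S.f _) S.t, S.comm_f, mul_assoc S.t, ← mul_assoc, S.t_sq, one_mul, h0]

theorem exists_comm : ∃ a : Fin 4, T.p * T.n = T.n * T.p * S.f (cF ⟨a.val, by omega⟩) := by
  obtain ⟨e, i, hi, h⟩ := exists_diff (a := 106) (by decide +kernel) T.t_np T.t_pn
    (fF_mul (fun _ h => T.fF_n h) fun _ h => T.fF_p h) (fF_mul (fun _ h => T.fF_p h) fun _ h => T.fF_n h)
  set X := gsel e S.t * S.f i with hX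
  have h1 : T.n * T.p = T.p * X * T.n :=
    calc T.n * T.p = T.n * (T.p * T.n) * T.n := by rw [mul_assoc, mul_assoc T.p, T.n_sq, mul_one]
      _ = T.n * (T.n * T.p * X) * T.n := by rw [h]
      _ = T.n * T.n * (T.p * X * T.n) := by group
      _ = _ := by rw [T.n_sq, one_mul]
  have h2 : T.n = X * T.n * X := mul_left_cancel (a := T.p) (by rw [h, h1]; group)
  have he : e = false := by
    by_contra hne
    rw [Bool.not_eq_false] at hne
    subst hne
    have e1 : X * T.n * X = T.n * S.f 14 := by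
      rw [hX]
      show S.t * S.f i * T.n * (S.t * S.f i) = _
      have hii : S.f i * S.f i = 1 := by
        obtain ⟨a, rfl⟩ := f_coord i hi
        rw [← S.fmul, (show ∀ a : Fin 8, cMul (cF a) (cF a) = 0 by decide +kernel) a, S.fone]
      calc S.t * S.f i * T.n * (S.t * S.f i) = S.t * (S.f i * T.n) * (S.t * S.f i) := by group
        _ = S.t * T.n * (S.f i * S.t) * S.f i := by rw [← T.fF_n hi]; group
        _ = T.n * S.t * (S.f 14 * S.t) * (S.f i * S.f i) := by rw [T.t_n, S.comm_f i]; group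
        _ = T.n * (S.t * S.t) * S.f 14 := by rw [hii, S.comm_f 14]; group
        _ = _ := by rw [S.t_sq, mul_one]
    rw [e1] at h2
    exact S.z_ne_one (mul_left_cancel (a := T.n) (by rw [mul_one]; exact h2.symm))
  subst he
  rw [show X = S.f i from hX.trans (one_mul _)] at h
  have hc : ∀ l : Fin 192, (l = 61 ∨ l = 73) → cCm i l = true := by
    intro l hl
    obtain ⟨h1, h2, h3, h4⟩ := comm_c k i hi l hl
    refine h4 (S.f_injective (mul_right_cancel (b := T.p * T.n) ?_))
    calc S.f (cPa k (cBk k l)) * (T.p * T.n) = T.p * T.n * S.f l := by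
          rw [← mul_assoc, ← T.p_f _ h1, mul_assoc T.p, ← T.n_f, mul_assoc]
      _ = T.n * T.p * S.f (cConj i l) * S.f i := by
          rw [h, S.fconj, mul_assoc (T.n * T.p), mul_assoc (T.n * T.p), inv_mul_cancel_right]
      _ = S.f (cBk k (cPa k (cConj i l))) * T.n * T.p * S.f i := by
          rw [mul_assoc T.n, T.p_f _ h2, ← mul_assoc, T.n_f]
      _ = _ := by rw [h]; group
  obtain ⟨a, rfl⟩ := comm_six i hi (hc 61 (Or.inl rfl)) (hc 73 (Or.inr rfl))
  exact ⟨a, h⟩

theorem q_sq : T.P 3 * T.P 3 = S.f (cConj 10 (cSq k)) := by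
  rw [T.P_ne (by decide), S.fconj, ← T.p_sq]
  show S.f 10 * T.p * (S.f 10)⁻¹ * (S.f 10 * T.p * (S.f 10)⁻¹) = _
  group

theorem exists_comm' : ∃ i, inF i = true ∧ T.P 3 * T.p = T.p * T.P 3 * S.f i := by
  obtain ⟨e, i, hi, h⟩ := exists_diff (a := 103) (by decide +kernel) T.t_pq T.t_qp
    (fF_mul (fun _ h => T.fF_p h) fun _ h => T.fF_P h 3) (fF_mul (fun _ h => T.fF_P h 3) fun _ h => T.fF_p h)
  refine ⟨i, hi, ?_⟩
  cases e
  · rw [h]; show _ * (1 * S.f i) = _; rw [one_mul]
  · exfalso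
    change T.P 3 * T.p = T.p * T.P 3 * (S.t * S.f i) at h
    set X := S.t * S.f i with hX
    have hX2 : X * X = 1 := te_sq (S := S) (e := true) hi
    obtain ⟨-, -, -, -, hsF⟩ := bk_facts k
    have hXp : X * T.p = T.p * X * S.f 44 := by
      rw [hX]
      calc S.t * S.f i * T.p = S.t * (S.f i * T.p) := by group
        _ = S.t * T.p * S.f i := by rw [← T.fF_p hi]; group
        _ = T.p * S.t * (S.f 44 * S.f i) := by rw [T.t_p]; group
        _ = _ := by rw [S.f_mul_comm (a := 44) (by decide +kernel) hi]; group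
    have e1 : T.p * T.P 3 * T.p = S.f (cSq k) * T.P 3 * X := by
      rw [mul_assoc, h, ← T.p_sq]; group
    have e2 : T.p * T.P 3 = T.P 3 * T.p * X := by rw [h, mul_assoc _ X X, hX2, mul_one]
    rw [e2, mul_assoc (T.P 3 * T.p), hXp, ← mul_assoc, ← mul_assoc, mul_assoc (T.P 3), T.p_sq,
      T.fF_P hsF] at e1
    have h44 : S.f 44 = (1 : G) := mul_eq_left.1 e1
    exact absurd (S.f_eq_one_iff.1 h44) (by decide)

/-- Changing the two elements by the central involution. -/
noncomputable def gauge (a b : Bool) : Tr S k where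
  n := T.n * S.f (sel a 14)
  p := T.p * S.f (sel b 14)
  n_sq := by
    cases a
    · show T.n * S.f 0 * (T.n * S.f 0) = 1
      rw [S.fone, mul_one, T.n_sq]
    · show T.n * S.f 14 * (T.n * S.f 14) = 1
      rw [mul_assoc, ← mul_assoc (S.f 14) T.n, ← T.fF_n (by decide +kernel), mul_assoc T.n, ← mul_assoc,
        T.n_sq, one_mul, ← S.fmul, show cMul 14 14 = 0 by decide +kernel, S.fone]
  t_n := by
    rw [← mul_assoc, T.t_n, mul_assoc _ (S.f 14), S.f_mul_comm (by decide +kernel) (inF_sel (by decide +kernel)),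
      mul_assoc T.n, mul_assoc T.n, ← mul_assoc S.t, ← S.comm_f]
    group
  n_f i := by
    have hc : S.f (sel a 14) * S.f i = S.f i * S.f (sel a 14) := by
      cases a
      · show S.f 0 * S.f i = S.f i * S.f 0
        rw [S.fone, one_mul, mul_one]
      · exact S.f_comm_of (cT_central i).1.symm
    rw [mul_assoc, hc, ← mul_assoc, T.n_f, mul_assoc]
  p_sq := by
    have hz : inF (sel b 14) = true := inF_sel (by decide +kernel)
    rw [mul_assoc, ← mul_assoc (S.f (sel b 14)) T.p, ← T.fF_p hz, mul_assoc T.p, ← mul_assoc, T.p_sq, ← S.fmul,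
      (show ∀ b : Bool, cMul (sel b 14) (sel b 14) = 0 by decide +kernel) b, S.fone, mul_one]
  t_p := by
    rw [← mul_assoc, T.t_p, mul_assoc _ (S.f 44), S.f_mul_comm (by decide +kernel) (inF_sel (by decide +kernel)),
      mul_assoc T.p, mul_assoc T.p, ← mul_assoc S.t, ← S.comm_f]
    group
  p_f l hl := by
    have hc : S.f (sel b 14) * S.f l = S.f l * S.f (sel b 14) := by
      cases b
      · show S.f 0 * S.f l = S.f l * S.f 0
        rw [S.fone, one_mul, mul_one]
      · exact S.f_comm_of (cT_central l).1.symm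
    rw [mul_assoc, hc, ← mul_assoc, T.p_f l hl, mul_assoc]
  fused := by
    obtain ⟨w, hw⟩ := T.fused
    obtain ⟨w', hw'⟩ := (show ∀ a b : Bool, ∀ w : Fin 4, ∃ w' : Fin 4,
        cMul (cMul (sel b 14) (cF ⟨w.val, by omega⟩)) (sel a 44) = cF ⟨w'.val, by omega⟩ by decide +kernel) a b w
    refine ⟨w', ?_⟩
    have hz : S.φ sigM * S.f (sel a 14) * (S.φ sigM)⁻¹ = S.f (sel a 44) := by
      cases a
      · show S.φ sigM * S.f 0 * (S.φ sigM)⁻¹ = S.f 0
        rw [S.fone, mul_one, mul_inv_cancel]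
      · show S.φ sigM * S.f cT * (S.φ sigM)⁻¹ = S.f 44
        rw [S.f_eq, S.f_eq, ← map_mul, ← map_inv, ← map_mul, sigM_conj sig_facts.1]
        exact congrArg (fun i => S.φ (elM i)) sig_facts.2.1
    have hc : S.f (sel b 14) * (bif cTe k then S.t else 1) * (S.f (cCorr k))⁻¹ =
        (bif cTe k then S.t else 1) * (S.f (cCorr k))⁻¹ * S.f (sel b 14) := by
      have h1 : S.f (sel b 14) * (bif cTe k then S.t else 1) = (bif cTe k then S.t else 1) * S.f (sel b 14) := by
        cases cTe k <;> simp [S.comm_f]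
      have h2 : S.f (sel b 14) * (S.f (cCorr k))⁻¹ = (S.f (cCorr k))⁻¹ * S.f (sel b 14) := by
        rw [← S.finv]
        cases b
        · show S.f 0 * _ = _ * S.f 0
          rw [S.fone, one_mul, mul_one]
        · exact S.f_comm_of (cT_central _).1.symm
      rw [h1, mul_assoc, h2, ← mul_assoc]
    have hbb : S.f (sel b 14) * S.f (sel b 14) = 1 := by
      rw [← S.fmul, (show ∀ b : Bool, cMul (sel b 14) (sel b 14) = 0 by decide +kernel) b, S.fone]
    rw [show S.φ sigM * (T.n * S.f (sel a 14)) * (S.φ sigM)⁻¹ =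
      S.φ sigM * T.n * (S.φ sigM)⁻¹ * (S.φ sigM * S.f (sel a 14) * (S.φ sigM)⁻¹) by group, hw, hz, ← hw',
      S.fmul, S.fmul, mul_assoc T.p (S.f (sel b 14)), mul_assoc T.p _ (S.f (cCorr k))⁻¹,
      mul_assoc T.p _ (S.f (cCorr k))⁻¹, hc]
    simp only [← mul_assoc]
    rw [mul_assoc _ (S.f (sel b 14)) (S.f (sel b 14)), hbb, mul_one]

end Tr

end Cfsg.Lib.CoThreeM12
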