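import Cfsg.Agent.Lib.CoThreeM12.ZeroCore

/-!
# The model `k = 0`: coordinates on `X`

`X` has order `1024`, squares in `C₀`, and exactly `32` of its elements `x` have `t * x` conjugate to `t`.
-/

set_option autoImplicit false
set_option linter.style.haveILetI false
set_option linter.style.longLine false
set_option linter.unusedSectionVars false
set_option maxRecDepth 100000

namespace Cfsg.Lib.CoThreeM12

open Cfsg Cfsg.Lib.MTwelveRecog Setup

universe u

theorem card_inL : Nat.card {i : Fin 192 // inL i = true} = 32 := by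
  rw [Nat.card_eq_fintype_card, Fintype.card_subtype]
  decide +kernel

namespace Tr

variable {G : Type u} [Group G] {S : Setup G} (T : Tr S 0) (R : T.Rels parZero)

/-- The representatives of `X` over `C₀ L`. -/
noncomputable def rep (v : Fin 8) : G :=
  gsel (v.val.testBit 0) (T.P 3) * gsel (v.val.testBit 1) T.g * gsel (v.val.testBit 2) T.h

theorem ev_ea (a : Fin 4) (i : Fin 192) : T.ev (ea a i) = T.ev (ea a 0) * S.f i := by
  simp only [ev, ea, S.fone, mul_one]

theorem inC_ea (a : Fin 4) : T.InC (T.ev (ea a 0)) := ⟨a, 0, by rw [(ea_inv a).2]⟩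

include R

theorem sh_gsel {x : G} {l : Fin 192} (hx : T.Nice x) (h : T.Sh x l) (b : Bool) :
    T.Nice (gsel b x) ∧ T.Sh (gsel b x) (sel b l) := by
  cases b
  · exact ⟨T.nice_inC R T.inC_one, T.sh_inC R T.inC_one⟩
  · exact ⟨hx, h⟩

theorem rep_spec (v : Fin 8) : T.Nice (T.rep v) ∧ T.Sh (T.rep v) (rShift v) := by
  obtain ⟨n1, s1⟩ := T.sh_gsel R (T.nice_p3 R) (T.sh_p3 R) (v.val.testBit 0)
  obtain ⟨n2, s2⟩ := T.sh_gsel R (T.nice_g R).1 (T.nice_g R).2 (v.val.testBit 1)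
  obtain ⟨n3, s3⟩ := T.sh_gsel R (T.nice_h R).1 (T.nice_h R).2 (v.val.testBit 2)
  exact ⟨Nice.mul T R (Nice.mul T R n1 n2) n3, Sh.mul T R n3 (Nice.mul T R n1 n2) (Sh.mul T R n2 n1 s1 s2) s3⟩

theorem ea_spec (a : Fin 4) {i : Fin 192} (hi : inL i = true) : T.Nice (T.ev (ea a i)) ∧ T.Sh (T.ev (ea a i)) 0 := by
  rw [T.ev_ea]
  refine ⟨Nice.mul T R (T.nice_inC R (T.inC_ea a)) (T.nice_f R hi), ?_⟩
  have h := Sh.mul T R (T.nice_f R hi) (T.nice_inC R (T.inC_ea a)) (T.sh_inC R (T.inC_ea a)) (T.sh_f R hi)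
  rwa [show cMul 0 0 = (0 : Fin 192) from S.f_injective (by rw [S.fmul, S.fone, one_mul])] at h

/-- The coordinates. -/
theorem exists_coord {x : G} (hx : T.Nice x) :
    ∃ v a i, inL i = true ∧ x = T.rep v * T.ev (ea a i) := by
  obtain ⟨l, hl⟩ := hx.sh
  obtain ⟨v, hv⟩ := rShift_facts.2.2.2 l hl.1
  obtain ⟨hn, hs⟩ := T.rep_spec R v
  obtain ⟨a, i, hi, e⟩ :=
    T.kernel R (Nice.mul T R (Nice.inv T R hn) hx) (Sh.mul T R hx (Nice.inv T R hn) (Sh.inv T R hn hs) hl) hv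
  exact ⟨v, a, i, hi, by rw [← e, mul_inv_cancel_left]⟩

theorem coord_inj {v w : Fin 8} {a b : Fin 4} {i j : Fin 192} (hi : inL i = true) (hj : inL j = true)
    (h : T.rep v * T.ev (ea a i) = T.rep w * T.ev (ea b j)) : v = w ∧ a = b ∧ i = j := by
  obtain ⟨n1, s1⟩ := T.ea_spec R a hi
  obtain ⟨n2, s2⟩ := T.ea_spec R b hj
  obtain ⟨m1, r1⟩ := T.rep_spec R v
  obtain ⟨m2, r2⟩ := T.rep_spec R w
  have h1 := Sh.mul T R n1 m1 r1 s1
  have h2 := Sh.mul T R n2 m2 r2 s2
  have e0 : ∀ q, cMul q 0 = q := fun q => S.f_injective (by rw [S.fmul, S.fone, mul_one])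
  rw [e0] at h1 h2
  rw [← h] at h2
  obtain rfl := rShift_facts.2.2.1 v w (T.sh_unique R h1 h2)
  have e := T.ev_inj (mul_left_cancel h)
  simp only [ea, Prod.mk.injEq, Fin.mk.injEq] at e
  exact ⟨rfl, Fin.ext e.1, e.2.2⟩

theorem card_X : Nat.card (T.X R) = 1024 := by
  let F : Fin 8 × Fin 4 × {i : Fin 192 // inL i = true} → T.X R := fun q =>
    ⟨T.rep q.1 * T.ev (ea q.2.1 q.2.2.1), Nice.mul T R (T.rep_spec R q.1).1 (T.ea_spec R q.2.1 q.2.2.2).1⟩
  have hF : Function.Bijective F := by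
    refine ⟨fun q q' h => ?_, fun x => ?_⟩
    · obtain ⟨e1, e2, e3⟩ := T.coord_inj R q.2.2.2 q'.2.2.2 (congrArg Subtype.val h)
      exact Prod.ext e1 (Prod.ext e2 (Subtype.ext e3))
    · obtain ⟨v, a, i, hi, e⟩ := T.exists_coord R x.2
      exact ⟨(v, a, ⟨i, hi⟩), Subtype.ext e.symm⟩
  rw [← Nat.card_eq_of_bijective F hF, Nat.card_prod, Nat.card_prod, card_inL, Nat.card_eq_fintype_card,
    Nat.card_eq_fintype_card, Fintype.card_fin, Fintype.card_fin]

theorem sq_mul {x y : G} (hx : T.Nice x) (hy : T.Nice y) (h : T.InC (x * x)) (h' : T.InC (y * y)) :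
    T.InC (x * y * (x * y)) := by
  have hc := T.comm_inC R hy hx
  have e : x * y * (x * y) = x * (y * x * y⁻¹ * x⁻¹) * x * (y * y) := by group
  rw [e, hx.cent _ hc, mul_assoc (y * x * y⁻¹ * x⁻¹)]
  exact T.inC_mul R (T.inC_mul R hc h) h'

theorem g_sq : T.g * T.g = 1 := by
  rw [g, show ∀ m y : G, m * y * m⁻¹ * (m * y * m⁻¹) = m * (y * y) * m⁻¹ from fun m y => by group, T.p3_sq R]
  group

theorem h_sq : T.h * T.h = 1 := by
  rw [h, show ∀ m y : G, m * y * m⁻¹ * (m * y * m⁻¹) = m * (y * y) * m⁻¹ from fun m y => by group, T.g_sq R]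
  group

/-- Squares lie in `C₀`. -/
theorem sq_inC {x : G} (hx : T.Nice x) : T.InC (x * x) := by
  obtain ⟨v, a, i, hi, rfl⟩ := T.exists_coord R hx
  have hg : ∀ {y : G}, y * y = 1 → ∀ b : Bool, T.InC (gsel b y * gsel b y) := fun {y} e b => by
    cases b
    · show T.InC (1 * 1)
      rw [one_mul]; exact T.inC_one
    · show T.InC (y * y)
      rw [e]; exact T.inC_one
  have n1 := (T.sh_gsel R (T.nice_p3 R) (T.sh_p3 R) (v.val.testBit 0)).1
  have n2 := (T.sh_gsel R (T.nice_g R).1 (T.nice_g R).2 (v.val.testBit 1)).1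
  have n3 := (T.sh_gsel R (T.nice_h R).1 (T.nice_h R).2 (v.val.testBit 2)).1
  have hr : T.InC (T.rep v * T.rep v) :=
    T.sq_mul R (Nice.mul T R n1 n2) n3
      (T.sq_mul R n1 n2 (hg (T.p3_sq R) _) (hg (T.g_sq R) _)) (hg (T.h_sq R) _)
  refine T.sq_mul R (T.rep_spec R v).1 (T.ea_spec R a hi).1 hr ?_
  rw [T.ev_ea]
  refine T.sq_mul R (T.nice_inC R (T.inC_ea a)) (T.nice_f R hi) ?_ ?_
  · rw [T.inC_sq R (T.inC_ea a)]; exact T.inC_one
  · rw [← S.fmul]; exact T.inC_f (L_closed i hi).2.1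

theorem invol_form {x : G} (hx : T.Nice x) (h : IsConj S.t (S.t * x)) :
    ∃ q ∈ invT, x = T.ev (ea q.1 q.2) := by
  obtain ⟨m, hm⟩ := isConj_iff.1 h
  have h1 : S.t * x * (S.t * x) = 1 := by
    rw [← hm, show m * S.t * m⁻¹ * (m * S.t * m⁻¹) = m * (S.t * S.t) * m⁻¹ by group, S.t_sq, mul_one, mul_inv_cancel]
  have hsh : T.Sh x 0 := by
    refine ⟨L_gens.1, (x * x)⁻¹, T.inC_inv R (T.sq_inC R hx), ?_⟩
    rw [S.fone, mul_one, eq_comm]
    calc x * (x * x)⁻¹ = S.t * x * (S.t * x) * x⁻¹ := by rw [h1]; group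
      _ = _ := by group
  obtain ⟨a, i, hi, e⟩ := T.kernel R hx hsh (show inZ 0 = true from rfl)
  subst e
  refine ⟨(a, i), ?_, rfl⟩
  refine List.mem_filter.2 ⟨List.mem_product.2 ⟨List.mem_finRange _, List.mem_finRange _⟩, ?_⟩
  rw [Bool.and_eq_true, beq_iff_eq]
  refine ⟨hi, T.ev_inj ?_⟩
  rw [T.ev_zero R, T.ev_zero R, T.ev_tt, T.ev_one, h1]

/-- **The coset `t X` meets the class of `t` in `32` elements.** -/
theorem card_t_class : Nat.card {x : G // T.Nice x ∧ IsConj S.t (S.t * x)} = 32 := by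
  haveI hfin : Finite {x : G // T.Nice x ∧ IsConj S.t (S.t * x)} :=
    Finite.of_injective (β := Fin 4 × Fin 192) (fun x => (T.invol_form R x.2.1 x.2.2).choose) fun x y h => by
      apply Subtype.ext
      rw [(T.invol_form R x.2.1 x.2.2).choose_spec.2, (T.invol_form R y.2.1 y.2.2).choose_spec.2]
      rw [show (T.invol_form R x.2.1 x.2.2).choose = (T.invol_form R y.2.1 y.2.2).choose from h]
  apply le_antisymm
  · have hget : ∀ x : {x : G // T.Nice x ∧ IsConj S.t (S.t * x)},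
        ∃ k : Fin invT.length, x.1 = T.ev (ea (invT.get k).1 (invT.get k).2) := fun x => by
      obtain ⟨q, hq, e⟩ := T.invol_form R x.2.1 x.2.2
      obtain ⟨k, hk⟩ := List.mem_iff_get.1 hq
      exact ⟨k, by rw [hk]; exact e⟩
    choose F hF using hget
    have := Nat.card_le_card_of_injective F fun x y h => Subtype.ext (by rw [hF x, hF y, h])
    rwa [Nat.card_fin, invT_length] at this
  · have hu : ∀ q : Fin 8 × Fin 4, T.Nice (T.ev (ea q.2 0) * T.rep q.1) := fun q =>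
      Nice.mul T R (T.nice_inC R (T.inC_ea q.2)) (T.rep_spec R q.1).1
    have hxu : ∀ q : Fin 8 × Fin 4,
        T.Nice (S.t * (T.ev (ea q.2 0) * T.rep q.1)⁻¹ * S.t * (T.ev (ea q.2 0) * T.rep q.1)) := fun q => by
      have hi := Nice.inv T R (hu q)
      obtain ⟨l, hl⟩ := hi.sh
      have := (Normal.conj T R (T.normal_t R) hi hl).1
      rw [S.t_inv] at this
      exact Nice.mul T R this (hu q)
    let F : Fin 8 × Fin 4 → {x : G // T.Nice x ∧ IsConj S.t (S.t * x)} := fun q =>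
      ⟨_, hxu q, isConj_iff.2 ⟨(T.ev (ea q.2 0) * T.rep q.1)⁻¹,
        (show ∀ t u : G, t * t = 1 → u⁻¹ * t * u⁻¹⁻¹ = t * (t * u⁻¹ * t * u) from fun t u ht => by
          rw [show t * (t * u⁻¹ * t * u) = t * t * (u⁻¹ * t * u) by group, ht]; group) _ _ S.t_sq⟩⟩
    have hF : Function.Injective F := by
      rintro ⟨v, a⟩ ⟨w, b⟩ h
      have h' : S.t * (T.ev (ea a 0) * T.rep v)⁻¹ * S.t * (T.ev (ea a 0) * T.rep v) =
        S.t * (T.ev (ea b 0) * T.rep w)⁻¹ * S.t * (T.ev (ea b 0) * T.rep w) := congrArg Subtype.val h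
      have hkey : ∀ (v : Fin 8) (a : Fin 4), ∃ c, T.InC c ∧
          S.t * (T.ev (ea a 0) * T.rep v)⁻¹ * S.t * (T.ev (ea a 0) * T.rep v) =
            c * S.f (cInv (rShift v)) := fun v a => by
        obtain ⟨u, hud⟩ : ∃ u, u = T.ev (ea a 0) * T.rep v := ⟨_, rfl⟩
        rw [← hud]
        have hun : T.Nice u := hud ▸ hu (v, a)
        have hus : T.Sh u (rShift v) := by
          have := Sh.mul T R (T.rep_spec R v).1 (T.nice_inC R (T.inC_ea a)) (T.sh_inC R (T.inC_ea a)) (T.rep_spec R v).2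
          rw [show cMul 0 (rShift v) = rShift v from S.f_injective (by rw [S.fmul, S.fone, one_mul])] at this
          rw [hud]; exact this
        obtain ⟨hl, c, hc, e⟩ := Sh.inv T R hun hus
        obtain ⟨d, hd, ed⟩ : ∃ d, T.InC d ∧ u⁻¹ * S.f (cInv (rShift v)) * u = d * S.f (cInv (rShift v)) := by
          refine ⟨_, (Nice.inv T R hun).fl _ hl, ?_⟩
          group
        refine ⟨c * d, T.inC_mul R hc hd, ?_⟩
        rw [e, (Nice.inv T R hun).cent c hc, mul_assoc c d, ← ed]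
        group
      obtain ⟨c, hc, ec'⟩ := hkey v a
      obtain ⟨d, hd, ed⟩ := hkey w b
      have hz : inZ (cMul (cInv (rShift v)) (rShift w)) = true := by
        refine T.inZ_of_inC ?_
        have e3 := ec'.symm.trans (h'.trans ed)
        have e4 : S.f (cMul (cInv (rShift v)) (rShift w)) = c⁻¹ * d := by
          rw [S.fmul]
          calc S.f (cInv (rShift v)) * S.f (rShift w)
              = c⁻¹ * (c * S.f (cInv (rShift v))) * S.f (rShift w) := by group
            _ = _ := by rw [e3, S.finv]; group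
        rw [e4]
        exact T.inC_mul R (T.inC_inv R hc) hd
      obtain rfl := rShift_facts.2.2.1 v w hz
      refine Prod.ext rfl (ea_t a b (T.ev_inj ?_))
      have hsq : ∀ a, (T.ev (ea a 0))⁻¹ = T.ev (ea a 0) := fun a =>
        inv_eq_of_mul_eq_one_right (T.inC_sq R (T.inC_ea a))
      rw [T.ev_zero R, T.ev_zero R, T.ev_zero R, T.ev_zero R, T.ev_tt]
      rw [mul_inv_rev, mul_inv_rev, hsq, hsq] at h'
      have h2 : (T.rep v)⁻¹ * (T.ev (ea a 0) * S.t * T.ev (ea a 0)) * T.rep v =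
          (T.rep v)⁻¹ * (T.ev (ea b 0) * S.t * T.ev (ea b 0)) * T.rep v := by
        have := mul_left_cancel (a := S.t) (b := (T.rep v)⁻¹ * (T.ev (ea a 0) * S.t * T.ev (ea a 0)) * T.rep v)
          (c := (T.rep v)⁻¹ * (T.ev (ea b 0) * S.t * T.ev (ea b 0)) * T.rep v)
        refine this ?_
        simpa only [mul_assoc] using h'
      exact mul_left_cancel (mul_right_cancel h2)
    have := Nat.card_le_card_of_injective F hF
    rwa [Nat.card_prod, Nat.card_fin, Nat.card_fin] at this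

end Tr

end Cfsg.Lib.CoThreeM12
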