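import Cfsg.Agent.Lib.CoThreeM12.ZeroData

/-!
# The model `k = 0`: a group of class two containing `C₀ L`

`X` is the group of elements centralising `C₀`, with commutators with `L` in `C₀`, moved by `t` within
`C₀ L`.  Its commutators lie in `C₀` and the elements with central shift form `C₀ L`.
-/

set_option autoImplicit false
set_option linter.style.haveILetI false
set_option linter.style.longLine false
set_option linter.unusedSectionVars false
set_option maxRecDepth 100000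

namespace Cfsg.Lib.CoThreeM12

open Cfsg Cfsg.Lib.MTwelveRecog Setup

universe u

namespace Tr

variable {G : Type u} [Group G] {S : Setup G} (T : Tr S 0) (R : T.Rels parZero)

include R in
theorem ev_zero (a b : El) : T.ev (mZero a b) = T.ev a * T.ev b := T.ev_mMul R a b

theorem ev_tt : T.ev (0, true, 0) = S.t := by
  rw [T.ev_te]; simp [gsel, S.fone]

/-- Membership in `C₀`. -/
def InC (g : G) : Prop := ∃ a b, g = T.ev (ec a b)

theorem inC_one : T.InC 1 := by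
  obtain ⟨b, hb⟩ := z_cF 0 rfl
  exact ⟨0, b, by rw [hb, T.ev_one]⟩

theorem inC_f {i : Fin 192} (h : inZ i = true) : T.InC (S.f i) := by
  obtain ⟨b, hb⟩ := z_cF i h
  exact ⟨0, b, by rw [hb, T.ev_zeta]⟩

theorem inZ_of_inC {i : Fin 192} (h : T.InC (S.f i)) : inZ i = true := by
  obtain ⟨a, b, h⟩ := h
  rw [← T.ev_zeta] at h
  exact inZ_of_ec a b i (T.ev_inj h).symm

include R

theorem inC_mul {x y : G} (hx : T.InC x) (hy : T.InC y) : T.InC (x * y) := by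
  obtain ⟨a, b, rfl⟩ := hx
  obtain ⟨a', b', rfl⟩ := hy
  obtain ⟨⟨c, d, h⟩, -⟩ := ec_closed a b a' b'
  exact ⟨c, d, by rw [← T.ev_zero R, h]⟩

theorem inC_sq {x : G} (hx : T.InC x) : x * x = 1 := by
  obtain ⟨a, b, rfl⟩ := hx
  rw [← T.ev_zero R, (ec_closed a b a b).2.2, T.ev_one]

theorem inC_inv {x : G} (hx : T.InC x) : T.InC x⁻¹ := by
  rwa [inv_eq_of_mul_eq_one_right (T.inC_sq R hx)]

theorem inC_comm {x y : G} (hx : T.InC x) (hy : T.InC y) : x * y = y * x := by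
  obtain ⟨a, b, rfl⟩ := hx
  obtain ⟨a', b', rfl⟩ := hy
  rw [← T.ev_zero R, ← T.ev_zero R, (ec_closed a b a' b').2.1]

theorem inC_comm_L {x : G} (hx : T.InC x) {i : Fin 192} (hi : inL i = true) : x * S.f i = S.f i * x := by
  obtain ⟨a, b, rfl⟩ := hx
  rw [← T.ev_zeta, ← T.ev_zero R, ec_comm_L a b i hi, T.ev_zero R]

theorem inC_n : T.InC T.n := by
  refine ⟨1, 0, ?_⟩
  rw [p3_s.2.2.1, ev, show (1 : Fin 8).val.testBit 0 = true from rfl, show (1 : Fin 8).val.testBit 1 = false from rfl,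
    show (1 : Fin 8).val.testBit 2 = false from rfl]
  simp [gsel, S.fone]

theorem inC_p : T.InC T.p := by
  refine ⟨2, 0, ?_⟩
  rw [p3_s.2.2.2.1, ev, show (2 : Fin 8).val.testBit 0 = false from rfl, show (2 : Fin 8).val.testBit 1 = true from rfl,
    show (2 : Fin 8).val.testBit 2 = false from rfl]
  simp [gsel, S.fone]

/-- `t` moves `x` to `x * f l` up to `C₀`. -/
def Sh (x : G) (l : Fin 192) : Prop := inL l = true ∧ ∃ c, T.InC c ∧ S.t * x * S.t = x * c * S.f l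

/-- The defining property of `X`. -/
structure Nice (x : G) : Prop where
  cent : ∀ c, T.InC c → x * c = c * x
  fl : ∀ i, inL i = true → T.InC (x * S.f i * x⁻¹ * (S.f i)⁻¹)
  sh : ∃ l, T.Sh x l

/-- Commutators with `L`. -/
theorem Nice.swap {x : G} (hx : T.Nice x) {i : Fin 192} (hi : inL i = true) :
    ∃ c, T.InC c ∧ S.f i * x = c * (x * S.f i) := by
  refine ⟨_, T.inC_inv R (hx.fl i hi), ?_⟩
  group

theorem Sh.mul {x y : G} (hy : T.Nice y) (hx : T.Nice x) {l l' : Fin 192} (h : T.Sh x l) (h' : T.Sh y l') :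
    T.Sh (x * y) (cMul l l') := by
  obtain ⟨hl, c, hc, e⟩ := h
  obtain ⟨hl', c', hc', e'⟩ := h'
  obtain ⟨d, hd, ed⟩ := hy.swap T R hl
  refine ⟨((L_closed l hl).2.2.2.2.2.2 l' hl').1, c * d * c', T.inC_mul R (T.inC_mul R hc hd) hc', ?_⟩
  rw [show S.t * (x * y) * S.t = S.t * x * (S.t * S.t) * y * S.t by rw [S.t_sq]; group,
    show S.t * x * (S.t * S.t) * y * S.t = S.t * x * S.t * (S.t * y * S.t) by group, e, e', S.fmul]
  calc x * c * S.f l * (y * c' * S.f l') = x * c * (S.f l * y) * c' * S.f l' := by group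
    _ = x * ((c * d) * y) * (S.f l * c') * S.f l' := by rw [ed]; group
    _ = x * (y * (c * d)) * (c' * S.f l) * S.f l' := by
      rw [hy.cent _ (T.inC_mul R hc hd), T.inC_comm_L R hc' hl]
    _ = _ := by group

theorem Sh.inv {x : G} (hx : T.Nice x) {l : Fin 192} (h : T.Sh x l) : T.Sh x⁻¹ (cInv l) := by
  obtain ⟨hl, c, hc, e⟩ := h
  have hli := (L_closed l hl).1
  obtain ⟨d, hd, ed⟩ := hx.swap T R hl
  refine ⟨hli, c⁻¹ * d, T.inC_mul R (T.inC_inv R hc) hd, ?_⟩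
  have e1 : S.t * x⁻¹ * S.t = (S.t * x * S.t)⁻¹ := by
    rw [mul_inv_rev, mul_inv_rev, S.t_inv, mul_assoc]
  have e2 : x⁻¹ * (S.f l)⁻¹ = (S.f l)⁻¹ * (x⁻¹ * d⁻¹) := by
    have e3 : (S.f l * x)⁻¹ = (d * (x * S.f l))⁻¹ := by rw [ed]
    simpa [mul_inv_rev, mul_assoc] using e3
  have hdd := T.inC_inv R hd
  rw [e1, e, S.finv, mul_inv_rev, mul_inv_rev]
  calc (S.f l)⁻¹ * (c⁻¹ * x⁻¹) = (S.f l)⁻¹ * (x⁻¹ * c⁻¹) := by
        rw [show c⁻¹ * x⁻¹ = (x * c)⁻¹ by group, hx.cent c hc]; group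
    _ = (S.f l)⁻¹ * (x⁻¹ * d⁻¹) * (d * c⁻¹) := by group
    _ = x⁻¹ * ((S.f l)⁻¹ * (d * c⁻¹)) := by rw [← e2]; group
    _ = x⁻¹ * (c⁻¹ * d * (S.f l)⁻¹) := by
      rw [← S.finv, ← T.inC_comm_L R (T.inC_mul R hd (T.inC_inv R hc)) hli, T.inC_comm R hd (T.inC_inv R hc)]
    _ = _ := by group

theorem Nice.mul {x y : G} (hx : T.Nice x) (hy : T.Nice y) : T.Nice (x * y) := by
  refine ⟨fun c hc => by rw [mul_assoc, hy.cent c hc, ← mul_assoc, hx.cent c hc, mul_assoc], fun i hi => ?_, ?_⟩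
  · have e : x * y * S.f i * (x * y)⁻¹ * (S.f i)⁻¹ =
        x * (y * S.f i * y⁻¹ * (S.f i)⁻¹) * x⁻¹ * (x * S.f i * x⁻¹ * (S.f i)⁻¹) := by group
    rw [e, hx.cent _ (hy.fl i hi), mul_inv_cancel_right]
    exact T.inC_mul R (hy.fl i hi) (hx.fl i hi)
  · obtain ⟨l, hl⟩ := hx.sh
    obtain ⟨l', hl'⟩ := hy.sh
    exact ⟨_, Sh.mul T R hy hx hl hl'⟩

theorem Nice.inv {x : G} (hx : T.Nice x) : T.Nice x⁻¹ := by
  refine ⟨fun c hc => ?_, fun i hi => ?_, ?_⟩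
  · rw [inv_mul_eq_iff_eq_mul, ← mul_assoc, hx.cent c hc, mul_inv_cancel_right]
  · have h := T.inC_inv R (hx.fl i hi)
    have e : x⁻¹ * S.f i * x⁻¹⁻¹ * (S.f i)⁻¹ = x⁻¹ * (x * S.f i * x⁻¹ * (S.f i)⁻¹)⁻¹ * x := by group
    rw [e, mul_assoc, ← hx.cent _ h, inv_mul_cancel_left]
    exact h
  · obtain ⟨l, hl⟩ := hx.sh
    exact ⟨_, Sh.inv T R hx hl⟩

theorem nice_inC {c : G} (hc : T.InC c) : T.Nice c := by
  refine ⟨fun d hd => T.inC_comm R hc hd, fun i hi => ?_, ?_⟩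
  · rw [T.inC_comm_L R hc hi, mul_inv_cancel_right, mul_inv_cancel]
    exact T.inC_one
  · obtain ⟨a, b, rfl⟩ := hc
    obtain ⟨i, hi, e⟩ := ec_t a b
    refine ⟨i, Z_inL i hi, 1, T.inC_one, ?_⟩
    rw [mul_one, ← T.ev_tt, ← T.ev_zero R, ← T.ev_zero R, e, T.ev_zero R, T.ev_zeta]

theorem nice_f {i : Fin 192} (hi : inL i = true) : T.Nice (S.f i) := by
  refine ⟨fun c hc => (T.inC_comm_L R hc hi).symm, fun j hj => ?_, 0, L_gens.1, 1, T.inC_one, ?_⟩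
  · rw [mul_assoc (S.f i * S.f j), ← S.finv, ← S.finv, ← S.fmul, ← S.fmul, ← S.fmul]
    exact T.inC_f ((L_closed i hi).2.2.2.2.2.2 j hj).2
  · rw [mul_one, S.fone, mul_one, ← S.comm_f, mul_assoc, S.t_sq, mul_one]

theorem sh_f {i : Fin 192} (hi : inL i = true) : T.Sh (S.f i) 0 := by
  refine ⟨L_gens.1, 1, T.inC_one, ?_⟩
  rw [mul_one, S.fone, mul_one, ← S.comm_f, mul_assoc, S.t_sq, mul_one]

theorem sh_inC {c : G} (hc : T.InC c) : T.Sh c 0 := by
  obtain ⟨l, hl, d, hd, e⟩ := (T.nice_inC R hc).sh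
  obtain ⟨a, b, rfl⟩ := hc
  obtain ⟨i, hi, e'⟩ := ec_t a b
  refine ⟨L_gens.1, S.f i, T.inC_f hi, ?_⟩
  rw [S.fone, mul_one, ← T.ev_tt, ← T.ev_zero R, ← T.ev_zero R, e', T.ev_zero R, T.ev_zeta]

theorem ev_p3 : T.ev (4, false, 0) = T.P 3 := by
  rw [ev, show (4 : Fin 8).val.testBit 0 = false from rfl, show (4 : Fin 8).val.testBit 1 = false from rfl,
    show (4 : Fin 8).val.testBit 2 = true from rfl]
  simp [gsel, S.fone]

theorem p3_sq : T.P 3 * T.P 3 = 1 := by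
  rw [← T.ev_p3 R, ← T.ev_zero R, p3_s.2.1, T.ev_one]

theorem nice_p3 : T.Nice (T.P 3) := by
  have e := T.ev_p3 R
  refine ⟨fun c hc => ?_, fun i hi => ?_, 3, L_gens.2.1, 1, T.inC_one, ?_⟩
  · obtain ⟨a, b, rfl⟩ := hc
    rw [← e, ← T.ev_zero R, ← ec_comm_p3 a b, T.ev_zero R]
  · obtain ⟨a, b, h⟩ := p3_L i hi
    have h' : T.P 3 * S.f i = T.ev (ec a b) * (S.f i * T.P 3) := by
      rw [← e, ← T.ev_zeta, ← T.ev_zero R, h, T.ev_zero R, T.ev_zero R]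
    rw [h', ← mul_assoc, mul_inv_cancel_right, mul_inv_cancel_right]
    exact ⟨a, b, rfl⟩
  · rw [mul_one, ← e, ← T.ev_tt, ← T.ev_zeta, ← T.ev_zero R, ← T.ev_zero R, p3_t, T.ev_zero R]

/-- The subgroup `X`. -/
def X : Subgroup G where
  carrier := {x | T.Nice x}
  one_mem' := T.nice_inC R T.inC_one
  mul_mem' := Nice.mul T R
  inv_mem' := Nice.inv T R

theorem mem_X {x : G} : x ∈ T.X R ↔ T.Nice x := Iff.rfl

/-- An element normalising `C₀` and `L` and centralising `t`, with square centralising both. -/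
structure Normal (m : G) : Prop where
  mt : m * S.t = S.t * m
  mc : ∀ c, T.InC c → T.InC (m * c * m⁻¹)
  ml : ∀ i, inL i = true → ∃ j, inL j = true ∧ m * S.f i * m⁻¹ = S.f j
  sc : ∀ c, T.InC c → m * m * c = c * (m * m)
  sl : ∀ i, inL i = true → m * m * S.f i = S.f i * (m * m)

theorem Normal.back {m : G} (hm : T.Normal m) {c : G} (hc : m * m * c = c * (m * m)) :
    m⁻¹ * c * m = m * c * m⁻¹ := by
  calc m⁻¹ * c * m = m⁻¹ * (c * (m * m)) * m⁻¹ := by group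
    _ = _ := by rw [← hc]; group

theorem Normal.conj {m : G} (hm : T.Normal m) {x : G} (hx : T.Nice x) {l : Fin 192} (h : T.Sh x l) :
    T.Nice (m * x * m⁻¹) ∧ ∀ j, m * S.f l * m⁻¹ = S.f j → T.Sh (m * x * m⁻¹) j := by
  obtain ⟨hl, c, hc, e⟩ := h
  have hs : ∀ j, m * S.f l * m⁻¹ = S.f j → T.Sh (m * x * m⁻¹) j := fun j hj => by
    obtain ⟨j', hj', ej⟩ := hm.ml l hl
    obtain rfl : j' = j := S.f_injective (ej.symm.trans hj)
    refine ⟨hj', m * c * m⁻¹, hm.mc c hc, ?_⟩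
    have ht : m⁻¹ * S.t = S.t * m⁻¹ := by
      rw [inv_mul_eq_iff_eq_mul, ← mul_assoc, hm.mt, mul_inv_cancel_right]
    rw [← hj, show m * x * m⁻¹ * (m * c * m⁻¹) * (m * S.f l * m⁻¹) = m * (x * c * S.f l) * m⁻¹ by group, ← e]
    calc S.t * (m * x * m⁻¹) * S.t = S.t * m * x * (m⁻¹ * S.t) := by group
      _ = _ := by rw [ht, ← hm.mt]; group
  refine ⟨⟨fun d hd => ?_, fun i hi => ?_, ?_⟩, hs⟩
  · have h1 : T.InC (m⁻¹ * d * m) := by rw [Normal.back T R hm (hm.sc d hd)]; exact hm.mc d hd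
    calc m * x * m⁻¹ * d = m * (x * (m⁻¹ * d * m)) * m⁻¹ := by group
      _ = _ := by rw [hx.cent _ h1]; group
  · obtain ⟨j, hj, ej⟩ := hm.ml i hi
    have h1 : m⁻¹ * S.f i * m = S.f j := by rw [Normal.back T R hm (hm.sl i hi), ej]
    have e1 : m * x * m⁻¹ * S.f i * (m * x * m⁻¹)⁻¹ * (S.f i)⁻¹ =
        m * (x * (m⁻¹ * S.f i * m) * x⁻¹ * (m⁻¹ * S.f i * m)⁻¹) * m⁻¹ := by group
    rw [e1, h1]
    exact hm.mc _ (hx.fl j hj)
  · obtain ⟨j, hj, ej⟩ := hm.ml l hl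
    exact ⟨j, hs j ej⟩

theorem normal_t : T.Normal S.t := by
  refine ⟨rfl, fun c hc => ?_, fun i hi => ⟨i, hi, ?_⟩, fun c _ => by rw [S.t_sq, one_mul, mul_one],
    fun i _ => by rw [S.t_sq, one_mul, mul_one]⟩
  · obtain ⟨-, d, hd, e⟩ := T.sh_inC R hc
    rw [S.t_inv, e, S.fone, mul_one]
    exact T.inC_mul R hc hd
  · rw [← S.comm_f, mul_inv_cancel_right]

theorem normal_s : T.Normal (S.f 166) := by
  obtain ⟨-, -, -, -, -, -, -, h2, -⟩ := L_gens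
  have hh : S.f 166 * S.f 166 = 1 := by rw [← S.fmul, h2, S.fone]
  refine ⟨S.comm_f 166, fun c hc => ?_, fun i hi => ⟨_, (L_closed i hi).2.2.1, (S.fconj 166 i).symm⟩,
    fun c _ => by rw [hh, one_mul, mul_one], fun i _ => by rw [hh, one_mul, mul_one]⟩
  obtain ⟨a, b, rfl⟩ := hc
  obtain ⟨c, d, e⟩ := ec_s a b
  refine ⟨c, d, ?_⟩
  rw [← T.ev_zeta, ← T.ev_zero R, e, T.ev_zero R, mul_inv_cancel_right]

theorem normal_sig : T.Normal (S.φ sigM) := by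
  obtain ⟨hs, hsd⟩ : ∃ g, g = S.φ sigM := ⟨_, rfl⟩
  rw [← hsd]
  have ht : hs * S.t = S.t * hs := hsd ▸ S.comm _
  have hl : ∀ i, inL i = true → hs * S.f i * hs⁻¹ = S.f (cSig i) := fun i hi => by
    rw [hsd, S.f_eq, S.f_eq, ← map_mul, ← map_inv, ← map_mul, sigM_conj hi]
  obtain ⟨i0, h0⟩ := sig_sq
  have hq : hs * hs = S.f i0 := by
    rw [hsd, S.f_eq, ← map_mul]
    refine congrArg S.φ (Subtype.ext (Equiv.ext fun x => ?_))
    rw [Subgroup.coe_mul, Equiv.Perm.mul_apply]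
    exact h0 x
  have hnf : ∀ i, S.f i * T.n = T.n * S.f i := fun i => by
    rw [T.n_f, show cBk 0 i = i from (show ∀ i : Fin 192, cBk 0 i = i by decide +kernel) i]
  obtain ⟨w, hw⟩ := T.fused
  obtain ⟨-, -, -, -, -, -, -, -, -, hte, hcor⟩ := L_gens
  rw [hte, hcor, cond_false, mul_one, S.fone, inv_one, mul_one, ← hsd] at hw
  have hz : inZ (cF ⟨w.val, by omega⟩) = true :=
    (show ∀ w : Fin 4, inZ (cF ⟨w.val, by omega⟩) = true by decide +kernel) w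
  have hzs : inZ (cSig (cF ⟨w.val, by omega⟩)) = true :=
    (show ∀ w : Fin 4, inZ (cSig (cF ⟨w.val, by omega⟩)) = true by decide +kernel) w
  have hp : hs * T.p * hs⁻¹ = T.n * (S.f (cSig (cF ⟨w.val, by omega⟩)))⁻¹ := by
    rw [← hl _ (Z_inL _ hz), eq_mul_inv_iff_mul_eq, show hs * T.p * hs⁻¹ * (hs * S.f (cF ⟨w.val, by omega⟩) * hs⁻¹) =
      hs * (T.p * S.f (cF ⟨w.val, by omega⟩)) * hs⁻¹ by group, ← hw,
      show hs * (hs * T.n * hs⁻¹) * hs⁻¹ = hs * hs * T.n * (hs * hs)⁻¹ by group, hq, hnf, mul_inv_cancel_right]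
  have sc : ∀ c, T.InC c → hs * hs * c = c * (hs * hs) := by
    intro c hc
    have hi0 : ∀ j, inL j = true → cCm i0 j = true := fun j hj => by
      refine S.cCm_of_comm ?_
      rw [← hq]
      refine mul_inv_eq_iff_eq_mul.1 ?_
      rw [show hs * hs * S.f j * (hs * hs)⁻¹ = hs * (hs * S.f j * hs⁻¹) * hs⁻¹ by group, hl j hj,
        hl _ (L_closed j hj).2.2.2.1, (L_closed j hj).2.2.2.2.1]
    have h44 : cCm i0 44 = true := hi0 44 (show inL 44 = true by decide +kernel)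
    rw [hq]
    exact (T.inC_comm_L R hc (L_of_comm i0 h44)).symm
  refine ⟨ht, fun c hc => ?_, fun i hi => ⟨_, (L_closed i hi).2.2.2.1, hl i hi⟩, sc, fun i hi => ?_⟩
  · obtain ⟨a, b, rfl⟩ := hc
    have hb : inZ (cF ⟨b.val, by omega⟩) = true :=
      (show ∀ w : Fin 4, inZ (cF ⟨w.val, by omega⟩) = true by decide +kernel) b
    have hb' : inZ (cSig (cF ⟨b.val, by omega⟩)) = true :=
      (show ∀ w : Fin 4, inZ (cSig (cF ⟨w.val, by omega⟩)) = true by decide +kernel) b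
    have hg : ∀ e : Bool, ∀ y : G, T.InC (hs * y * hs⁻¹) → T.InC (hs * gsel e y * hs⁻¹) := fun e y hy => by
      cases e
      · show T.InC (hs * 1 * hs⁻¹)
        rw [mul_one, mul_inv_cancel]; exact T.inC_one
      · exact hy
    have hn : T.InC (hs * T.n * hs⁻¹) := by rw [hw]; exact T.inC_mul R (T.inC_p R) (T.inC_f hz)
    have hp' : T.InC (hs * T.p * hs⁻¹) := by
      rw [hp]; exact T.inC_mul R (T.inC_n R) (T.inC_inv R (T.inC_f hzs))
    have h2 : (⟨a.val, by omega⟩ : Fin 8).val.testBit 2 = false :=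
      (show ∀ a : Fin 4, a.val.testBit 2 = false by decide) a
    have hf : T.InC (hs * S.f (cF ⟨b.val, by omega⟩) * hs⁻¹) := by
      rw [hl _ (Z_inL _ hb)]; exact T.inC_f hb'
    have := T.inC_mul R (T.inC_mul R (hg (a.val.testBit 0) _ hn) (hg (a.val.testBit 1) _ hp')) hf
    convert this using 1
    simp only [ev, ec, h2]
    simp [gsel, mul_assoc]
  · refine mul_inv_eq_iff_eq_mul.1 ?_
    rw [show hs * hs * S.f i * (hs * hs)⁻¹ = hs * (hs * S.f i * hs⁻¹) * hs⁻¹ by group, hl i hi,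
      hl _ (L_closed i hi).2.2.2.1, (L_closed i hi).2.2.2.2.1]

/-- The conjugate of `P 3` under `sigM`. -/
noncomputable def g : G := S.φ sigM * T.P 3 * (S.φ sigM)⁻¹

/-- Its conjugate under `f 166`. -/
noncomputable def h : G := S.f 166 * T.g * (S.f 166)⁻¹

theorem sh_p3 : T.Sh (T.P 3) 3 := by
  refine ⟨L_gens.2.1, 1, T.inC_one, ?_⟩
  rw [mul_one, ← T.ev_p3 R, ← T.ev_tt, ← T.ev_zeta, ← T.ev_zero R, ← T.ev_zero R, p3_t, T.ev_zero R]

theorem nice_g : T.Nice T.g ∧ T.Sh T.g 61 := by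
  obtain ⟨-, h3, -, -, hs, -⟩ := L_gens
  obtain ⟨a, b⟩ := Normal.conj T R (T.normal_sig R) (T.nice_p3 R) (T.sh_p3 R)
  exact ⟨a, b 61 (by rw [S.f_eq, S.f_eq, ← map_mul, ← map_inv, ← map_mul, sigM_conj h3, hs])⟩

theorem nice_h : T.Nice T.h ∧ T.Sh T.h 158 := by
  obtain ⟨-, -, -, -, -, hc, -⟩ := L_gens
  obtain ⟨a, b⟩ := Normal.conj T R (T.normal_s R) (T.nice_g R).1 (T.nice_g R).2
  exact ⟨a, b 158 (by rw [← S.fconj, hc])⟩

theorem sh_unique {x : G} {l l' : Fin 192} (h : T.Sh x l) (h' : T.Sh x l') : inZ (cMul (cInv l) l') = true := by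
  obtain ⟨hl, c, hc, e⟩ := h
  obtain ⟨hl', c', hc', e'⟩ := h'
  rw [e] at e'
  rw [mul_assoc, mul_assoc] at e'
  refine T.inZ_of_inC ?_
  rw [S.fmul, S.finv, show (S.f l)⁻¹ * S.f l' = (S.f l)⁻¹ * c'⁻¹ * (c' * S.f l') by group, ← mul_left_cancel e',
    ← S.finv, ← T.inC_comm_L R (T.inC_inv R hc') (L_closed l hl).1, S.finv,
    show c'⁻¹ * (S.f l)⁻¹ * (c * S.f l) = c'⁻¹ * ((S.f l)⁻¹ * (c * S.f l)) by group,
    T.inC_comm_L R hc hl, inv_mul_cancel_left]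
  exact T.inC_mul R (T.inC_inv R hc') hc

/-- **The elements of `X` with central shift form `C₀ L`.** -/
theorem kernel {x : G} (hx : T.Nice x) {l : Fin 192} (h : T.Sh x l) (hl : inZ l = true) :
    ∃ a i, inL i = true ∧ x = T.ev (ea a i) := by
  obtain ⟨-, c, hc, e⟩ := h
  have e' : S.t * x * S.t = x * (c * S.f l) := by rw [e, mul_assoc]
  obtain ⟨d, hd, hdd⟩ : ∃ d, T.InC d ∧ d = c * S.f l := ⟨_, T.inC_mul R hc (T.inC_f hl), rfl⟩
  rw [← hdd] at e'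
  obtain ⟨a, b, rfl⟩ := hd
  have h1 : mZero (ec a b) (mZero (mZero (0, true, 0) (ec a b)) (0, true, 0)) = (0, false, 0) := by
    refine T.ev_inj ?_
    rw [T.ev_zero R, T.ev_zero R, T.ev_zero R, T.ev_tt, T.ev_one]
    refine mul_left_cancel (a := x) ?_
    rw [mul_one, ← mul_assoc, ← e']
    calc S.t * x * S.t * (S.t * T.ev (ec a b) * S.t) = S.t * (x * (S.t * S.t) * T.ev (ec a b)) * S.t := by group
      _ = S.t * (S.t * x * S.t) * S.t := by rw [S.t_sq, mul_one, e']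
      _ = S.t * S.t * x * (S.t * S.t) := by group
      _ = x := by rw [S.t_sq, one_mul, mul_one]
  obtain ⟨c1, hc1⟩ := ec_cancel a b h1
  obtain ⟨d, hd, hdd⟩ : ∃ d, T.InC d ∧ d = T.ev (ec c1 0) := ⟨_, ⟨c1, 0, rfl⟩, rfl⟩
  have h2 : S.t * d * S.t * T.ev (ec a b) = d := by
    rw [hdd, ← T.ev_tt, ← T.ev_zero R, ← T.ev_zero R, ← T.ev_zero R, hc1]
  have hy : T.Nice (d * x) := Nice.mul T R (T.nice_inC R hd) hx
  have hyt : d * x * S.t = S.t * (d * x) := by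
    have h3 : S.t * (d * x) * S.t = d * x :=
      calc S.t * (d * x) * S.t = S.t * d * (S.t * S.t) * x * S.t := by rw [S.t_sq]; group
        _ = S.t * d * S.t * (S.t * x * S.t) := by group
        _ = S.t * d * S.t * (x * T.ev (ec a b)) := by rw [e']
        _ = S.t * d * S.t * (T.ev (ec a b) * x) := by rw [hx.cent _ ⟨a, b, rfl⟩]
        _ = _ := by rw [← mul_assoc, h2]
    calc d * x * S.t = S.t * (d * x) * S.t * S.t := by rw [h3]
      _ = S.t * (d * x) * (S.t * S.t) := by group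
      _ = _ := by rw [S.t_sq, mul_one]
  obtain ⟨i, hi⟩ := (S.mem_iff_tz _).1 ⟨hyt, hy.cent _ (T.inC_f (show inZ cT = true by decide +kernel))⟩
  have hn := hy.cent _ (T.inC_n R)
  have hnf : ∀ i, S.f i * T.n = T.n * S.f i := fun i => by
    rw [T.n_f, show cBk 0 i = i from (show ∀ i : Fin 192, cBk 0 i = i by decide +kernel) i]
  have hfi : d * x = S.f i := by
    rcases hi with h | h
    · exact h
    · exfalso
      rw [h, mul_assoc, hnf, ← mul_assoc, ← mul_assoc] at hn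
      have h4 : S.t * T.n = T.n * S.t := mul_right_cancel hn
      rw [T.t_n] at h4
      exact absurd (S.f_eq_one_iff.1 (mul_left_cancel (a := T.n * S.t) (by rw [h4, mul_one]))) (by decide)
  have hiL : inL i = true := L_of_comm i (S.cCm_of_comm (by
    have h5 := hy.cent _ (T.inC_f (show inZ 44 = true by decide +kernel))
    rwa [hfi] at h5))
  obtain ⟨j, hj, ej⟩ := ec_eq_ea c1 0 i hiL
  refine ⟨c1, j, hj, ?_⟩
  rw [← ej, T.ev_zero R, T.ev_zeta, ← hfi, ← mul_assoc, ← hdd, T.inC_sq R hd, one_mul]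

/-- **`X` has class two modulo `C₀`.** -/
theorem comm_inC {x y : G} (hx : T.Nice x) (hy : T.Nice y) : T.InC (x * y * x⁻¹ * y⁻¹) := by
  have hv : T.Nice (x * y * x⁻¹ * y⁻¹) :=
    Nice.mul T R (Nice.mul T R (Nice.mul T R hx hy) (Nice.inv T R hx)) (Nice.inv T R hy)
  have hlv : ∀ i, inL i = true → S.f i * (x * y * x⁻¹ * y⁻¹) = x * y * x⁻¹ * y⁻¹ * S.f i := by
    intro i hi
    obtain ⟨c, hc, e⟩ := hx.swap T R hi
    obtain ⟨d, hd, e'⟩ := hy.swap T R hi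
    refine mul_inv_eq_iff_eq_mul.1 ?_
    have k1 : S.f i * x * (S.f i)⁻¹ = c * x := by rw [e, ← mul_assoc, mul_inv_cancel_right]
    have k2 : S.f i * y * (S.f i)⁻¹ = d * y := by rw [e', ← mul_assoc, mul_inv_cancel_right]
    rw [show S.f i * (x * y * x⁻¹ * y⁻¹) * (S.f i)⁻¹ = (S.f i * x * (S.f i)⁻¹) * (S.f i * y * (S.f i)⁻¹) *
      (S.f i * x * (S.f i)⁻¹)⁻¹ * (S.f i * y * (S.f i)⁻¹)⁻¹ by group, k1, k2]
    calc c * x * (d * y) * (c * x)⁻¹ * (d * y)⁻¹ = c * (x * d) * y * x⁻¹ * c⁻¹ * y⁻¹ * d⁻¹ := by group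
      _ = c * d * (x * y * x⁻¹ * c⁻¹) * y⁻¹ * d⁻¹ := by rw [hx.cent d hd]; group
      _ = c * d * (c⁻¹ * (x * y * x⁻¹)) * y⁻¹ * d⁻¹ := by
        rw [(Nice.mul T R (Nice.mul T R hx hy) (Nice.inv T R hx)).cent _ (T.inC_inv R hc)]
      _ = c * d * c⁻¹ * ((x * y * x⁻¹ * y⁻¹) * d⁻¹) := by group
      _ = d * ((x * y * x⁻¹ * y⁻¹) * d⁻¹) := by rw [T.inC_comm R hc hd, mul_inv_cancel_right]
      _ = _ := by rw [hv.cent _ (T.inC_inv R hd), mul_inv_cancel_left]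
  obtain ⟨l, hl⟩ := hx.sh
  obtain ⟨l', hl'⟩ := hy.sh
  have hxy := Sh.mul T R (Nice.inv T R hy) (Nice.mul T R (Nice.mul T R hx hy) (Nice.inv T R hx))
    (Sh.mul T R (Nice.inv T R hx) (Nice.mul T R hx hy) (Sh.mul T R hy hx hl hl') (Sh.inv T R hx hl)) (Sh.inv T R hy hl')
  have hzl : inZ (cMul (cMul (cMul l l') (cInv l)) (cInv l')) = true := by
    have h1 := ((L_closed l hl.1).2.2.2.2.2.2 l' hl'.1).2
    have e : cMul (cMul (cMul l l') (cInv l)) (cInv l') = cMul (cMul l l') (cMul (cInv l) (cInv l')) :=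
      S.f_injective (by simp only [S.fmul]; group)
    rw [e]; exact h1
  obtain ⟨a, i, hi, e⟩ := T.kernel R hv hxy hzl
  obtain ⟨b, hb⟩ := z_cF 0 rfl
  have ha : T.InC (T.ev (ea a 0)) := ⟨a, 0, by rw [(ea_inv a).2]⟩
  have hev : T.ev (ea a i) = T.ev (ea a 0) * S.f i := by
    simp only [ev, ea, S.fone, mul_one]
  have hiZ : inZ i = true := Z_of_comm i hi fun j hj => S.cCm_of_comm (by
    have h := hlv j hj
    rw [e, hev, ← mul_assoc, ← T.inC_comm_L R ha hj, mul_assoc, mul_assoc] at h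
    exact (mul_left_cancel h).symm)
  rw [e, hev]
  exact T.inC_mul R ha (T.inC_f hiZ)

end Tr

end Cfsg.Lib.CoThreeM12
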