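import Cfsg.Agent.Lib.CoThreeM12.TransModel

/-!
# The model `k = 0`: finite facts

`C₀` is spanned by `n`, `p` and the four central elements of `L`.
-/

set_option autoImplicit false
set_option linter.style.longLine false
set_option maxRecDepth 100000

namespace Cfsg.Lib.CoThreeM12

open Cfsg Cfsg.Lib.MTwelveRecog

/-- Membership in the central four-group of `L`. -/
def inZ (i : Fin 192) : Bool := i == 0 || i == 14 || i == 44 || i == 106

/-- The elements of `C₀`. -/
def ec (a b : Fin 4) : El := (⟨a.val, by omega⟩, false, cF ⟨b.val, by omega⟩)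

/-- The coordinates of `p ^ a * f i` in `C₀ L`. -/
def ea (a : Fin 4) (i : Fin 192) : El := (⟨a.val, by omega⟩, false, i)

/-- The product in the model. -/
def mZero (a b : El) : El := mMul 0 parZero a b

theorem ec_closed : ∀ a b a' b' : Fin 4, (∃ c d : Fin 4, mZero (ec a b) (ec a' b') = ec c d) ∧
    mZero (ec a b) (ec a' b') = mZero (ec a' b') (ec a b) ∧ mZero (ec a b) (ec a b) = (0, false, 0) := by
  decide +kernel

theorem z_cF : ∀ i : Fin 192, inZ i = true → ∃ b : Fin 4, ec 0 b = (0, false, i) := by decide +kernel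

theorem inZ_of_ec : ∀ a b : Fin 4, ∀ i : Fin 192, ec a b = (0, false, i) → inZ i = true := by decide +kernel

theorem ec_comm_L : ∀ a b : Fin 4, ∀ i : Fin 192, inL i = true →
    mZero (ec a b) (0, false, i) = mZero (0, false, i) (ec a b) := by
  decide +kernel

theorem ec_comm_p3 : ∀ a b : Fin 4, mZero (ec a b) (4, false, 0) = mZero (4, false, 0) (ec a b) := by
  decide +kernel

theorem ec_t : ∀ a b : Fin 4, ∃ i : Fin 192, inZ i = true ∧
    mZero (mZero (0, true, 0) (ec a b)) (0, true, 0) = mZero (ec a b) (0, false, i) := by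
  decide +kernel

theorem ec_cancel : ∀ a b : Fin 4,
    mZero (ec a b) (mZero (mZero (0, true, 0) (ec a b)) (0, true, 0)) = (0, false, 0) →
    ∃ c : Fin 4, mZero (mZero (mZero (0, true, 0) (ec c 0)) (0, true, 0)) (ec a b) = ec c 0 := by
  decide +kernel

theorem ec_s : ∀ a b : Fin 4, ∃ c d : Fin 4, mZero (0, false, 166) (ec a b) = mZero (ec c d) (0, false, 166) := by
  decide +kernel

/-- The elements of `C₀` fixed by `f 166`. -/
theorem ec_fixed : ∀ a b : Fin 4, mZero (0, false, 166) (ec a b) = mZero (ec a b) (0, false, 166) →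
    (a = 0 ∨ a = 1) ∧ (b = 0 ∨ b = 1) := by
  decide +kernel

theorem p3_L : ∀ i : Fin 192, inL i = true → ∃ a b : Fin 4,
    mZero (4, false, 0) (0, false, i) = mZero (ec a b) (mZero (0, false, i) (4, false, 0)) := by
  decide +kernel

theorem p3_t : mZero (mZero (0, true, 0) (4, false, 0)) (0, true, 0) = mZero (4, false, 0) (0, false, 3) := by
  decide +kernel

theorem p3_s : mZero (0, false, 166) (4, false, 0) = mZero (4, false, 0) (0, false, 166) ∧
    mZero (4, false, 0) (4, false, 0) = (0, false, 0) ∧ ec 1 0 = (1, false, 0) ∧ ec 2 0 = (2, false, 0) ∧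
    ec 0 1 = (0, false, 14) ∧ ec 0 2 = (0, false, 44) := by
  refine ⟨?_, ?_, ?_, ?_, ?_, ?_⟩ <;> decide +kernel

theorem L_closed : ∀ i : Fin 192, inL i = true → inL (cInv i) = true ∧ inZ (cMul i i) = true ∧
    inL (cConj 166 i) = true ∧ inL (cSig i) = true ∧ cSig (cSig i) = i ∧ cConj 166 (cConj 166 i) = i ∧
    ∀ j : Fin 192, inL j = true → inL (cMul i j) = true ∧
      inZ (cMul (cMul i j) (cMul (cInv i) (cInv j))) = true := by
  decide +kernel

theorem Z_inL : ∀ i : Fin 192, inZ i = true → inL i = true := by decide +kernel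

theorem L_of_comm : ∀ i : Fin 192, cCm i 44 = true → inL i = true := by decide +kernel

theorem Z_of_comm : ∀ i : Fin 192, inL i = true → (∀ j : Fin 192, inL j = true → cCm i j = true) → inZ i = true := by
  decide +kernel

theorem L_gens : inL 0 = true ∧ inL 3 = true ∧ inL 61 = true ∧ inL 158 = true ∧ cSig 3 = 61 ∧
    cConj 166 61 = 158 ∧ cConj 166 3 = 3 ∧ cMul 166 166 = 0 ∧ cCm 166 44 = false ∧ cTe 0 = false ∧
    cCorr 0 = 0 := by
  refine ⟨?_, ?_, ?_, ?_, ?_, ?_, ?_, ?_, ?_, ?_, ?_⟩ <;> decide +kernel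

/-- The shift of a representative. -/
def rShift (v : Fin 8) : Fin 192 :=
  cMul (cMul (sel (v.val.testBit 0) 3) (sel (v.val.testBit 1) 61)) (sel (v.val.testBit 2) 158)

theorem rShift_facts : (∀ v : Fin 8, inL (rShift v) = true) ∧ rShift 0 = 0 ∧
    (∀ v w : Fin 8, inZ (cMul (cInv (rShift v)) (rShift w)) = true → v = w) ∧
    ∀ i : Fin 192, inL i = true → ∃ v : Fin 8, inZ (cMul (cInv (rShift v)) i) = true := by
  refine ⟨?_, ?_, ?_, ?_⟩ <;> decide +kernel

/-- The elements of `L` fixed by `f 166` modulo the centre. -/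
def fixL : List (Fin 192) :=
  (List.finRange 192).filter fun i => inL i && inZ (cMul (cConj 166 i) (cInv i))

/-- The involutions among `t * p ^ a * f i`. -/
def invT : List (Fin 4 × Fin 192) :=
  ((List.finRange 4).product (List.finRange 192)).filter fun x =>
    inL x.2 && (mZero (mZero (0, true, 0) (ea x.1 x.2)) (mZero (0, true, 0) (ea x.1 x.2)) == (0, false, 0))

theorem fixL_length : fixL.length = 16 := by decide +kernel

theorem invT_length : invT.length = 32 := by decide +kernel

theorem ea_t : ∀ a a' : Fin 4, mZero (mZero (ea a 0) (0, true, 0)) (ea a 0) =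
    mZero (mZero (ea a' 0) (0, true, 0)) (ea a' 0) → a = a' := by
  decide +kernel

theorem ea_inv : ∀ a : Fin 4, mZero (ea a 0) (ea a 0) = (0, false, 0) ∧ ea a 0 = ec a 0 := by decide +kernel

theorem ec_eq_ea : ∀ a b : Fin 4, ∀ i : Fin 192, inL i = true →
    ∃ j : Fin 192, inL j = true ∧ mZero (ec a b) (0, false, i) = ea a j := by
  decide +kernel

theorem sig_sq : ∃ i : Fin 192, ∀ x : Fin 12,
    (sigWord.map stdGen).prod ((sigWord.map stdGen).prod x) = el i x := by
  decide +kernel

end Cfsg.Lib.CoThreeM12
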