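import Cfsg.Agent.Lib.CoThreeM12.ZeroCard

/-!
# The model `k = 0`: the coset `f 166 * X`

An involution of this coset is centralised by a group of order at least `128` which also centralises `n`
and `z`.
-/

set_option autoImplicit false
set_option linter.style.haveILetI false
set_option linter.style.longLine false
set_option linter.unusedSectionVars false
set_option maxRecDepth 100000

namespace Cfsg.Lib.CoThreeM12

open Cfsg Cfsg.Lib.MTwelveRecog Setup

universe u

/-- `K` extended by an involution centralising it. -/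
def extInvol {G : Type u} [Group G] (K : Subgroup G) (y : G) (hy : y * y = 1) (hc : ∀ k ∈ K, y * k = k * y) :
    Subgroup G where
  carrier := {g | g ∈ K ∨ g * y ∈ K}
  one_mem' := Or.inl K.one_mem
  mul_mem' := by
    rintro a b (ha | ha) (hb | hb)
    · exact Or.inl (K.mul_mem ha hb)
    · exact Or.inr (by rw [mul_assoc]; exact K.mul_mem ha hb)
    · refine Or.inr ?_
      rw [mul_assoc, ← hc b hb, ← mul_assoc]
      exact K.mul_mem ha hb
    · refine Or.inl ?_
      have e : a * b = a * y * (b * y) := by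
        rw [show a * y * (b * y) = a * (y * (b * y)) by group, hc _ hb, mul_assoc b, hy, mul_one]
      rw [e]
      exact K.mul_mem ha hb
  inv_mem' := by
    rintro a (ha | ha)
    · exact Or.inl (K.inv_mem ha)
    · refine Or.inr ?_
      have e : a⁻¹ * y = (a * y)⁻¹ := by
        have hyi : y⁻¹ = y := inv_eq_of_mul_eq_one_right hy
        have hay : y * a = a * y := by
          have h := hc _ ha
          rw [mul_assoc, hy, mul_one, ← mul_assoc] at h
          calc y * a = y * a * (y * y) := by rw [hy, mul_one]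
            _ = y * a * y * y := by group
            _ = _ := by rw [h]
        rw [← hay, mul_inv_rev, hyi]
      rw [e]
      exact K.inv_mem ha

theorem card_extInvol {G : Type u} [Group G] (K : Subgroup G) (y : G) (hy : y * y = 1)
    (hc : ∀ k ∈ K, y * k = k * y) (hK : y ∉ K) : Nat.card (extInvol K y hy hc) = 2 * Nat.card K := by
  let F : Bool × K → extInvol K y hy hc := fun q =>
    ⟨q.2.1 * gsel q.1 y, by
      obtain ⟨b, k⟩ := q
      cases b
      · exact Or.inl (by simp [gsel])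
      · exact Or.inr (by
          show k.1 * y * y ∈ K
          rw [mul_assoc, hy, mul_one]; exact k.2)⟩
  have hF : Function.Bijective F := by
    refine ⟨fun q q' h => ?_, fun g => ?_⟩
    · obtain ⟨b, k⟩ := q
      obtain ⟨b', k'⟩ := q'
      have h' : k.1 * gsel b y = k'.1 * gsel b' y := congrArg Subtype.val h
      cases b <;> cases b' <;> simp only [gsel, cond_false, cond_true, mul_one] at h'
      · exact Prod.ext rfl (Subtype.ext h')
      · exact absurd (by rw [show y = k'.1⁻¹ * k.1 by rw [h']; group]; exact K.mul_mem (K.inv_mem k'.2) k.2) hK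
      · exact absurd (by rw [show y = k.1⁻¹ * k'.1 by rw [← h']; group]; exact K.mul_mem (K.inv_mem k.2) k'.2) hK
      · exact Prod.ext rfl (Subtype.ext (mul_right_cancel h'))
    · obtain ⟨g, hg | hg⟩ := g
      · exact ⟨(false, ⟨g, hg⟩), Subtype.ext (by simp [F, gsel])⟩
      · exact ⟨(true, ⟨g * y, hg⟩), Subtype.ext (by simp [F, gsel, mul_assoc, hy])⟩
  rw [← Nat.card_eq_of_bijective F hF, Nat.card_prod, Nat.card_eq_fintype_card, Fintype.card_bool]

namespace Tr

variable {G : Type u} [Group G] {S : Setup G} (T : Tr S 0) (R : T.Rels parZero)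

theorem fix_reps : ∀ v : Fin 8, (v = 0 ∨ v = 1 ∨ v = 6 ∨ v = 7) ↔ v.val.testBit 1 = v.val.testBit 2 := by decide

include R

/-- `f 166` fixes `x` modulo `C₀`. -/
def SFix (x : G) : Prop := T.InC (S.f 166 * x * (S.f 166)⁻¹ * x⁻¹)

theorem sFix_mul {x y : G} (hx : T.Nice x) (h : T.SFix x) (h' : T.SFix y) : T.SFix (x * y) := by
  have e : S.f 166 * (x * y) * (S.f 166)⁻¹ * (x * y)⁻¹ =
      S.f 166 * x * (S.f 166)⁻¹ * (S.f 166 * y * (S.f 166)⁻¹ * y⁻¹) * x⁻¹ := by group
  have e' : S.f 166 * x * (S.f 166)⁻¹ = S.f 166 * x * (S.f 166)⁻¹ * x⁻¹ * x := by group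
  rw [SFix, e, e', mul_assoc (S.f 166 * x * (S.f 166)⁻¹ * x⁻¹) x, hx.cent _ h', ← mul_assoc,
    mul_inv_cancel_right]
  exact T.inC_mul R h h'

theorem sFix_inC {c : G} (hc : T.InC c) : T.SFix c :=
  T.inC_mul R ((T.normal_s R).mc c hc) (T.inC_inv R hc)

theorem sFix_f {i : Fin 192} (h : i ∈ fixL) : T.SFix (S.f i) := by
  have h := (List.mem_filter.1 h).2
  rw [Bool.and_eq_true] at h
  rw [SFix, ← S.fconj, ← S.finv, ← S.fmul]
  exact T.inC_f h.2

theorem sFix_rep {v : Fin 8} (h : v.val.testBit 1 = v.val.testBit 2) : T.SFix (T.rep v) := by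
  have h1 : T.SFix (gsel (v.val.testBit 0) (T.P 3)) := by
    cases v.val.testBit 0
    · exact T.sFix_inC R T.inC_one
    · show T.InC (S.f 166 * T.P 3 * (S.f 166)⁻¹ * (T.P 3)⁻¹)
      have e : S.f 166 * T.P 3 = T.P 3 * S.f 166 := by
        rw [← T.ev_p3 R, ← T.ev_zeta, ← T.ev_zero R, p3_s.1, T.ev_zero R]
      rw [e, mul_inv_cancel_right, mul_inv_cancel]
      exact T.inC_one
  have n1 := (T.sh_gsel R (T.nice_p3 R) (T.sh_p3 R) (v.val.testBit 0)).1
  have h2 : T.SFix (gsel (v.val.testBit 1) T.g * gsel (v.val.testBit 2) T.h) := by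
    rw [← h]
    cases v.val.testBit 1
    · show T.SFix (1 * 1)
      rw [one_mul]; exact T.sFix_inC R T.inC_one
    · show T.InC (S.f 166 * (T.g * T.h) * (S.f 166)⁻¹ * (T.g * T.h)⁻¹)
      have hs : S.f 166 * S.f 166 = 1 := by rw [← S.fmul, L_gens.2.2.2.2.2.2.2.1, S.fone]
      have hh : S.f 166 * T.h * (S.f 166)⁻¹ = T.g := by
        rw [Tr.h, show ∀ s y : G, s * (s * y * s⁻¹) * s⁻¹ = s * s * y * (s * s)⁻¹ from fun s y => by group, hs]
        group
      rw [show S.f 166 * (T.g * T.h) * (S.f 166)⁻¹ = S.f 166 * T.g * (S.f 166)⁻¹ * (S.f 166 * T.h * (S.f 166)⁻¹) by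
        group, hh, show S.f 166 * T.g * (S.f 166)⁻¹ = T.h from rfl,
        show T.h * T.g * (T.g * T.h)⁻¹ = T.h * T.g * T.h⁻¹ * T.g⁻¹ by group]
      exact T.comm_inC R (T.nice_h R).1 (T.nice_g R).1
  have := T.sFix_mul R n1 h1 h2
  rwa [← mul_assoc] at this

theorem n_comm_s : T.n * S.f 166 = S.f 166 * T.n := by
  rw [T.n_f, show cBk 0 166 = 166 by decide +kernel]

theorem s_not_nice : ¬ T.Nice (S.f 166) := fun h => by
  have := S.cCm_of_comm (h.cent _ (T.inC_f (show inZ 44 = true by decide +kernel)))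
  rw [L_gens.2.2.2.2.2.2.2.2.1] at this
  exact Bool.false_ne_true this

theorem card_centralizer_side [Finite G] {x0 : G} (hx0 : T.Nice x0) {y : G} (hy : y = S.f 166 * x0)
    (hy2 : y * y = 1) : 64 ≤ Nat.card (T.X R ⊓ Subgroup.centralizer ({y} : Set G) : Subgroup G) := by
  let D := {v : Fin 8 // v.val.testBit 1 = v.val.testBit 2} × Fin 4 × {i : Fin 192 // i ∈ fixL}
  let elt : D → G := fun q => T.rep q.1.1 * T.ev (ea q.2.1 q.2.2.1)
  have hiL : ∀ q : D, inL q.2.2.1 = true := fun q => by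
    have h := (List.mem_filter.1 q.2.2.2).2
    rw [Bool.and_eq_true] at h
    exact h.1
  have hinj : Function.Injective elt := fun q q' h => by
    obtain ⟨e1, e2, e3⟩ := T.coord_inj R (hiL q) (hiL q') h
    exact Prod.ext (Subtype.ext e1) (Prod.ext e2 (Subtype.ext e3))
  have hN : ∀ q, T.Nice (elt q) := fun q =>
    Nice.mul T R (T.rep_spec R q.1.1).1 (T.ea_spec R q.2.1 (hiL q)).1
  have hθ : ∀ q, T.InC (y * elt q * y⁻¹ * (elt q)⁻¹) := fun q => by
    have hfx : T.SFix (elt q) := by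
      refine T.sFix_mul R (T.rep_spec R q.1.1).1 (T.sFix_rep R q.1.2) ?_
      rw [T.ev_ea]
      exact T.sFix_mul R (T.nice_inC R (T.inC_ea _)) (T.sFix_inC R (T.inC_ea _)) (T.sFix_f R q.2.2.2)
    have e : y * elt q * y⁻¹ * (elt q)⁻¹ = S.f 166 * (x0 * elt q * x0⁻¹ * (elt q)⁻¹) * (S.f 166)⁻¹ *
        (S.f 166 * elt q * (S.f 166)⁻¹ * (elt q)⁻¹) := by rw [hy]; group
    rw [e]
    exact T.inC_mul R ((T.normal_s R).mc _ (T.comm_inC R hx0 (hN q))) hfx
  have hval : ∀ q, ∃ a b : Fin 2, y * elt q * y⁻¹ * (elt q)⁻¹ =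
      T.ev (ec ⟨a.val, by omega⟩ ⟨b.val, by omega⟩) := fun q => by
    have hc := hθ q
    obtain ⟨c, hcd⟩ : ∃ c, c = y * elt q * y⁻¹ * (elt q)⁻¹ := ⟨_, rfl⟩
    rw [← hcd] at hc ⊢
    have hyc : y * c = c * y := by
      refine mul_inv_eq_iff_eq_mul.1 ?_
      have hci : c⁻¹ = c := inv_eq_of_mul_eq_one_right (T.inC_sq R hc)
      obtain ⟨e, he⟩ : ∃ e, e = elt q := ⟨_, rfl⟩
      rw [← he] at hcd
      have hyi : y⁻¹ = y := inv_eq_of_mul_eq_one_right hy2
      calc y * c * y⁻¹ = y * y * (e * y⁻¹ * e⁻¹) * y⁻¹ := by rw [hcd]; group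
        _ = e * y * e⁻¹ * y⁻¹ := by rw [hy2, one_mul, hyi]
        _ = c⁻¹ := by rw [hcd]; group
        _ = c := hci
    rw [hy, mul_assoc, hx0.cent c hc, ← mul_assoc, ← mul_assoc] at hyc
    have hsc : S.f 166 * c = c * S.f 166 := mul_right_cancel hyc
    obtain ⟨a, b, rfl⟩ := hc
    rw [← T.ev_zeta, ← T.ev_zero R, ← T.ev_zero R] at hsc
    obtain ⟨ha, hb⟩ := ec_fixed a b (T.ev_inj hsc)
    rcases ha with rfl | rfl <;> rcases hb with rfl | rfl
    exacts [⟨0, 0, rfl⟩, ⟨0, 1, rfl⟩, ⟨1, 0, rfl⟩, ⟨1, 1, rfl⟩]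
  choose A B hAB using hval
  let θ : D → Fin 2 × Fin 2 := fun q => (A q, B q)
  haveI : Nonempty D := ⟨(⟨0, by decide⟩, 0, ⟨0, List.mem_filter.2 ⟨List.mem_finRange _, by decide +kernel⟩⟩)⟩
  let r : D → D := fun q => Function.invFun θ (θ q)
  have hr : ∀ q, θ (r q) = θ q := fun q => Function.invFun_eq ⟨q, rfl⟩
  have hmem : ∀ q, (elt (r q))⁻¹ * elt q ∈ (T.X R ⊓ Subgroup.centralizer ({y} : Set G) : Subgroup G) := fun q => by
    refine ⟨Nice.mul T R (Nice.inv T R (hN _)) (hN q), Subgroup.mem_centralizer_singleton_iff.2 ?_⟩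
    have e : y * elt q * y⁻¹ * (elt q)⁻¹ = y * elt (r q) * y⁻¹ * (elt (r q))⁻¹ := by
      have h := hr q
      simp only [θ, Prod.mk.injEq] at h
      rw [hAB q, hAB (r q), h.1, h.2]
    obtain ⟨c, hc⟩ : ∃ c, c = y * elt q * y⁻¹ * (elt q)⁻¹ := ⟨_, rfl⟩
    rw [← hc] at e
    have e1 : y * elt q * y⁻¹ = c * elt q := by rw [hc]; group
    have e2 : y * elt (r q) * y⁻¹ = c * elt (r q) := by rw [e]; group
    refine (mul_inv_eq_iff_eq_mul.1 ?_).symm
    rw [show y * ((elt (r q))⁻¹ * elt q) * y⁻¹ = (y * elt (r q) * y⁻¹)⁻¹ * (y * elt q * y⁻¹) by group, e1, e2]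
    group
  have h := Nat.card_le_card_of_injective (fun q : D => (θ q, (⟨_, hmem q⟩ :
      (T.X R ⊓ Subgroup.centralizer ({y} : Set G) : Subgroup G)))) fun q q' h => by
    obtain ⟨h1, h2⟩ := Prod.mk.inj h
    have h2' : (elt (r q))⁻¹ * elt q = (elt (r q'))⁻¹ * elt q' := congrArg Subtype.val h2
    rw [show r q = r q' from congrArg (Function.invFun θ) h1] at h2'
    exact hinj (mul_left_cancel h2')
  have hV : Nat.card {v : Fin 8 // v.val.testBit 1 = v.val.testBit 2} = 4 := by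
    rw [Nat.card_eq_fintype_card]; decide
  have hL : Nat.card {i : Fin 192 // i ∈ fixL} = 16 := by
    rw [Nat.card_eq_fintype_card, ← fixL_length, Fintype.card_subtype]
    decide +kernel
  simp only [D, Nat.card_prod, Nat.card_fin, hV, hL] at h
  omega

/-- **No involution of `f 166 * X` is conjugate to `t`.** -/
theorem side_not_isConj [Finite G]
    (hfour : ∀ {H : Subgroup G}, IsPGroup 2 H → ∀ {y u v : G}, IsConj S.t y → u * u = 1 → v * v = 1 →
      u * v = v * u → u ≠ 1 → v ≠ 1 → u ≠ v → u ≠ y → v ≠ y → u * v ≠ y → u * y = y * u → v * y = y * v →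
      (∀ h ∈ H, h * y = y * h ∧ h * u = u * h ∧ h * v = v * h) → Nat.card H ≤ 64)
    {x0 : G} (hx0 : T.Nice x0) : ¬ IsConj S.t (S.f 166 * x0) := by
  intro hcj
  obtain ⟨y, hy⟩ : ∃ y, y = S.f 166 * x0 := ⟨_, rfl⟩
  rw [← hy] at hcj
  obtain ⟨m, hm⟩ := isConj_iff.1 hcj
  have hy2 : y * y = 1 := by
    rw [← hm, show m * S.t * m⁻¹ * (m * S.t * m⁻¹) = m * (S.t * S.t) * m⁻¹ by group, S.t_sq, mul_one, mul_inv_cancel]
  obtain ⟨K, hK⟩ : ∃ K : Subgroup G, K = T.X R ⊓ Subgroup.centralizer ({y} : Set G) := ⟨_, rfl⟩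
  have hKc : ∀ k ∈ K, y * k = k * y := fun k hk => by
    rw [hK] at hk
    exact (Subgroup.mem_centralizer_singleton_iff.1 hk.2).symm
  have hyX : ¬ T.Nice y := fun h => T.s_not_nice R (by
    rw [show S.f 166 = y * x0⁻¹ by rw [hy]; group]
    exact Nice.mul T R h (Nice.inv T R hx0))
  have hyK : y ∉ K := fun h => by
    rw [hK] at h
    exact hyX h.1
  obtain ⟨b, hbd, hb⟩ : ∃ b, b ≤ 10 ∧ Nat.card K = 2 ^ b := by
    have h := Subgroup.card_dvd_of_le (show K ≤ T.X R from hK ▸ inf_le_left)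
    rw [T.card_X R, show (1024 : ℕ) = 2 ^ 10 by norm_num] at h
    exact (Nat.dvd_prime_pow Nat.prime_two).1 h
  have hz : T.InC S.z := T.inC_f (show inZ cT = true by decide +kernel)
  have hn := T.inC_n R
  have hcn : T.n * y = y * T.n := by
    rw [hy, ← mul_assoc, T.n_comm_s R, mul_assoc, mul_assoc, hx0.cent _ hn]
  have hcz : S.z * y = y * S.z := by
    rw [Setup.z] at hz ⊢
    rw [hy, ← mul_assoc, S.f_comm_of (cT_central 166).1.symm, mul_assoc, mul_assoc, ← hx0.cent _ hz]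
  have hev : ∀ i, inZ i = true → T.n ≠ S.f i := fun i _ h => by
    obtain ⟨b0, hb0⟩ := z_cF 0 rfl
    have e : T.ev (1, false, 0) = T.ev (0, false, i) := by
      rw [T.ev_zeta, ← h, ev, show (1 : Fin 8).val.testBit 0 = true from rfl,
        show (1 : Fin 8).val.testBit 1 = false from rfl, show (1 : Fin 8).val.testBit 2 = false from rfl]
      simp [gsel, S.fone]
    exact absurd (Prod.mk.inj (T.ev_inj e)).1 (by decide)
  have hcard : Nat.card (extInvol K y hy2 hKc) = 2 ^ (b + 1) := by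
    rw [card_extInvol K y hy2 hKc hyK, hb, pow_succ, mul_comm]
  have hle := hfour (H := extInvol K y hy2 hKc) (IsPGroup.of_card hcard) hcj T.n_sq S.z_sq
    (T.inC_comm R hn hz) (fun h => hev 0 rfl (h.trans S.fone.symm)) S.z_ne_one
    (hev cT (by decide +kernel)) (fun h => hyX (h ▸ T.nice_inC R hn)) (fun h => hyX (h ▸ T.nice_inC R hz))
    (fun h => hyX (h ▸ T.nice_inC R (T.inC_mul R hn hz))) hcn hcz
    (by
      have hk : ∀ k ∈ K, k * y = y * k ∧ k * T.n = T.n * k ∧ k * S.z = S.z * k := fun k hk => by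
        refine ⟨(hKc k hk).symm, ?_⟩
        rw [hK] at hk
        exact ⟨hk.1.cent _ hn, hk.1.cent _ hz⟩
      rintro g (hg | hg)
      · exact hk g hg
      · obtain ⟨h1, h2, h3⟩ := hk _ hg
        have hg' : g = g * y * y := by rw [mul_assoc, hy2, mul_one]
        have key : ∀ w : G, w * y = y * w → g * y * w = w * (g * y) → g * w = w * g := fun w hw hgw => by
          calc g * w = g * y * (y * w) := by rw [← mul_assoc, ← hg']
            _ = g * y * w * y := by rw [← hw]; group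
            _ = w * (g * y * y) := by rw [hgw]; group
            _ = _ := by rw [← hg']
        exact ⟨key y rfl h1, key _ hcn h2, key _ hcz h3⟩)
  have hge := T.card_centralizer_side R hx0 hy hy2
  rw [← hK, hb] at hge
  rw [hcard, pow_succ] at hle
  omega

end Tr

end Cfsg.Lib.CoThreeM12
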