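import Cfsg.Agent.Lib.CoThreeM12.ZeroSide

/-!
# The model `k = 0`: the group `Y = X ⟨t, f 166⟩` and its character

The character is `-1` outside `X ∪ X t f 166`; exactly `32` elements with value `-1` are conjugate to `t`.
-/

set_option autoImplicit false
set_option linter.style.haveILetI false
set_option linter.style.longLine false
set_option linter.unusedSectionVars false
set_option maxRecDepth 100000

namespace Cfsg.Lib.CoThreeM12

open Cfsg Cfsg.Lib.MTwelveRecog Setup

universe u

namespace Tr

variable {G : Type u} [Group G] {S : Setup G} (T : Tr S 0) (R : T.Rels parZero)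

/-- The coset representatives. -/
noncomputable def qq (_T : Tr S 0) (a b : Bool) : G := gsel a S.t * gsel b (S.f 166)

theorem qq_mul (a b a' b' : Bool) : T.qq a b * T.qq a' b' = T.qq (xor a a') (xor b b') := by
  have hs : S.f 166 * S.f 166 = 1 := by rw [← S.fmul, L_gens.2.2.2.2.2.2.2.1, S.fone]
  have hc : gsel b (S.f 166) * gsel a' S.t = gsel a' S.t * gsel b (S.f 166) := by
    cases a' <;> cases b <;> simp [gsel, S.comm_f]
  have e1 : gsel a S.t * gsel a' S.t = gsel (xor a a') S.t := by
    cases a <;> cases a' <;> simp [gsel, S.t_sq]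
  have e2 : gsel b (S.f 166) * gsel b' (S.f 166) = gsel (xor b b') (S.f 166) := by
    cases b <;> cases b' <;> simp [gsel, hs]
  calc T.qq a b * T.qq a' b' = gsel a S.t * (gsel b (S.f 166) * gsel a' S.t) * gsel b' (S.f 166) := by
        unfold qq; group
    _ = gsel a S.t * gsel a' S.t * (gsel b (S.f 166) * gsel b' (S.f 166)) := by rw [hc]; group
    _ = _ := by rw [e1, e2]; rfl

theorem qq_self (a b : Bool) : T.qq a b * T.qq a b = 1 := by
  rw [T.qq_mul]; simp [qq, gsel]

include R

theorem nice_qq (a b : Bool) {x : G} (hx : T.Nice x) : T.Nice (T.qq a b * x * (T.qq a b)⁻¹) := by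
  have key : ∀ {m : G}, T.Normal m → ∀ (e : Bool) {y : G}, T.Nice y → T.Nice (gsel e m * y * (gsel e m)⁻¹) :=
    fun {m} hm e {y} hy => by
      cases e
      · show T.Nice (1 * y * 1⁻¹)
        rwa [inv_one, one_mul, mul_one]
      · obtain ⟨l, hl⟩ := hy.sh
        exact (Normal.conj T R hm hy hl).1
  have := key (T.normal_t R) a (key (T.normal_s R) b hx)
  convert this using 1
  unfold qq; group

/-- Moving `x` past a representative. -/
theorem qq_swap (a b : Bool) {x : G} (hx : T.Nice x) :
    ∃ x', T.Nice x' ∧ x * T.qq a b = T.qq a b * x' := by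
  refine ⟨_, T.nice_qq R a b hx, ?_⟩
  rw [inv_eq_of_mul_eq_one_right (T.qq_self a b), ← mul_assoc (T.qq a b), ← mul_assoc (T.qq a b),
    T.qq_self, one_mul]

/-- The group `Y`. -/
def Y : Subgroup G where
  carrier := {g | ∃ a b x, T.Nice x ∧ g = T.qq a b * x}
  one_mem' := ⟨false, false, 1, T.nice_inC R T.inC_one, by simp [qq, gsel]⟩
  mul_mem' := by
    rintro g g' ⟨a, b, x, hx, rfl⟩ ⟨a', b', x', hx', rfl⟩
    obtain ⟨y, hy, e⟩ := T.qq_swap R a' b' hx
    refine ⟨xor a a', xor b b', y * x', Nice.mul T R hy hx', ?_⟩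
    rw [← T.qq_mul, mul_assoc (T.qq a b), ← mul_assoc x, e]
    group
  inv_mem' := by
    rintro g ⟨a, b, x, hx, rfl⟩
    obtain ⟨y, hy, e⟩ := T.qq_swap R a b (Nice.inv T R hx)
    refine ⟨a, b, y, hy, ?_⟩
    rw [mul_inv_rev, inv_eq_of_mul_eq_one_right (T.qq_self a b), e]

theorem qq_parity (a b : Bool) {x : G} (hx : T.Nice x) :
    (T.qq a b * x * T.n = T.n * (T.qq a b * x) ↔ a = false) ∧
    (T.qq a b * x * S.f 44 = S.f 44 * (T.qq a b * x) ↔ b = false) := by
  have hn := hx.cent _ (T.inC_n R)
  have h44 := hx.cent _ (T.inC_f (show inZ 44 = true by decide +kernel))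
  have k : ∀ w : G, x * w = w * x → (T.qq a b * x * w = w * (T.qq a b * x) ↔ T.qq a b * w = w * T.qq a b) :=
    fun w hw => by
      rw [mul_assoc, hw, ← mul_assoc, ← mul_assoc]
      exact mul_left_inj x
  rw [k _ hn, k _ h44]
  constructor
  · cases a <;> simp only [qq, gsel, cond_false, cond_true, one_mul, iff_true, Bool.true_eq_false, iff_false]
    · cases b <;> simp [T.n_comm_s R]
    · intro h
      have h2 : gsel b (S.f 166) * T.n = T.n * gsel b (S.f 166) := by
        cases b <;> simp [gsel, T.n_comm_s R]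
      change S.t * gsel b (S.f 166) * T.n = T.n * (S.t * gsel b (S.f 166)) at h
      rw [mul_assoc, h2, ← mul_assoc, ← mul_assoc] at h
      have h3 := mul_right_cancel h
      rw [T.t_n] at h3
      exact absurd (S.f_eq_one_iff.1 (mul_left_cancel (a := T.n * S.t) (by rw [h3, mul_one]))) (by decide)
  · have ht : gsel a S.t * S.f 44 = S.f 44 * gsel a S.t := by cases a <;> simp [gsel, S.comm_f]
    cases b
    · simp [qq, gsel] at ht ⊢
      exact ht
    · simp only [qq, gsel, cond_true, Bool.true_eq_false, iff_false]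
      intro h
      change gsel a S.t * S.f 166 * S.f 44 = S.f 44 * (gsel a S.t * S.f 166) at h
      rw [← mul_assoc (S.f 44), ← ht, mul_assoc, mul_assoc] at h
      have h2 := S.cCm_of_comm (mul_left_cancel h)
      rw [L_gens.2.2.2.2.2.2.2.2.1] at h2
      exact Bool.false_ne_true h2

open Classical in
/-- The sign of an element. -/
noncomputable def sign (g : G) : ℤˣ := if (g * T.n = T.n * g ↔ g * S.f 44 = S.f 44 * g) then 1 else -1

theorem sign_qq (a b : Bool) {x : G} (hx : T.Nice x) : T.sign (T.qq a b * x) = if a = b then 1 else -1 := by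
  obtain ⟨h1, h2⟩ := T.qq_parity R a b hx
  unfold sign
  cases a <;> cases b <;> simp_all

/-- The character of `Y`. -/
noncomputable def chiY : T.Y R →* ℤˣ where
  toFun g := T.sign g.1
  map_one' := by
    have h := T.sign_qq R false false (T.nice_inC R T.inC_one)
    simpa [qq, gsel] using h
  map_mul' := by
    rintro ⟨g, a, b, x, hx, rfl⟩ ⟨g', a', b', x', hx', rfl⟩
    obtain ⟨y, hy, e⟩ := T.qq_swap R a' b' hx
    show T.sign (T.qq a b * x * (T.qq a' b' * x')) = _
    rw [show T.qq a b * x * (T.qq a' b' * x') = T.qq a b * (x * T.qq a' b') * x' by group, e,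
      show T.qq a b * (T.qq a' b' * y) * x' = T.qq a b * T.qq a' b' * (y * x') by group, T.qq_mul,
      T.sign_qq R _ _ (Nice.mul T R hy hx'), T.sign_qq R _ _ hx, T.sign_qq R _ _ hx']
    cases a <;> cases b <;> cases a' <;> cases b' <;> simp

theorem card_Y : Nat.card (T.Y R) = 4096 := by
  let F : Bool × Bool × T.X R → T.Y R := fun q => ⟨T.qq q.1 q.2.1 * q.2.2.1, q.1, q.2.1, _, q.2.2.2, rfl⟩
  have hF : Function.Bijective F := by
    refine ⟨fun q q' h => ?_, fun g => ?_⟩
    · obtain ⟨a, b, x⟩ := q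
      obtain ⟨a', b', x'⟩ := q'
      have h' : T.qq a b * x.1 = T.qq a' b' * x'.1 := congrArg Subtype.val h
      have p := T.qq_parity R a b x.2
      have p' := T.qq_parity R a' b' x'.2
      rw [h'] at p
      have ea : a = a' := by
        cases a <;> cases a'
        · rfl
        · exact (p'.1.1 (p.1.2 rfl)).symm
        · exact p.1.1 (p'.1.2 rfl)
        · rfl
      have eb : b = b' := by
        cases b <;> cases b'
        · rfl
        · exact (p'.2.1 (p.2.2 rfl)).symm
        · exact p.2.1 (p'.2.2 rfl)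
        · rfl
      subst ea eb
      exact Prod.ext rfl (Prod.ext rfl (Subtype.ext (mul_left_cancel h')))
    · obtain ⟨g, a, b, x, hx, rfl⟩ := g
      exact ⟨(a, b, ⟨x, hx⟩), rfl⟩
  rw [← Nat.card_eq_of_bijective F hF, Nat.card_prod, Nat.card_prod, T.card_X R, Nat.card_eq_fintype_card,
    Fintype.card_bool]

theorem card_minus [Finite G] (hside : ∀ x, T.Nice x → ¬ IsConj S.t (S.f 166 * x)) :
    Nat.card {y : T.Y R // T.chiY R y = -1 ∧ IsConj S.t (y : G)} = 32 := by
  rw [← T.card_t_class R]
  have et : ∀ x, T.qq true false * x = S.t * x := fun x => by simp [qq, gsel]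
  symm
  refine Nat.card_eq_of_bijective (fun x => ⟨⟨S.t * x.1, true, false, x.1, x.2.1, (et _).symm⟩, ?_, x.2.2⟩)
    ⟨fun x x' h => ?_, fun y => ?_⟩
  · show T.sign (S.t * x.1) = -1
    rw [← et, T.sign_qq R _ _ x.2.1]; rfl
  · exact Subtype.ext (mul_left_cancel (congrArg (fun y : {y : T.Y R // _} => (y.1 : G)) h))
  · obtain ⟨⟨g, a, b, x, hx, rfl⟩, hs, hc⟩ := y
    change T.sign (T.qq a b * x) = -1 at hs
    change IsConj S.t (T.qq a b * x) at hc
    rw [T.sign_qq R a b hx] at hs
    cases a <;> cases b <;> simp at hs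
    · exact absurd (by simpa [qq, gsel] using hc) (hside x hx)
    · refine ⟨⟨x, hx, et x ▸ hc⟩, ?_⟩
      exact Subtype.ext (Subtype.ext (et x).symm)

end Tr

end Cfsg.Lib.CoThreeM12
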